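import Cfsg.Agent.TAB.F24.TabX

/-!
# Faithful characters of `3.Fi₂₄'` : certificates (helper16, TAB)
-/

set_option autoImplicit false
set_option maxRecDepth 100000

namespace Cfsg.Agent.TAB.F24

open Cfsg.Agent.TAB.Eng Cfsg.Agent.TAB.Glue Cfsg.Agent.TAB.Cov

/-- the trivial character -/
def oneX : List ℤ := List.replicate 161 1

/-- an inflated character -/
def iX0 : List ℤ :=
  [.ofNat 8671, .ofNat 8671, .negSucc 32, .negSucc 32, .ofNat 351, .ofNat 351, .ofNat 4, .ofNat 85,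
  .ofNat 85, .ofNat 247, .negSucc 76, .negSucc 76, .ofNat 13, .negSucc 0, .negSucc 0, .negSucc 0, .negSucc 0,
  .ofNat 31, .ofNat 31, .ofNat 21, .ofNat 21, .ofNat 0, .ofNat 0, .ofNat 0, .ofNat 12, .ofNat 12, .negSucc 2,
  .negSucc 2, .negSucc 8, .ofNat 27, .ofNat 27, .ofNat 9, .ofNat 9, .ofNat 3, .ofNat 3, .negSucc 14,
  .negSucc 14, .negSucc 8, .negSucc 8, .negSucc 2, .ofNat 5, .ofNat 5, .negSucc 1, .negSucc 1, .ofNat 7,
  .ofNat 7, .negSucc 0, .negSucc 0, .negSucc 0, .negSucc 0, .negSucc 4, .ofNat 4, .ofNat 4, .ofNat 4,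
  .ofNat 13, .negSucc 4, .negSucc 4, .ofNat 4, .negSucc 2, .negSucc 2, .ofNat 1, .ofNat 1, .ofNat 3,
  .ofNat 3, .negSucc 0, .negSucc 0, .ofNat 2, .ofNat 2, .ofNat 5, .ofNat 5, .ofNat 7, .negSucc 0, .negSucc 0,
  .negSucc 0, .negSucc 0, .negSucc 1, .ofNat 1, .ofNat 1, .ofNat 7, .negSucc 0, .negSucc 0, .negSucc 4,
  .negSucc 4, .ofNat 1, .ofNat 0, .ofNat 0, .ofNat 1, .ofNat 1, .ofNat 2, .ofNat 2, .ofNat 0, .ofNat 0,
  .negSucc 2, .negSucc 2, .ofNat 3, .ofNat 3, .negSucc 0, .negSucc 0, .ofNat 1, .ofNat 1, .ofNat 3, .ofNat 0,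
  .ofNat 0, .ofNat 0, .negSucc 2, .ofNat 3, .ofNat 3, .negSucc 2, .negSucc 2, .ofNat 0, .ofNat 0, .ofNat 0,
  .negSucc 0, .negSucc 0, .ofNat 1, .ofNat 1, .ofNat 2, .negSucc 0, .ofNat 1, .ofNat 1, .negSucc 0,
  .negSucc 0, .ofNat 0, .ofNat 0, .ofNat 1, .ofNat 1, .negSucc 0, .negSucc 0, .negSucc 0, .negSucc 0,
  .negSucc 0, .ofNat 0, .ofNat 0, .ofNat 1, .ofNat 1, .negSucc 0, .negSucc 0, .ofNat 0, .ofNat 0, .ofNat 0,
  .ofNat 0, .ofNat 1, .ofNat 1, .ofNat 0, .ofNat 0, .ofNat 0, .ofNat 0, .negSucc 1, .negSucc 0, .negSucc 0,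
  .ofNat 1, .ofNat 0, .ofNat 0, .negSucc 1, .negSucc 1, .negSucc 0, .negSucc 0, .ofNat 0, .ofNat 0,
  .negSucc 0, .negSucc 0]

theorem iX0_eq : iX0 = proj.map (rw colsT 1) := by decide +kernel

/-- an inflated character -/
def iX1 : List ℤ :=
  [.ofNat 249458, .ofNat 249458, .ofNat 370, .ofNat 370, .ofNat 2354, .ofNat 2354, .ofNat 113, .ofNat 167,
  .ofNat 167, .ofNat 2705, .ofNat 869, .ofNat 869, .ofNat 14, .ofNat 2, .ofNat 2, .ofNat 42, .ofNat 42,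
  .ofNat 50, .ofNat 50, .ofNat 8, .ofNat 8, .ofNat 5, .ofNat 5, .ofNat 13, .ofNat 1, .ofNat 1, .ofNat 7,
  .ofNat 7, .ofNat 49, .ofNat 5, .ofNat 5, .ofNat 23, .ofNat 23, .ofNat 37, .ofNat 37, .ofNat 55, .ofNat 55,
  .ofNat 41, .ofNat 41, .negSucc 1, .ofNat 6, .ofNat 6, .negSucc 0, .negSucc 0, .negSucc 1, .negSucc 1,
  .ofNat 6, .ofNat 6, .ofNat 2, .ofNat 2, .ofNat 5, .ofNat 2, .ofNat 2, .ofNat 32, .ofNat 23, .ofNat 14,
  .ofNat 14, .ofNat 5, .ofNat 0, .ofNat 0, .ofNat 4, .ofNat 4, .ofNat 0, .ofNat 0, .negSucc 2, .negSucc 2,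
  .negSucc 0, .negSucc 0, .negSucc 0, .negSucc 0, .ofNat 5, .ofNat 3, .ofNat 3, .ofNat 5, .ofNat 5,
  .ofNat 11, .negSucc 0, .negSucc 0, .ofNat 29, .ofNat 9, .ofNat 9, .ofNat 5, .ofNat 5, .ofNat 2, .ofNat 1,
  .ofNat 1, .ofNat 2, .ofNat 2, .negSucc 0, .negSucc 0, .ofNat 2, .ofNat 2, .ofNat 5, .ofNat 5, .negSucc 0,
  .negSucc 0, .ofNat 0, .ofNat 0, .ofNat 0, .ofNat 0, .ofNat 1, .ofNat 4, .ofNat 2, .ofNat 2, .ofNat 7,
  .ofNat 2, .ofNat 2, .negSucc 0, .negSucc 0, .negSucc 1, .negSucc 1, .negSucc 1, .ofNat 2, .ofNat 2,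
  .ofNat 0, .ofNat 0, .ofNat 3, .ofNat 0, .negSucc 0, .negSucc 0, .ofNat 0, .ofNat 0, .ofNat 0, .ofNat 0,
  .ofNat 1, .ofNat 1, .ofNat 3, .ofNat 3, .negSucc 0, .negSucc 0, .ofNat 0, .ofNat 1, .ofNat 1, .ofNat 2,
  .negSucc 0, .ofNat 0, .ofNat 0, .ofNat 0, .ofNat 0, .ofNat 0, .ofNat 0, .ofNat 1, .ofNat 1, .ofNat 0,
  .ofNat 0, .ofNat 1, .ofNat 1, .ofNat 2, .ofNat 0, .ofNat 0, .negSucc 0, .ofNat 1, .ofNat 1, .negSucc 0,
  .negSucc 0, .negSucc 0, .negSucc 0, .negSucc 0, .negSucc 0, .negSucc 0, .negSucc 0]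

theorem iX1_eq : iX1 = proj.map (rw colsT 3) := by decide +kernel

/-- an inflated character -/
def iX2 : List ℤ :=
  [.ofNat 57477, .ofNat 57477, .ofNat 133, .ofNat 133, .ofNat 1157, .ofNat 1157, .ofNat 48, .ofNat 210,
  .ofNat 210, .ofNat 534, .ofNat 615, .ofNat 615, .negSucc 14, .ofNat 5, .ofNat 5, .ofNat 21, .ofNat 21,
  .ofNat 69, .ofNat 69, .ofNat 27, .ofNat 27, .negSucc 3, .negSucc 3, .ofNat 4, .ofNat 16, .ofNat 16,
  .ofNat 10, .ofNat 10, .ofNat 22, .ofNat 23, .ofNat 23, .ofNat 14, .ofNat 14, .ofNat 7, .ofNat 7, .ofNat 70,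
  .ofNat 70, .ofNat 86, .ofNat 86, .ofNat 1, .ofNat 14, .ofNat 14, .ofNat 0, .ofNat 0, .ofNat 5, .ofNat 5,
  .ofNat 5, .ofNat 5, .negSucc 2, .negSucc 2, .ofNat 3, .ofNat 3, .ofNat 3, .negSucc 5, .ofNat 12, .ofNat 30,
  .ofNat 30, .negSucc 5, .ofNat 3, .ofNat 3, .ofNat 7, .ofNat 7, .ofNat 2, .ofNat 2, .ofNat 3, .ofNat 3,
  .ofNat 2, .ofNat 2, .ofNat 2, .ofNat 2, .ofNat 6, .ofNat 0, .ofNat 0, .negSucc 0, .negSucc 0, .ofNat 6,
  .ofNat 6, .ofNat 6, .ofNat 6, .ofNat 6, .ofNat 6, .ofNat 15, .ofNat 15, .negSucc 2, .ofNat 4, .ofNat 4,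
  .ofNat 2, .ofNat 2, .ofNat 0, .ofNat 0, .ofNat 0, .ofNat 0, .ofNat 9, .ofNat 9, .ofNat 0, .ofNat 0,
  .ofNat 1, .ofNat 1, .ofNat 0, .ofNat 0, .ofNat 1, .negSucc 1, .negSucc 0, .negSucc 0, .ofNat 4, .ofNat 2,
  .ofNat 2, .ofNat 8, .ofNat 8, .ofNat 1, .ofNat 1, .ofNat 1, .ofNat 1, .ofNat 1, .negSucc 0, .negSucc 0,
  .ofNat 2, .negSucc 0, .ofNat 0, .ofNat 0, .ofNat 2, .ofNat 2, .ofNat 0, .ofNat 0, .negSucc 0, .negSucc 0,
  .ofNat 2, .ofNat 2, .ofNat 0, .ofNat 0, .negSucc 0, .ofNat 0, .ofNat 0, .ofNat 0, .ofNat 0, .ofNat 0,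
  .ofNat 0, .negSucc 0, .negSucc 0, .ofNat 0, .ofNat 0, .ofNat 1, .ofNat 1, .negSucc 0, .negSucc 0,
  .negSucc 0, .negSucc 0, .ofNat 0, .ofNat 0, .ofNat 0, .ofNat 0, .ofNat 1, .negSucc 1, .ofNat 2, .ofNat 2,
  .ofNat 0, .ofNat 0, .ofNat 0, .ofNat 0, .ofNat 1, .ofNat 1]

theorem iX2_eq : iX2 = proj.map (rw colsT 2) := by decide +kernel

/-- a seed -/
def sX0 : List ℤ :=
  [.ofNat 418401903063553907097600, .ofNat 0, .ofNat 53508833280, .ofNat 0, .ofNat 0, .ofNat 0,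
  .ofNat 34012224, .ofNat 0, .ofNat 0, .ofNat 0, .ofNat 0, .ofNat 0, .ofNat 0, .ofNat 0, .ofNat 0, .ofNat 0,
  .ofNat 0, .ofNat 0, .ofNat 0, .ofNat 0, .ofNat 0, .ofNat 0, .ofNat 0, .ofNat 0, .ofNat 23328, .ofNat 0,
  .ofNat 0, .ofNat 0, .ofNat 0, .ofNat 0, .ofNat 0, .ofNat 0, .ofNat 0, .ofNat 0, .ofNat 0, .ofNat 0,
  .ofNat 0, .ofNat 0, .ofNat 0, .ofNat 0, .ofNat 0, .ofNat 0, .ofNat 0, .ofNat 0, .ofNat 0, .ofNat 0,
  .ofNat 0, .ofNat 0, .ofNat 0, .ofNat 0, .ofNat 0, .ofNat 0, .ofNat 972, .ofNat 0, .ofNat 0, .ofNat 0,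
  .ofNat 0, .ofNat 0, .ofNat 0, .ofNat 0, .ofNat 0, .ofNat 0, .ofNat 0, .ofNat 0, .ofNat 0, .ofNat 0,
  .ofNat 0, .ofNat 0, .ofNat 0, .ofNat 0, .ofNat 0, .ofNat 0, .ofNat 0, .ofNat 0, .ofNat 0, .ofNat 0,
  .ofNat 0, .ofNat 0, .ofNat 0, .ofNat 0, .ofNat 0, .ofNat 0, .ofNat 0, .ofNat 0, .ofNat 0, .ofNat 0,
  .ofNat 0, .ofNat 0, .ofNat 0, .ofNat 0, .ofNat 0, .ofNat 0, .ofNat 0, .ofNat 0, .ofNat 0, .ofNat 0,
  .ofNat 0, .ofNat 0, .ofNat 0, .ofNat 0, .ofNat 0, .ofNat 0, .ofNat 0, .ofNat 0, .ofNat 0, .ofNat 0,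
  .ofNat 0, .ofNat 0, .ofNat 0, .ofNat 0, .ofNat 108, .ofNat 0, .ofNat 0, .ofNat 0, .ofNat 0, .ofNat 0,
  .ofNat 0, .ofNat 0, .ofNat 0, .ofNat 0, .ofNat 0, .ofNat 0, .ofNat 0, .ofNat 0, .ofNat 0, .ofNat 0,
  .ofNat 0, .ofNat 0, .ofNat 0, .ofNat 0, .ofNat 0, .ofNat 0, .ofNat 0, .ofNat 0, .ofNat 0, .ofNat 0,
  .ofNat 0, .ofNat 0, .ofNat 0, .ofNat 0, .ofNat 0, .ofNat 0, .ofNat 0, .ofNat 0, .ofNat 0, .ofNat 0,
  .ofNat 0, .ofNat 0, .ofNat 0, .ofNat 0, .ofNat 0, .ofNat 0, .ofNat 0, .ofNat 0, .ofNat 0, .ofNat 0,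
  .ofNat 0, .ofNat 0, .ofNat 0, .ofNat 0, .ofNat 0]

/-- a seed -/
def sX1 : List ℤ :=
  [.ofNat 1066364742290606654976, .ofNat 0, .ofNat 5985778176, .ofNat 0, .ofNat 2182081524480, .ofNat 0,
  .ofNat 4408992, .ofNat 0, .ofNat 0, .ofNat 0, .ofNat 76517426304, .ofNat 0, .ofNat 0, .ofNat 57024,
  .ofNat 0, .ofNat 0, .ofNat 0, .ofNat 4199040, .ofNat 0, .ofNat 134676, .ofNat 0, .ofNat 0, .ofNat 0,
  .ofNat 0, .ofNat 0, .ofNat 0, .ofNat 0, .ofNat 0, .ofNat 0, .ofNat 839808, .ofNat 0, .ofNat 0, .ofNat 0,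
  .ofNat 93312, .ofNat 0, .ofNat 0, .ofNat 0, .ofNat 0, .ofNat 0, .ofNat 0, .ofNat 1998, .ofNat 0, .ofNat 0,
  .ofNat 738, .ofNat 144, .ofNat 0, .ofNat 0, .ofNat 0, .ofNat 0, .ofNat 0, .ofNat 0, .ofNat 0, .ofNat 0,
  .ofNat 5832, .ofNat 0, .ofNat 0, .ofNat 0, .ofNat 1458, .ofNat 36, .ofNat 0, .ofNat 180, .ofNat 0,
  .ofNat 36, .ofNat 0, .ofNat 0, .ofNat 0, .ofNat 0, .ofNat 0, .ofNat 0, .ofNat 0, .ofNat 0, .ofNat 0,
  .ofNat 0, .ofNat 0, .ofNat 0, .ofNat 0, .ofNat 0, .ofNat 0, .ofNat 0, .ofNat 0, .ofNat 0, .ofNat 0,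
  .ofNat 0, .ofNat 0, .ofNat 54, .ofNat 0, .ofNat 18, .ofNat 0, .ofNat 0, .ofNat 0, .ofNat 0, .ofNat 0,
  .ofNat 0, .ofNat 0, .ofNat 54, .ofNat 0, .ofNat 0, .ofNat 0, .ofNat 3, .ofNat 0, .ofNat 0, .ofNat 0,
  .ofNat 0, .ofNat 0, .ofNat 0, .ofNat 0, .ofNat 0, .ofNat 0, .ofNat 0, .ofNat 0, .ofNat 0, .ofNat 0,
  .ofNat 0, .ofNat 0, .ofNat 0, .ofNat 0, .ofNat 0, .ofNat 0, .ofNat 0, .ofNat 0, .ofNat 0, .ofNat 0,
  .ofNat 3, .ofNat 0, .ofNat 0, .ofNat 0, .ofNat 0, .ofNat 0, .ofNat 0, .ofNat 0, .ofNat 0, .ofNat 0,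
  .ofNat 0, .ofNat 0, .ofNat 0, .ofNat 0, .ofNat 0, .ofNat 0, .ofNat 3, .ofNat 0, .ofNat 0, .ofNat 0,
  .ofNat 0, .ofNat 0, .ofNat 0, .ofNat 3, .ofNat 0, .ofNat 0, .ofNat 0, .ofNat 0, .ofNat 0, .ofNat 0,
  .ofNat 0, .ofNat 0, .ofNat 0, .ofNat 0, .ofNat 0, .ofNat 0, .ofNat 0, .ofNat 0, .ofNat 0]

/-- a seed -/
def sX2 : List ℤ :=
  [.ofNat 358630202625903348940800, .ofNat 0, .ofNat 0, .ofNat 0, .ofNat 0, .ofNat 0, .ofNat 0,
  .ofNat 8162933760, .ofNat 0, .ofNat 0, .ofNat 0, .ofNat 0, .ofNat 0, .ofNat 0, .ofNat 0, .ofNat 0,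
  .ofNat 0, .ofNat 0, .ofNat 0, .ofNat 0, .ofNat 0, .ofNat 0, .ofNat 0, .ofNat 0, .ofNat 0, .ofNat 0,
  .ofNat 0, .ofNat 0, .ofNat 0, .ofNat 0, .ofNat 0, .ofNat 0, .ofNat 0, .ofNat 0, .ofNat 0, .ofNat 0,
  .ofNat 0, .ofNat 0, .ofNat 0, .ofNat 0, .ofNat 0, .ofNat 0, .ofNat 0, .ofNat 3528, .ofNat 0, .ofNat 0,
  .ofNat 0, .ofNat 0, .ofNat 0, .ofNat 0, .ofNat 0, .ofNat 0, .ofNat 0, .ofNat 0, .ofNat 0, .ofNat 0,
  .ofNat 0, .ofNat 0, .ofNat 0, .ofNat 0, .ofNat 0, .ofNat 0, .ofNat 0, .ofNat 0, .ofNat 0, .ofNat 0,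
  .ofNat 0, .ofNat 0, .ofNat 0, .ofNat 0, .ofNat 0, .ofNat 0, .ofNat 0, .ofNat 0, .ofNat 0, .ofNat 0,
  .ofNat 0, .ofNat 0, .ofNat 0, .ofNat 0, .ofNat 0, .ofNat 0, .ofNat 0, .ofNat 0, .ofNat 0, .ofNat 0,
  .ofNat 0, .ofNat 0, .ofNat 0, .ofNat 0, .ofNat 0, .ofNat 0, .ofNat 0, .ofNat 0, .ofNat 0, .ofNat 0,
  .ofNat 0, .ofNat 0, .ofNat 0, .ofNat 0, .ofNat 0, .ofNat 0, .ofNat 0, .ofNat 0, .ofNat 0, .ofNat 0,
  .ofNat 0, .ofNat 0, .ofNat 0, .ofNat 0, .ofNat 0, .ofNat 0, .ofNat 0, .ofNat 0, .ofNat 0, .ofNat 0,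
  .ofNat 0, .ofNat 0, .ofNat 72, .ofNat 0, .ofNat 0, .ofNat 0, .ofNat 0, .ofNat 0, .ofNat 0, .ofNat 0,
  .ofNat 0, .ofNat 0, .ofNat 0, .ofNat 0, .ofNat 0, .ofNat 0, .ofNat 0, .ofNat 0, .ofNat 0, .ofNat 0,
  .ofNat 0, .ofNat 0, .ofNat 0, .ofNat 0, .ofNat 0, .ofNat 0, .ofNat 0, .ofNat 0, .ofNat 0, .ofNat 0,
  .ofNat 0, .ofNat 0, .ofNat 0, .ofNat 0, .ofNat 0, .ofNat 0, .ofNat 0, .ofNat 0, .ofNat 0, .ofNat 0,
  .ofNat 0, .ofNat 0, .ofNat 0, .ofNat 0, .ofNat 0]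

/-- a seed -/
def sX3 : List ℤ :=
  [.ofNat 228219219852847585689600, .ofNat 0, .ofNat 0, .ofNat 0, .ofNat 0, .ofNat 0, .ofNat 0, .ofNat 0,
  .ofNat 0, .ofNat 0, .ofNat 881596846080, .ofNat 0, .ofNat 0, .ofNat 0, .ofNat 0, .ofNat 0, .ofNat 0,
  .ofNat 0, .ofNat 0, .ofNat 0, .ofNat 0, .ofNat 0, .ofNat 0, .ofNat 0, .ofNat 0, .ofNat 0, .ofNat 0,
  .ofNat 0, .ofNat 0, .ofNat 0, .ofNat 0, .ofNat 0, .ofNat 0, .ofNat 0, .ofNat 0, .ofNat 0, .ofNat 0,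
  .ofNat 0, .ofNat 0, .ofNat 0, .ofNat 0, .ofNat 0, .ofNat 0, .ofNat 0, .ofNat 0, .ofNat 0, .ofNat 0,
  .ofNat 0, .ofNat 0, .ofNat 0, .ofNat 0, .ofNat 0, .ofNat 0, .ofNat 0, .ofNat 0, .ofNat 0, .ofNat 0,
  .ofNat 0, .ofNat 0, .ofNat 0, .ofNat 0, .ofNat 0, .ofNat 240, .ofNat 0, .ofNat 0, .ofNat 0, .ofNat 0,
  .ofNat 0, .ofNat 0, .ofNat 0, .ofNat 0, .ofNat 0, .ofNat 0, .ofNat 0, .ofNat 0, .ofNat 0, .ofNat 0,
  .ofNat 0, .ofNat 0, .ofNat 0, .ofNat 0, .ofNat 0, .ofNat 0, .ofNat 0, .ofNat 0, .ofNat 0, .ofNat 0,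
  .ofNat 0, .ofNat 0, .ofNat 0, .ofNat 0, .ofNat 0, .ofNat 0, .ofNat 0, .ofNat 0, .ofNat 0, .ofNat 0,
  .ofNat 0, .ofNat 0, .ofNat 0, .ofNat 0, .ofNat 0, .ofNat 0, .ofNat 0, .ofNat 0, .ofNat 0, .ofNat 0,
  .ofNat 0, .ofNat 0, .ofNat 0, .ofNat 0, .ofNat 0, .ofNat 0, .ofNat 0, .ofNat 0, .ofNat 0, .ofNat 0,
  .ofNat 0, .ofNat 0, .ofNat 0, .ofNat 0, .ofNat 0, .ofNat 0, .ofNat 0, .ofNat 0, .ofNat 0, .ofNat 0,
  .ofNat 0, .ofNat 0, .ofNat 0, .ofNat 0, .ofNat 0, .ofNat 0, .ofNat 0, .ofNat 0, .ofNat 0, .ofNat 0,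
  .ofNat 0, .ofNat 0, .ofNat 0, .ofNat 0, .ofNat 0, .ofNat 0, .ofNat 60, .ofNat 0, .ofNat 0, .ofNat 0,
  .ofNat 0, .ofNat 0, .ofNat 0, .ofNat 0, .ofNat 0, .ofNat 0, .ofNat 0, .ofNat 0, .ofNat 0, .ofNat 0,
  .ofNat 0, .ofNat 0, .ofNat 0, .ofNat 0]

/-- a seed -/
def sX4 : List ℤ :=
  [.ofNat 11873999667833856, .ofNat 0, .ofNat 14515200, .ofNat 0, .ofNat 8539914240, .ofNat 0, .ofNat 162000,
  .ofNat 15585696, .ofNat 0, .ofNat 1147478400, .ofNat 167080320, .ofNat 0, .ofNat 0, .ofNat 2304, .ofNat 0,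
  .ofNat 0, .ofNat 0, .ofNat 622080, .ofNat 0, .ofNat 25056, .ofNat 0, .ofNat 0, .ofNat 0, .ofNat 432,
  .ofNat 0, .ofNat 0, .ofNat 864, .ofNat 0, .ofNat 3456, .ofNat 11664, .ofNat 0, .ofNat 15552, .ofNat 0,
  .ofNat 33696, .ofNat 0, .ofNat 0, .ofNat 0, .ofNat 435456, .ofNat 0, .ofNat 0, .ofNat 1638, .ofNat 0,
  .ofNat 0, .ofNat 0, .ofNat 288, .ofNat 0, .ofNat 0, .ofNat 0, .ofNat 0, .ofNat 0, .ofNat 252, .ofNat 72,
  .ofNat 0, .ofNat 2214, .ofNat 2304, .ofNat 6210, .ofNat 0, .ofNat 0, .ofNat 0, .ofNat 0, .ofNat 240,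
  .ofNat 0, .ofNat 36, .ofNat 0, .ofNat 0, .ofNat 0, .ofNat 0, .ofNat 0, .ofNat 0, .ofNat 0, .ofNat 288,
  .ofNat 0, .ofNat 0, .ofNat 72, .ofNat 0, .ofNat 0, .ofNat 0, .ofNat 0, .ofNat 2592, .ofNat 0, .ofNat 0,
  .ofNat 0, .ofNat 0, .ofNat 0, .ofNat 72, .ofNat 0, .ofNat 18, .ofNat 0, .ofNat 0, .ofNat 0, .ofNat 36,
  .ofNat 0, .ofNat 450, .ofNat 0, .ofNat 0, .ofNat 0, .ofNat 0, .ofNat 0, .ofNat 3, .ofNat 0, .ofNat 0,
  .ofNat 18, .ofNat 0, .ofNat 0, .ofNat 0, .ofNat 54, .ofNat 0, .ofNat 0, .ofNat 0, .ofNat 0, .ofNat 0,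
  .ofNat 0, .ofNat 0, .ofNat 0, .ofNat 0, .ofNat 0, .ofNat 12, .ofNat 0, .ofNat 0, .ofNat 0, .ofNat 0,
  .ofNat 0, .ofNat 3, .ofNat 0, .ofNat 0, .ofNat 0, .ofNat 0, .ofNat 0, .ofNat 0, .ofNat 0, .ofNat 0,
  .ofNat 0, .ofNat 0, .ofNat 3, .ofNat 0, .ofNat 0, .ofNat 0, .ofNat 0, .ofNat 0, .ofNat 0, .ofNat 0,
  .ofNat 6, .ofNat 0, .ofNat 0, .ofNat 0, .ofNat 3, .ofNat 0, .ofNat 0, .ofNat 0, .ofNat 0, .ofNat 0,
  .ofNat 3, .ofNat 0, .ofNat 0, .ofNat 0, .ofNat 0, .ofNat 0, .ofNat 0, .ofNat 0, .ofNat 0, .ofNat 0]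

/-- a seed -/
def sX5 : List ℤ :=
  [.ofNat 167360761225421562839040, .ofNat 0, .ofNat 0, .ofNat 0, .ofNat 0, .ofNat 0, .ofNat 0, .ofNat 0,
  .ofNat 0, .ofNat 0, .ofNat 646504353792, .ofNat 0, .ofNat 0, .ofNat 0, .ofNat 0, .ofNat 0, .ofNat 0,
  .ofNat 0, .ofNat 0, .ofNat 483840, .ofNat 0, .ofNat 0, .ofNat 0, .ofNat 0, .ofNat 0, .ofNat 0, .ofNat 0,
  .ofNat 0, .ofNat 0, .ofNat 0, .ofNat 0, .ofNat 0, .ofNat 0, .ofNat 0, .ofNat 0, .ofNat 0, .ofNat 0,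
  .ofNat 0, .ofNat 0, .ofNat 0, .ofNat 0, .ofNat 0, .ofNat 0, .ofNat 0, .ofNat 0, .ofNat 0, .ofNat 0,
  .ofNat 0, .ofNat 0, .ofNat 0, .ofNat 0, .ofNat 0, .ofNat 0, .ofNat 0, .ofNat 0, .ofNat 209952, .ofNat 0,
  .ofNat 0, .ofNat 0, .ofNat 0, .ofNat 0, .ofNat 0, .ofNat 0, .ofNat 0, .ofNat 0, .ofNat 0, .ofNat 0,
  .ofNat 0, .ofNat 0, .ofNat 0, .ofNat 0, .ofNat 0, .ofNat 0, .ofNat 0, .ofNat 0, .ofNat 0, .ofNat 0,
  .ofNat 0, .ofNat 0, .ofNat 0, .ofNat 0, .ofNat 0, .ofNat 0, .ofNat 0, .ofNat 0, .ofNat 0, .ofNat 0,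
  .ofNat 0, .ofNat 0, .ofNat 0, .ofNat 0, .ofNat 0, .ofNat 0, .ofNat 0, .ofNat 432, .ofNat 0, .ofNat 0,
  .ofNat 0, .ofNat 0, .ofNat 0, .ofNat 0, .ofNat 0, .ofNat 0, .ofNat 0, .ofNat 0, .ofNat 0, .ofNat 0,
  .ofNat 0, .ofNat 0, .ofNat 0, .ofNat 0, .ofNat 0, .ofNat 0, .ofNat 0, .ofNat 0, .ofNat 0, .ofNat 0,
  .ofNat 0, .ofNat 0, .ofNat 0, .ofNat 0, .ofNat 0, .ofNat 0, .ofNat 0, .ofNat 0, .ofNat 0, .ofNat 0,
  .ofNat 0, .ofNat 0, .ofNat 0, .ofNat 0, .ofNat 0, .ofNat 0, .ofNat 0, .ofNat 0, .ofNat 0, .ofNat 0,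
  .ofNat 0, .ofNat 0, .ofNat 0, .ofNat 0, .ofNat 0, .ofNat 0, .ofNat 0, .ofNat 0, .ofNat 0, .ofNat 0,
  .ofNat 0, .ofNat 0, .ofNat 0, .ofNat 0, .ofNat 0, .ofNat 0, .ofNat 0, .ofNat 0, .ofNat 0, .ofNat 0,
  .ofNat 72, .ofNat 0, .ofNat 0, .ofNat 0]

/-- the new seeds -/
def sdX : List (List ℤ × ℕ × ℕ) := [(sX0, 110, 0), (sX1, 1, 6), (sX2, 118, 0), (sX3, 143, 0), (sX4, 0, 2), (sX5, 157, 0)]

theorem ok_sdX : chkSd DX [piX, oneX, iX0, iX1, iX2] sdX = true := by decide +kernel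

/-- the seeds -/
def seedsX : List (List ℤ) := [piX, oneX, iX0, iX1, iX2] ++ sdX.map Prod.fst

/-- the levels -/
def lvX : List Lv :=
  [⟨31, 2, 1, [], true⟩, ⟨32, 2, 1, [], true⟩, ⟨33, 2, 1, [], true⟩, ⟨36, 2, 1, [], true⟩,
  ⟨39, 2, 1, [], true⟩, ⟨40, 2, 1, [], true⟩, ⟨46, 1, 1, [], true⟩, ⟨48, 1, 1, [], true⟩,
  ⟨18, 2, 144, [], true⟩, ⟨2, 2, 1, [8], true⟩, ⟨7, 2, 1, [46], true⟩, ⟨11, 2, 1, [63], true⟩,
  ⟨12, 2, 1, [96], true⟩, ⟨13, 2, 1, [132], true⟩, ⟨16, 2, 1, [44], true⟩, ⟨19, 2, 1, [63], true⟩,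
  ⟨22, 2, 1, [132], true⟩, ⟨26, 2, 1, [81], true⟩, ⟨29, 2, 1, [30], true⟩, ⟨30, 2, 1, [111], true⟩,
  ⟨37, 2, 1, [112], true⟩, ⟨41, 2, 1, [96], true⟩, ⟨43, 1, 1, [34], true⟩, ⟨44, 1, 1, [126], true⟩,
  ⟨45, 1, 1, [96], true⟩, ⟨3, 2, 2, [66], true⟩, ⟨5, 2, 1, [1, 40], true⟩, ⟨9, 2, 1, [1, 90], true⟩,
  ⟨10, 2, 1, [1, 58], true⟩, ⟨20, 2, 1, [1, 41], true⟩, ⟨23, 2, 1, [1, 9], true⟩, ⟨24, 2, 1, [1, 9], true⟩,
  ⟨27, 2, 1, [1, 25], true⟩, ⟨28, 2, 1, [1, 25], true⟩, ⟨38, 2, 1, [1, 69], true⟩, ⟨0, 2, 3, [0, 129], true⟩,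
  ⟨1, 2, 1, [1, 0, 35], true⟩, ⟨14, 2, 1, [1, 0, 10], true⟩, ⟨15, 2, 1, [2, 0, 38], true⟩,
  ⟨21, 2, 1, [2, 0, 8], true⟩, ⟨25, 2, 1, [1, 1, 37], true⟩, ⟨42, 1, 1, [1, 0, 43], true⟩,
  ⟨4, 2, 3, [0, 0, 15], true⟩, ⟨6, 2, 1, [1, 1, 0, 82], true⟩, ⟨8, 2, 1, [1, 1, 0, 96], true⟩,
  ⟨17, 2, 1, [2, 1, 1, 17], true⟩, ⟨34, 2, 1, [1, 1, 0, 48], true⟩, ⟨35, 2, 1, [1, 1, 1, 117], true⟩,
  ⟨47, 1, 1, [1, 1, 0, 48], true⟩]

theorem ok_lvX : okQ nmX.length nmX lvX 4 4 = true := by decide +kernel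

theorem okJ_lvX : okJ nmX.length lvX = true := by decide +kernel

/-- the other rows modulo the first ones -/
def exX : List (List (ℤ × ℕ)) :=
  [[(1, 49)], [(1, 50), (1, 0), (1, 3), (2, 4), (134, 18)], [(1, 51), (2, 0), (2, 4), (88, 18)], [(1, 52),
  (1, 0), (1, 4), (119, 18)], [(1, 53), (1, 0), (1, 4), (58, 18)], [(1, 54), (1, 3), (2, 4), (14, 18)],
  [(1, 55), (1, 0), (1, 4), (54, 18)], [(1, 56), (1, 0), (1, 3), (1, 4), (64, 18)], [(1, 57), (1, 0), (1, 4),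
  (55, 18)], [(1, 58), (2, 0), (2, 4), (64, 18)], [(1, 59), (2, 0), (1, 3), (2, 4), (85, 18)], [(1, 60),
  (1, 0), (1, 3), (1, 4), (98, 18)], [(1, 61), (1, 0), (1, 4), (88, 18)], [(1, 62), (1, 0), (1, 4),
  (134, 18)], [(1, 63), (1, 0), (1, 4), (97, 18)], [(1, 64), (1, 0), (1, 4), (79, 18)], [(1, 65), (2, 0),
  (1, 3), (2, 4), (40, 18)]]

theorem ok_exX : okE nmX.length regX.length exX = true := by decide +kernel

theorem lt_exX : ∀ x ∈ rels lvX [] ++ exX, ∀ p ∈ x, p.2 < 66 := by decide +kernel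

/-- certificates -/
def gX_2_0 : ℕ × ℕ × List Cert := (2, 21,
  [⟨0, [.one, .gen 0 1 0, .gen 2 1 0, .gen 3 1 0, .gen 6 1 0, .gen 9 1 0, .mul 4 4, .mul 5 4, .mul 6 3, .lin
  [(10008, 8), (1309916, 7), (1966360, 6), (2026752, 5), (2007988, 4), (13608, 3), (634072, 2), (1642556, 1),
  (1582322, 0)], .lin [(641780, 9), (260086, 8), (30932, 7), (743216, 6), (36494, 5), (1604136, 4), (2046860,
  3), (1386614, 2), (167389, 1)], .lin [(157348, 10), (220723, 9), (603700, 8), (1364904, 7), (1767722, 6),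
  (1444299, 5), (964572, 4), (673899, 3)], .lin [(764256, 11), (2003068, 10), (372936, 9), (878948, 8),
  (953038, 7), (696377, 6), (345078, 5)], .lin [(1994938, 12), (315692, 11), (1579314, 10), (444364, 9),
  (55245, 8), (51509, 7)], .lin [(1685685, 13), (147535, 12), (1064663, 11), (702141, 10), (565597, 7)], .lin
  [(1665449, 14), (867415, 13), (802539, 12), (694029, 11)], .lin [(1710945, 15), (524242, 14), (1956241,
  13)], .lin [(741848, 16), (647241, 15)], .lin [(1, 17)]], [(0, 1), (1, 256), (2, 1024), (3, 256), (4, 32),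
  (5, 4096), (6, 64), (7, 64), (8, 128), (9, 32)]⟩, ⟨1, [.one, .gen 2 1 0, .gen 3 1 0, .gen 4 1 0, .gen 6 3
  0, .gen 9 3 0, .mul 4 4, .mul 4 4, .mul 5 4, .lin [(49730, 8), (858748, 7), (19720, 6), (1838256, 5),
  (782140, 4), (916348, 3), (1067946, 2), (1755400, 1), (650392, 0)], .lin [(384951, 9), (1817722, 8),
  (424380, 7), (1837560, 6), (863662, 5), (1765222, 4), (1816123, 3), (1139500, 2), (1793844, 1)], .lin
  [(1830970, 10), (1374672, 9), (1369601, 8), (1644318, 7), (1340494, 6), (1259818, 5), (985404, 3),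
  (1260251, 2)], .lin [(1758292, 11), (1600384, 10), (728544, 9), (1600324, 8), (905786, 7), (617429, 6),
  (897958, 4)], .lin [(584830, 12), (30450, 11), (1460560, 10), (2045700, 9), (362029, 8), (1309333, 7)],
  .lin [(185190, 13), (1348695, 12), (1221542, 11), (252381, 10), (1461781, 6)], .lin [(902830, 14), (392171,
  13), (1755666, 12), (1292805, 11)], .lin [(675635, 15), (245991, 14), (2037914, 13)], .lin [(326202, 16),
  (1064699, 14)], .lin [(1, 17)]], [(0, 1), (1, 256), (2, 1024), (3, 256), (4, 32), (5, 4096), (6, 64), (7,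
  32), (8, 128), (9, 32)]⟩, ⟨6, [.one, .gen 0 1 0, .gen 2 1 0, .gen 3 1 0, .gen 4 1 0, .gen 6 1 0, .gen 0 3
  0, .mul 5 4, .mul 5 0, .lin [(150566, 8), (1048576, 7), (1705948, 6), (1586306, 5), (1453222, 4), (1025290,
  3), (2068473, 2)], .lin [(1835017, 9), (524286, 7), (262143, 6), (1835009, 5), (1494592, 4), (1625292, 2),
  (847599, 1)], .lin [(1572873, 10), (1048576, 9), (1048574, 8), (524287, 7), (1572865, 6), (643130, 5)],
  .lin [(1048576, 10), (858083, 6), (860868, 4)], .lin [(1048576, 11), (349526, 10), (583621, 5)], .lin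
  [(2097147, 13), (1048576, 12), (2097125, 11), (1, 10)], .lin [(2, 14), (349525, 13), (13, 12)], .lin
  [(564622, 15), (2003049, 14)], .lin [(1, 16)]], [(0, 1), (1, 4), (2, 2), (3, 8), (4, 8), (5, 32), (6, 8),
  (7, 8), (8, 16)]⟩, ⟨7, [.one, .gen 0 1 0, .gen 2 1 0, .gen 3 1 0, .gen 9 1 0, .gen 0 3 0, .mul 4 3, .mul 5
  0, .lin [(30402, 7), (1776887, 6), (1270687, 5), (856859, 4), (1699031, 3), (989219, 2), (1712782, 1),
  (576234, 0)], .lin [(1298090, 8), (1428535, 7), (385616, 6), (604482, 5), (519106, 4), (2002131, 2),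
  (932325, 1)], .lin [(2037236, 9), (734070, 8), (1448126, 7), (1862454, 6), (1558171, 5), (1074012, 3)],
  .lin [(824563, 10), (283231, 9), (809525, 8), (280110, 7), (1646985, 6)], .lin [(1501856, 11), (209351,
  10), (60073, 9), (1791319, 8)], .lin [(538732, 12), (1245335, 11), (547891, 6)], .lin [(1153442, 13),
  (1260233, 12)], .lin [(1, 14)]], [(0, 1), (1, 8), (2, 16), (3, 64), (4, 8), (5, 16), (6, 64), (7, 8)]⟩, ⟨8,
  [.one, .gen 2 1 0, .gen 3 1 0, .gen 4 1 0, .gen 0 3 0, .mul 3 3, .gen 2 1 1, .gen 3 1 1, .lin [(1396475,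
  7), (748237, 6), (404968, 5), (1504337, 4), (38789, 3), (1703154, 2), (1893420, 1), (1538952, 0)], .lin
  [(1436115, 8), (1028985, 7), (1803320, 6), (482681, 5), (1236972, 4), (1871423, 3), (1271302, 2), (197985,
  1)], .lin [(1928020, 9), (1602022, 8), (819855, 7), (1997602, 6), (1408331, 5), (1045125, 4), (1172746,
  3)], .lin [(1274987, 10), (600394, 9), (1658857, 8), (680430, 7), (1057549, 6)], .lin [(1703925, 11),
  (404137, 10), (600748, 9), (1627477, 8)], .lin [(526589, 12), (1777521, 11), (126473, 6)], .lin [(548127,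
  13), (881757, 12)], .lin [(1, 14)]], [(0, 1), (1, 8), (2, 8), (3, 64), (4, 8), (5, 8), (6, 32), (7, 8)]⟩,
  ⟨10, [.one, .gen 0 1 0, .gen 2 1 0, .gen 3 1 0, .gen 9 1 0, .gen 0 3 0, .gen 2 3 0, .lin [(1450581, 6),
  (1010348, 5), (1816076, 4), (278366, 3), (1389154, 2), (1479690, 1), (718259, 0)], .lin [(1842765, 7),
  (821664, 6), (1460156, 5), (1374779, 4), (468560, 3), (1797967, 2)], .lin [(2081321, 8), (1345810, 7),
  (71524, 6), (617641, 5), (1600334, 4)], .lin [(794910, 9), (1422476, 8), (868026, 7), (541267, 5)], .lin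
  [(727531, 10), (1675537, 9), (1952970, 8)], .lin [(1290561, 11), (806597, 9)], .lin [(1, 12)]], [(0, 1),
  (1, 8), (2, 64), (3, 8), (4, 16), (5, 64), (6, 32)]⟩, ⟨11, [.one, .gen 2 1 0, .gen 3 1 0, .gen 4 1 0, .gen
  0 3 0, .mul 3 3, .mul 4 1, .lin [(808449, 6), (2024684, 5), (1858787, 4), (952456, 3), (1931282, 2),
  (582076, 1), (330031, 0)], .lin [(568973, 7), (1800252, 6), (1750315, 5), (539008, 4), (120447, 3),
  (613744, 2)], .lin [(131613, 8), (1060492, 7), (1960299, 6), (1823442, 5), (1339450, 3)], .lin [(22303, 9),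
  (1409942, 8), (207902, 6), (763941, 4)], .lin [(1078247, 10), (405898, 9), (570797, 7)], .lin [(1290561,
  11), (806597, 10)], .lin [(1, 12)]], [(0, 1), (1, 8), (2, 64), (3, 8), (4, 16), (5, 64), (6, 16)]⟩, ⟨12,
  [], []⟩, ⟨19, [.one, .gen 0 1 0, .gen 2 1 0, .gen 3 1 0, .gen 9 1 0, .lin [(937230, 4), (1784746, 3),
  (1159938, 2), (1985790, 1), (1368175, 0)], .lin [(131079, 5), (1660245, 4), (393217, 3), (1703937, 2)],
  .lin [(262120, 6), (1179649, 5), (1310716, 4)], .lin [(1310727, 7), (1135957, 5)], .lin [(1, 8)]], [(0, 1),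
  (1, 8), (2, 8), (3, 4), (4, 16)]⟩, ⟨20, [.one, .gen 2 1 0, .gen 3 1 0, .gen 4 1 0, .gen 9 3 0, .lin
  [(1048588, 4), (504578, 3), (2097148, 2), (1553150, 1), (1302639, 0)], .lin [(1048582, 5), (524289, 4),
  (1572863, 2)], .lin [(2097149, 6), (2097151, 5), (524291, 4)], .lin [(1310727, 7), (1135957, 6)], .lin [(1,
  8)]], [(0, 1), (1, 8), (2, 8), (3, 4), (4, 16)]⟩])

theorem ok_gX_2_0 : chkQ DX gX_2_0.1 gX_2_0.2.1 (gX_2_0.1 ^ gX_2_0.2.1) seedsX gX_2_0.2.2 (ntd colsX []) 66 = true := by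
  decide +kernel

/-- certificates -/
def gX_2_1 : ℕ × ℕ × List Cert := (2, 21,
  [⟨40, [.one, .gen 0 1 0, .gen 2 1 0, .lin [(786431, 2), (2009771, 1), (524284, 0)], .lin [(524293, 3),
  (1572863, 1)], .lin [(1, 4)]], [(0, 1), (1, 4), (2, 4)]⟩, ⟨41, [.one, .gen 2 1 0, .gen 4 1 0, .lin
  [(1048577, 2), (1048573, 1), (1, 0)], .lin [(524293, 3), (1572863, 2)], .lin [(1, 4)]], [(0, 1), (1, 4),
  (2, 4)]⟩, ⟨42, [.one, .gen 6 3 0, .lin [(2, 1), (1400943, 0)], .lin [(1, 2)]], [(0, 1), (1, 2)]⟩, ⟨43,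
  [.one, .gen 2 1 0, .lin [(2, 1), (1, 0)], .lin [(1, 2)]], [(0, 1), (1, 4)]⟩, ⟨50, [], []⟩, ⟨51, [.one, .gen
  0 1 0, .gen 2 1 0, .lin [(2, 2), (349525, 1), (1, 0)], .lin [(1048582, 3), (873813, 2)], .lin [(1, 4)]],
  [(0, 1), (1, 4), (2, 2)]⟩, ⟨53, [], []⟩, ⟨55, [.one, .gen 0 1 0, .gen 2 1 0, .lin [(87388, 2), (684487, 1),
  (43689, 0)], .lin [(1835017, 3), (856337, 2)], .lin [(1, 4)]], [(0, 1), (1, 8), (2, 8)]⟩, ⟨56, [.one, .gen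
  3 1 0, .gen 0 3 0, .lin [(1463777, 2), (1618452, 1), (910177, 0)], .lin [(349530, 3), (873813, 2)], .lin
  [(1, 4)]], [(0, 1), (1, 4), (2, 4)]⟩, ⟨62, [.one, .gen 2 1 0, .lin [(1572867, 1), (1572863, 0)], .lin [(1,
  2)]], [(0, 1), (1, 4)]⟩])

theorem ok_gX_2_1 : chkQ DX gX_2_1.1 gX_2_1.2.1 (gX_2_1.1 ^ gX_2_1.2.1) seedsX gX_2_1.2.2 (ntd colsX []) 66 = true := by
  decide +kernel

/-- certificates -/
def gX_2_2 : ℕ × ℕ × List Cert := (2, 21,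
  [⟨63, [.one, .gen 2 1 0, .lin [(1572867, 1), (1572863, 0)], .lin [(1, 2)]], [(0, 1), (1, 4)]⟩, ⟨84, [.one,
  .gen 0 1 0, .lin [(1048582, 1), (873813, 0)], .lin [(1, 2)]], [(0, 1), (1, 4)]⟩, ⟨85, [.one, .gen 6 3 0,
  .lin [(2, 1), (271853, 0)], .lin [(1, 2)]], [(0, 1), (1, 2)]⟩, ⟨90, [.one, .gen 0 1 0, .lin [(1048579, 1),
  (349525, 0)], .lin [(1, 2)]], [(0, 1), (1, 2)]⟩, ⟨91, [.one, .gen 3 1 0, .lin [(2, 1), (1048575, 0)], .lin
  [(1, 2)]], [(0, 1), (1, 2)]⟩, ⟨92, [.one, .gen 0 1 0, .gen 2 1 0, .lin [(1310726, 2), (1004885, 1),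
  (131069, 0)], .lin [(524293, 3), (1339847, 2)], .lin [(1, 4)]], [(0, 1), (1, 4), (2, 8)]⟩, ⟨93, [.one, .gen
  2 1 0, .gen 3 1 0, .lin [(2, 2), (262143, 1), (1835007, 0)], .lin [(3, 3), (1, 2)], .lin [(1, 4)]], [(0,
  1), (1, 4), (2, 4)]⟩, ⟨116, [.one, .gen 0 1 0, .gen 2 1 0, .lin [(2, 2), (349525, 1)], .lin [(1048578, 3),
  (1572863, 1)], .lin [(1, 4)]], [(0, 1), (1, 4), (2, 2)]⟩, ⟨118, [.one, .gen 2 1 0, .lin [(1048577, 1),
  (1048575, 0)], .lin [(1, 2)]], [(0, 1), (1, 2)]⟩, ⟨119, [.one, .gen 2 1 0, .lin [(1048577, 1), (1048575,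
  0)], .lin [(1, 2)]], [(0, 1), (1, 2)]⟩])

theorem ok_gX_2_2 : chkQ DX gX_2_2.1 gX_2_2.2.1 (gX_2_2.1 ^ gX_2_2.2.1) seedsX gX_2_2.2.2 (ntd colsX []) 66 = true := by
  decide +kernel

/-- certificates -/
def gX_3_0 : ℕ × ℕ × List Cert := (3, 17,
  [⟨0, [.one, .gen 0 1 0, .gen 2 1 0, .gen 3 1 0, .gen 4 1 0, .gen 5 1 0, .gen 6 1 0, .gen 9 1 0, .mul 6 6,
  .mul 7 6, .mul 8 6, .mul 9 6, .mul 10 4, .mul 11 4, .mul 11 11, .mul 12 11, .mul 12 12, .mul 13 12, .lin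
  [(64893942, 17), (44365725, 16), (47488266, 15), (92332044, 14), (24282396, 13), (51017799, 12), (15895074,
  11), (15693435, 10), (17217267, 9), (55117179, 8), (34392744, 7), (15321690, 6), (19745958, 5), (41164077,
  4), (8306766, 3), (87338862, 2), (58982013, 1), (38096460, 0)], .lin [(80158494, 18), (69080199, 17),
  (83231835, 16), (47437599, 15), (31257954, 14), (21159773, 13), (23769155, 12), (51830985, 11), (74359285,
  10), (18307722, 9), (122132289, 8), (105004146, 7), (89459159, 6), (33441787, 5), (114063840, 4),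
  (110743881, 3), (35015895, 2)], .lin [(88808973, 19), (113833554, 18), (86229876, 17), (96237591, 16),
  (10620414, 15), (93153021, 14), (42230280, 13), (72132621, 12), (46811436, 11), (123922875, 10), (10429674,
  9), (5426553, 8), (28976652, 7), (86193998, 6), (89599482, 5), (75289107, 4), (80022438, 3), (54350478,
  2)], .lin [(2430120, 20), (126510015, 19), (36643056, 18), (2990208, 17), (102119886, 16), (14500442, 15),
  (11095291, 14), (78405444, 13), (91358025, 12), (6920925, 11), (17134290, 10), (118813308, 9), (97308330,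
  8), (33430296, 7), (69745284, 6), (63394701, 5), (23201586, 4)], .lin [(126461133, 21), (81000183, 20),
  (67858956, 19), (101355300, 18), (1020060, 17), (116712527, 16), (4951636, 15), (11408250, 14), (41929535,
  13), (73480830, 12), (45963039, 11), (38051457, 10), (106197163, 9), (102660404, 8), (95762619, 7)], .lin
  [(21508093, 22), (114787228, 21), (26189899, 20), (110636532, 19), (80224025, 18), (51561209, 17),
  (23247323, 16), (10375084, 15), (79385985, 14), (47841266, 13), (111592897, 12), (89319494, 11), (74480113,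
  8), (56212485, 7), (22502364, 6), (85061285, 5)], .lin [(26911744, 23), (29822128, 22), (113218709, 21),
  (76347058, 20), (37348938, 19), (13397311, 18), (65026867, 17), (128325031, 16), (84349321, 15), (32709596,
  14), (19451206, 13), (18778277, 12), (1140939, 9), (96282863, 8), (41686713, 7)], .lin [(117670814, 24),
  (25983072, 23), (101652283, 22), (74542298, 21), (73906263, 20), (83098864, 19), (126093901, 18),
  (109551100, 17), (51052472, 16), (47725626, 15), (55759342, 14), (113649315, 13), (56442525, 10),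
  (106785730, 9)], .lin [(27840443, 25), (16839573, 24), (80270153, 23), (47146920, 22), (70397451, 21),
  (48589369, 20), (100893241, 19), (36609583, 18), (66283358, 17), (109619475, 16), (51700612, 15),
  (54224126, 11), (20299350, 9)], .lin [(81303729, 26), (46878816, 25), (65764536, 24), (109145718, 23),
  (6237819, 22), (9932618, 21), (86730677, 20), (5648736, 19), (25882276, 18), (101882991, 17), (22100832,
  16), (45575250, 12)], .lin [(86834236, 27), (36373914, 26), (79492579, 25), (50917329, 24), (15352902, 23),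
  (98765835, 20), (22935501, 18), (28305753, 17), (12676201, 13)], .lin [(45495704, 28), (39021436, 27),
  (96476142, 26), (13180723, 25), (31139403, 24), (76881045, 21), (126754190, 19), (18528806, 12)], .lin
  [(32569794, 29), (71429950, 28), (126941265, 27), (61418898, 26), (87181983, 25), (122385738, 22),
  (118210706, 20)], .lin [(103702510, 30), (12484472, 28), (51602922, 27), (25980803, 26)], .lin [(67375827,
  31), (8238979, 30), (69925086, 29), (78453522, 28), (123004673, 24)], .lin [(70446419, 32), (69352435, 30),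
  (111204957, 29)], .lin [(44247281, 33), (24750764, 30)], .lin [(81, 34), (99164843, 33)], .lin [(1, 35)]],
  [(0, 1), (1, 81), (2, 27), (3, 243), (4, 2187), (5, 2187), (6, 177147), (7, 531441), (8, 81), (9, 81), (10,
  27), (11, 81), (12, 729), (13, 81), (14, 729), (15, 2187), (16, 19683), (17, 27), (18, 81)]⟩, ⟨4, [.one,
  .gen 0 1 0, .gen 2 1 0, .gen 3 1 0, .gen 4 1 0, .gen 9 1 0, .gen 0 2 0, .gen 2 2 0, .gen 3 2 0, .gen 4 2 0,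
  .gen 9 2 0, .mul 9 8, .mul 10 8, .mul 11 8, .mul 12 7, .mul 13 7, .lin [(278638, 15), (89837826, 14),
  (126261631, 13), (111947480, 12), (57568712, 11), (105211964, 10), (119904003, 9), (15964854, 8),
  (88168566, 7), (122679848, 6), (106725409, 5), (93471591, 4), (9406196, 3), (94782031, 2), (78338400, 1),
  (94840344, 0)], .lin [(75507682, 16), (41684768, 15), (93846625, 14), (70926608, 13), (54146231, 12),
  (6252060, 11), (80783435, 10), (107679093, 9), (54702534, 8), (109928399, 7), (100620074, 6), (28358572,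
  5), (44340004, 4), (86568555, 2), (108621971, 1)], .lin [(73931500, 17), (35720620, 16), (15007123, 15),
  (109206257, 14), (32537843, 13), (100276627, 12), (31526076, 11), (82929150, 10), (2169171, 9), (102706676,
  8), (22883332, 7), (77972308, 6), (66806932, 5), (3563411, 3)], .lin [(82861483, 18), (31960281, 16),
  (7530728, 15), (56717551, 14), (38619028, 11), (58785248, 10), (110816273, 9)], .lin [(16022232, 19),
  (98500431, 18), (79929642, 17), (42831159, 16), (77648334, 15), (127939527, 14), (13804613, 13), (21626652,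
  12), (9298683, 11), (42203722, 9), (43505346, 8), (118049421, 7)], .lin [(100247244, 20), (52928445, 18),
  (56097188, 17), (83099914, 16), (105456380, 13), (47266799, 12)], .lin [(48398700, 21), (65616113, 20),
  (28119323, 19), (76031092, 18), (115675999, 17), (126687516, 16), (8666942, 15), (44946797, 14), (22075175,
  10), (55751531, 9)], .lin [(103158616, 22), (102258102, 20), (62532891, 19), (79716153, 18), (8045426,
  15)], .lin [(25396572, 23), (86093442, 22), (56694981, 21), (126411720, 20), (67688916, 19), (88400531,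
  18), (59791563, 17), (32489505, 12)], .lin [(68201761, 24), (119751343, 22), (74224583, 21), (109831169,
  20)], .lin [(94552350, 25), (116515425, 23), (100919229, 22), (9853298, 19), (28757564, 14)], .lin
  [(85653631, 26), (100442352, 24), (34525339, 23)], .lin [(114872094, 27), (107616789, 26), (46398657, 25),
  (82992871, 21)], .lin [(27, 28), (10669700, 26)], .lin [(3, 29), (23251603, 28)], .lin [(1, 30)]], [(0, 1),
  (1, 3), (2, 27), (3, 81), (4, 81), (5, 243), (6, 81), (7, 243), (8, 243), (9, 729), (10, 9), (11, 27), (12,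
  27), (13, 81), (14, 81), (15, 243)]⟩, ⟨13, [.one, .gen 0 1 0, .gen 2 1 0, .gen 3 1 0, .gen 4 1 0, .gen 9 1
  0, .gen 0 2 0, .mul 5 4, .lin [(68157321, 7), (32285040, 6), (89680668, 5), (33480785, 4), (16740388, 3),
  (24662184, 2), (72342406, 1), (26904201, 0)], .lin [(43046724, 8), (14348908, 5), (114791255, 4)], .lin
  [(43046718, 9), (28697815, 8), (86093445, 7), (86093445, 6), (86766047, 4), (93267895, 2)], .lin
  [(86093441, 10), (86093443, 8), (1, 7)], .lin [(86093445, 11), (21523359, 10), (86093445, 9), (42374116,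
  6)], .lin [(1, 12), (1, 10)], .lin [(3, 13), (5380840, 12)], .lin [(1, 14)]], [(0, 1), (1, 3), (2, 3), (3,
  9), (4, 3), (5, 9), (6, 9), (7, 27)]⟩, ⟨15, [.one, .gen 0 1 0, .gen 3 1 0, .gen 4 1 0, .gen 0 2 0, .gen 2 2
  0, .gen 4 2 0, .gen 9 2 0, .mul 6 5, .mul 7 3, .lin [(43428003, 9), (78036255, 8), (54276291, 7),
  (78295113, 6), (36195057, 5), (34901808, 4), (55073463, 3), (82252390, 2), (123023088, 1), (8453664, 0)],
  .lin [(40516610, 10), (104185539, 8), (2183526, 7), (48834806, 5), (100199735, 4)], .lin [(117745443, 11),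
  (45363472, 10), (127452057, 9), (28697817, 8), (34825993, 7), (1828782, 6), (121237054, 3), (54101109, 2)],
  .lin [(82295202, 12), (4220267, 10), (71744536, 9), (75542775, 7)], .lin [(24055542, 13), (113556204, 12),
  (6752430, 11), (45280980, 9), (9425262, 8), (60356021, 4)], .lin [(36716328, 14), (112259097, 12),
  (101989780, 9)], .lin [(34437402, 15), (64674040, 14), (54525846, 13), (123941284, 11)], .lin [(111921483,
  16), (123400600, 14)], .lin [(3, 17), (43719326, 16)], .lin [(1, 18)]], [(0, 1), (1, 3), (2, 9), (3, 27),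
  (4, 9), (5, 27), (6, 9), (7, 27), (8, 9), (9, 27)]⟩, ⟨17, [.one, .gen 0 1 0, .gen 2 1 0, .gen 3 1 0, .gen 4
  1 0, .gen 9 1 0, .gen 0 2 0, .gen 3 2 0, .gen 5 2 0, .gen 6 2 0, .gen 0 4 0, .gen 2 4 0, .lin [(116178624,
  11), (914058, 10), (71968743, 9), (105208065, 8), (74434950, 7), (32524812, 6), (59577282, 5), (63851490,
  4), (32521468, 3), (126653285, 2), (31312542, 1), (85746600, 0)], .lin [(6201072, 12), (27199395, 11),
  (54132894, 10), (63681579, 9), (81324162, 8), (19679877, 7), (35434044, 6), (60946830, 5), (101455315, 4),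
  (87332194, 3), (22251294, 2), (122977755, 1)], .lin [(2748014, 13), (32849901, 12), (93983139, 11),
  (1734192, 10), (46356651, 9), (41341260, 8), (125376876, 7), (2896191, 6), (83018094, 3), (53104894, 2)],
  .lin [(103136031, 14), (64719720, 13), (100142919, 12), (38711700, 11), (104626620, 10), (83222418, 9),
  (87513372, 8), (71296380, 7), (58350559, 4)], .lin [(33188760, 15), (19058868, 14), (87006231, 13),
  (31217073, 12), (64880406, 11), (87811751, 10), (98872362, 9), (79265850, 8)], .lin [(91730508, 16),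
  (22719106, 14), (123759324, 13), (69011411, 12), (108214673, 9)], .lin [(88348263, 17), (60982860, 16),
  (25828041, 15), (10044231, 14), (90261457, 13), (87289183, 11)], .lin [(127295307, 18), (111921474, 16),
  (124835490, 15), (23983174, 14)], .lin [(115732169, 19), (125611743, 17), (59277452, 16)], .lin [(91474286,
  20), (5380840, 18)], .lin [(9, 21), (29773982, 20)], .lin [(1, 22)]], [(0, 1), (1, 9), (2, 3), (3, 3), (4,
  9), (5, 27), (6, 27), (7, 81), (8, 243), (9, 9), (10, 81), (11, 27)]⟩, ⟨40, [.one, .gen 0 1 0, .gen 2 1 0,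
  .gen 4 1 0, .lin [(6, 3), (129140159, 1), (1, 0)], .lin [(86093447, 4), (86093441, 2)], .lin [(9, 5),
  (84043598, 4)], .lin [(1, 6)]], [(0, 1), (1, 9), (2, 3), (3, 9)]⟩, ⟨44, [.one, .gen 0 1 0, .gen 2 1 0, .gen
  6 1 0, .lin [(3, 2), (39459494, 0)], .lin [(107616806, 4), (21523360, 2)], .lin [(3, 5), (53808401, 4)],
  .lin [(1, 6)]], [(0, 1), (1, 3), (2, 3), (3, 9)]⟩, ⟨46, [.gen 0 1 0, .gen 3 1 0, .lin [(114791256, 1)],
  .lin [(125552936, 2), (21523362, 1)], .lin [(64570082, 2)]], [(0, 3), (1, 9), (2, 43046721)]⟩])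

theorem ok_gX_3_0 : chkQ DX gX_3_0.1 gX_3_0.2.1 (gX_3_0.1 ^ gX_3_0.2.1) seedsX gX_3_0.2.2 (ntd colsX []) 66 = true := by
  decide +kernel

/-- certificates -/
def gX_3_1 : ℕ × ℕ × List Cert := (3, 17,
  [⟨48, [.one, .gen 3 1 0, .gen 0 2 0, .gen 9 2 0, .lin [(43046727, 3), (43046718, 2), (21523359, 1),
  (42374116, 0)], .lin [(86093444, 4), (86093441, 3)], .lin [(3, 5), (5380840, 3)], .lin [(1, 6)]], [(0, 1),
  (1, 3), (2, 3), (3, 9)]⟩, ⟨58, [.one, .gen 0 1 0, .gen 2 1 0, .gen 6 1 0, .lin [(9, 3), (43046718, 2),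
  (86093445, 1), (1, 0)], .lin [(3, 4), (1, 2)], .lin [(3, 5), (53808401, 4)], .lin [(1, 6)]], [(0, 1), (1,
  3), (2, 3), (3, 9)]⟩, ⟨60, [.one, .gen 3 1 0, .gen 6 1 0, .gen 9 1 0, .lin [(43046733, 3), (86093439, 2),
  (100442351, 1), (64570080, 0)], .lin [(43046725, 4), (86093441, 3)], .lin [(3, 5), (538084, 2)], .lin [(1,
  6)]], [(0, 1), (1, 3), (2, 3), (3, 9)]⟩, ⟨62, [.one, .gen 0 1 0, .gen 2 1 0, .gen 8 1 0, .lin [(9, 3),
  (100442353, 2), (86093439, 1), (6457008, 0)], .lin [(3, 4), (86093441, 2)], .lin [(3, 5), (538084, 2)],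
  .lin [(1, 6)]], [(0, 1), (1, 3), (2, 3), (3, 9)]⟩, ⟨84, [.one, .gen 0 1 0, .gen 4 1 0, .lin [(71744535, 2),
  (57395628, 1), (14348907, 0)], .lin [(43046725, 3), (86093441, 1)], .lin [(9, 4), (93267895, 3)], .lin [(1,
  5)]], [(0, 1), (1, 9), (2, 3), (3, 43046721)]⟩, ⟨86, [.one, .gen 0 1 0, .gen 2 1 0, .gen 6 1 0, .lin
  [(43046724, 3), (107616801, 2), (86093439, 1), (75331763, 0)], .lin [(43046722, 4), (86093441, 2)], .lin
  [(3, 5), (8609344, 4)], .lin [(1, 6)]], [(0, 1), (1, 3), (2, 3), (3, 9)]⟩, ⟨96, [.one, .gen 0 1 0, .lin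
  [(3, 1), (21523360, 0)], .lin [(1, 2)]], [(0, 1), (1, 3)]⟩, ⟨98, [.one, .gen 0 1 0, .lin [(3, 1),
  (86093441, 0)], .lin [(1, 2)]], [(0, 1), (1, 3)]⟩])

theorem ok_gX_3_1 : chkQ DX gX_3_1.1 gX_3_1.2.1 (gX_3_1.1 ^ gX_3_1.2.1) seedsX gX_3_1.2.2 (ntd colsX []) 66 = true := by
  decide +kernel

/-- certificates -/
def gX_3_2 : ℕ × ℕ × List Cert := (3, 17,
  [⟨112, [.one, .gen 0 1 0, .gen 3 1 0, .gen 6 2 0, .lin [(86093448, 3), (86093439, 2), (86093439, 1),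
  (77484098, 0)], .lin [(86093444, 4), (86093441, 2)], .lin [(3, 5), (53808401, 4)], .lin [(1, 6)]], [(0, 1),
  (1, 3), (2, 3), (3, 9)]⟩, ⟨114, [.one, .gen 0 2 0, .lin [(3, 1), (53808401, 0)], .lin [(1, 2)]], [(0, 1),
  (1, 3)]⟩, ⟨120, [.one, .gen 8 2 0, .lin [(3, 1), (538084, 0)], .lin [(1, 2)]], [(0, 1), (1, 3)]⟩, ⟨122,
  [.one, .gen 0 1 0, .lin [(3, 1), (86093441, 0)], .lin [(1, 2)]], [(0, 1), (1, 3)]⟩, ⟨131, [.one, .gen 0 1
  0, .lin [(3, 1), (21523360, 0)], .lin [(1, 2)]], [(0, 1), (1, 3)]⟩, ⟨135, [.one, .gen 0 1 0, .lin [(3, 1),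
  (86093441, 0)], .lin [(1, 2)]], [(0, 1), (1, 3)]⟩, ⟨138, [.one, .gen 6 1 0, .lin [(1, 1)]], [(0, 1), (1,
  3)]⟩, ⟨145, [.one, .gen 0 1 0, .lin [(3, 1), (86093441, 0)], .lin [(1, 2)]], [(0, 1), (1, 3)]⟩])

theorem ok_gX_3_2 : chkQ DX gX_3_2.1 gX_3_2.2.1 (gX_3_2.1 ^ gX_3_2.2.1) seedsX gX_3_2.2.2 (ntd colsX []) 66 = true := by
  decide +kernel

/-- certificates -/
def gX_5_0 : ℕ × ℕ × List Cert := (5, 2,
  [⟨0, [.one], [(0, 1)]⟩, ⟨1, [.one], [(0, 1)]⟩, ⟨2, [.one, .gen 2 1 0, .lin [(8, 1), (1, 0)], .lin [(1,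
  2)]], [(0, 1), (1, 5)]⟩, ⟨3, [.one, .gen 2 1 0, .lin [(8, 1), (1, 0)], .lin [(1, 2)]], [(0, 1), (1, 5)]⟩,
  ⟨4, [.one], [(0, 1)]⟩, ⟨5, [.one], [(0, 1)]⟩, ⟨7, [.one, .gen 2 1 0, .lin [(5, 1), (17, 0)], .lin [(1,
  2)]], [(0, 1), (1, 5)]⟩, ⟨8, [.one, .gen 2 1 0, .lin [(5, 1), (17, 0)], .lin [(1, 2)]], [(0, 1), (1, 5)]⟩,
  ⟨9, [.one, .gen 0 1 0, .lin [(10, 1), (1, 0)], .lin [(1, 2)]], [(0, 1), (1, 5)]⟩, ⟨10, [.one, .gen 0 1 0,
  .lin [(5, 1), (19, 0)], .lin [(1, 2)]], [(0, 1), (1, 5)]⟩, ⟨11, [.one, .gen 2 1 0, .lin [(2, 1), (1, 0)],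
  .lin [(1, 2)]], [(0, 1), (1, 5)]⟩, ⟨15, [.one, .gen 0 1 0, .lin [(2, 1), (19, 0)], .lin [(1, 2)]], [(0, 1),
  (1, 5)]⟩, ⟨16, [.one, .gen 3 1 0, .lin [(4, 1), (13, 0)], .lin [(1, 2)]], [(0, 1), (1, 5)]⟩, ⟨17, [.one,
  .gen 0 1 0, .lin [(5, 1), (17, 0)], .lin [(1, 2)]], [(0, 1), (1, 5)]⟩, ⟨18, [.one, .gen 2 1 0, .lin [(11,
  1), (19, 0)], .lin [(1, 2)]], [(0, 1), (1, 5)]⟩, ⟨35, [.one, .gen 2 1 0, .lin [(5, 1), (17, 0)], .lin [(1,
  2)]], [(0, 1), (1, 5)]⟩, ⟨36, [.one, .gen 2 1 0, .lin [(5, 1), (17, 0)], .lin [(1, 2)]], [(0, 1), (1, 5)]⟩,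
  ⟨37, [.one, .gen 2 1 0, .lin [(17, 1), (13, 0)], .lin [(1, 2)]], [(0, 1), (1, 5)]⟩, ⟨38, [.one, .gen 2 1 0,
  .lin [(17, 1), (13, 0)], .lin [(1, 2)]], [(0, 1), (1, 5)]⟩, ⟨40, [.one, .gen 0 1 0, .lin [(4, 1), (17, 0)],
  .lin [(1, 2)]], [(0, 1), (1, 5)]⟩, ⟨41, [.one, .gen 2 1 0, .lin [(5, 1), (19, 0)], .lin [(1, 2)]], [(0, 1),
  (1, 5)]⟩, ⟨55, [.one, .gen 0 1 0, .lin [(5, 1), (17, 0)], .lin [(1, 2)]], [(0, 1), (1, 5)]⟩, ⟨56, [.one,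
  .gen 2 1 0, .lin [(5, 1), (1, 0)], .lin [(1, 2)]], [(0, 1), (1, 5)]⟩, ⟨79, [.one, .gen 0 1 0, .lin [(2, 1),
  (1, 0)], .lin [(1, 2)]], [(0, 1), (1, 5)]⟩, ⟨80, [.one, .gen 3 1 0, .lin [(22, 1), (17, 0)], .lin [(1,
  2)]], [(0, 1), (1, 5)]⟩])

theorem ok_gX_5_0 : chkQ DX gX_5_0.1 gX_5_0.2.1 (gX_5_0.1 ^ gX_5_0.2.1) seedsX gX_5_0.2.2 (ntd colsX []) 66 = true := by
  decide +kernel

/-- certificates -/
def gX_7_0 : ℕ × ℕ × List Cert := (7, 3,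
  [⟨0, [.one, .gen 0 1 0, .lin [(245, 1), (263, 0)], .lin [(1, 2)]], [(0, 1), (1, 7)]⟩, ⟨1, [.one, .gen 2 1
  0, .lin [(226, 1), (162, 0)], .lin [(1, 2)]], [(0, 1), (1, 7)]⟩, ⟨2, [.one, .gen 0 1 0, .lin [(7, 1), (71,
  0)], .lin [(1, 2)]], [(0, 1), (1, 7)]⟩, ⟨3, [.one, .gen 2 1 0, .lin [(281, 1), (206, 0)], .lin [(1, 2)]],
  [(0, 1), (1, 7)]⟩, ⟨4, [.one, .gen 0 1 0, .lin [(199, 1), (193, 0)], .lin [(1, 2)]], [(0, 1), (1, 7)]⟩, ⟨5,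
  [.one, .gen 2 1 0, .lin [(57, 1), (293, 0)], .lin [(1, 2)]], [(0, 1), (1, 7)]⟩, ⟨7, [.one, .gen 0 1 0, .lin
  [(7, 1), (111, 0)], .lin [(1, 2)]], [(0, 1), (1, 7)]⟩, ⟨8, [.one, .gen 2 1 0, .lin [(248, 1), (102, 0)],
  .lin [(1, 2)]], [(0, 1), (1, 7)]⟩, ⟨9, [], []⟩, ⟨12, [], []⟩, ⟨15, [.one, .gen 0 1 0, .lin [(116, 1), (78,
  0)], .lin [(1, 2)]], [(0, 1), (1, 7)]⟩, ⟨16, [.one, .gen 3 1 0, .lin [(7, 1), (8, 0)], .lin [(1, 2)]], [(0,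
  1), (1, 7)]⟩, ⟨19, [.one, .gen 0 1 0, .lin [(17, 1), (111, 0)], .lin [(1, 2)]], [(0, 1), (1, 7)]⟩, ⟨20,
  [.one, .gen 2 1 0, .lin [(7, 1), (261, 0)], .lin [(1, 2)]], [(0, 1), (1, 7)]⟩, ⟨35, [.one, .gen 0 1 0, .lin
  [(7, 1), (39, 0)], .lin [(1, 2)]], [(0, 1), (1, 7)]⟩, ⟨36, [.one, .gen 2 1 0, .lin [(179, 1), (172, 0)],
  .lin [(1, 2)]], [(0, 1), (1, 7)]⟩, ⟨37, [.one, .gen 0 1 0, .lin [(116, 1), (39, 0)], .lin [(1, 2)]], [(0,
  1), (1, 7)]⟩, ⟨38, [.one, .gen 2 1 0, .lin [(9, 1), (1, 0)], .lin [(1, 2)]], [(0, 1), (1, 7)]⟩])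

theorem ok_gX_7_0 : chkQ DX gX_7_0.1 gX_7_0.2.1 (gX_7_0.1 ^ gX_7_0.2.1) seedsX gX_7_0.2.2 (ntd colsX []) 66 = true := by
  decide +kernel

/-- certificates -/
def gX_11_0 : ℕ × ℕ × List Cert := (11, 1,
  [⟨0, [.one], [(0, 1)]⟩, ⟨1, [.one], [(0, 1)]⟩, ⟨4, [.one], [(0, 1)]⟩, ⟨5, [.one], [(0, 1)]⟩, ⟨10, [.one],
  [(0, 1)]⟩, ⟨11, [.one], [(0, 1)]⟩])

theorem ok_gX_11_0 : chkQ DX gX_11_0.1 gX_11_0.2.1 (gX_11_0.1 ^ gX_11_0.2.1) seedsX gX_11_0.2.2 (ntd colsX []) 66 = true := by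
  decide +kernel

/-- certificates -/
def gX_13_0 : ℕ × ℕ × List Cert := (13, 1,
  [⟨0, [.one], [(0, 1)]⟩, ⟨1, [.one], [(0, 1)]⟩, ⟨4, [.one], [(0, 1)]⟩, ⟨5, [.one], [(0, 1)]⟩, ⟨9, [], []⟩,
  ⟨12, [], []⟩])

theorem ok_gX_13_0 : chkQ DX gX_13_0.1 gX_13_0.2.1 (gX_13_0.1 ^ gX_13_0.2.1) seedsX gX_13_0.2.2 (ntd colsX []) 66 = true := by
  decide +kernel

/-- certificates -/
def gX_17_0 : ℕ × ℕ × List Cert := (17, 1,
  [⟨0, [.one], [(0, 1)]⟩, ⟨1, [.one], [(0, 1)]⟩])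

theorem ok_gX_17_0 : chkQ DX gX_17_0.1 gX_17_0.2.1 (gX_17_0.1 ^ gX_17_0.2.1) seedsX gX_17_0.2.2 (ntd colsX []) 66 = true := by
  decide +kernel

/-- certificates -/
def gX_23_0 : ℕ × ℕ × List Cert := (23, 1,
  [⟨0, [.one], [(0, 1)]⟩, ⟨1, [.one], [(0, 1)]⟩])

theorem ok_gX_23_0 : chkQ DX gX_23_0.1 gX_23_0.2.1 (gX_23_0.1 ^ gX_23_0.2.1) seedsX gX_23_0.2.2 (ntd colsX []) 66 = true := by
  decide +kernel

/-- certificates -/
def gX_29_0 : ℕ × ℕ × List Cert := (29, 1,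
  [⟨0, [.one], [(0, 1)]⟩, ⟨1, [.one], [(0, 1)]⟩])

theorem ok_gX_29_0 : chkQ DX gX_29_0.1 gX_29_0.2.1 (gX_29_0.1 ^ gX_29_0.2.1) seedsX gX_29_0.2.2 (ntd colsX []) 66 = true := by
  decide +kernel

/-- the certificates -/
def gX : List (ℕ × ℕ × List Cert) :=
  [gX_2_0, gX_2_1, gX_2_2, gX_3_0, gX_3_1, gX_3_2, gX_5_0, gX_7_0, gX_11_0, gX_13_0, gX_17_0, gX_23_0,
  gX_29_0]

theorem ok_gX : ∀ y ∈ gX, chkQ DX y.1 y.2.1 (y.1 ^ y.2.1) seedsX y.2.2 (ntd colsX []) 66 = true :=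
  List.forall_mem_cons.2 ⟨ok_gX_2_0, List.forall_mem_cons.2 ⟨ok_gX_2_1, List.forall_mem_cons.2 ⟨ok_gX_2_2,
  List.forall_mem_cons.2 ⟨ok_gX_3_0, List.forall_mem_cons.2 ⟨ok_gX_3_1, List.forall_mem_cons.2 ⟨ok_gX_3_2,
  List.forall_mem_cons.2 ⟨ok_gX_5_0, List.forall_mem_cons.2 ⟨ok_gX_7_0, List.forall_mem_cons.2 ⟨ok_gX_11_0,
  List.forall_mem_cons.2 ⟨ok_gX_13_0, List.forall_mem_cons.2 ⟨ok_gX_17_0, List.forall_mem_cons.2 ⟨ok_gX_23_0,
  List.forall_mem_cons.2 ⟨ok_gX_29_0, List.forall_mem_nil _⟩⟩⟩⟩⟩⟩⟩⟩⟩⟩⟩⟩⟩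

/-- certificates -/
def bX_2_0 : ℕ × ℕ × List Cert := (2, 21,
  [⟨9, [.one, .gen 0 1 0, .gen 2 1 0, .gen 3 1 0, .gen 4 1 0, .gen 9 1 0, .gen 0 3 0, .gen 2 3 0, .gen 3 3 0,
  .lin [(1053414, 8), (917504, 7), (1866655, 6), (393216, 5), (1720799, 4), (1122304, 3), (1291934, 2),
  (1336951, 1), (1404815, 0)], .lin [(1425397, 9), (830122, 8), (1399421, 7), (1631350, 6), (587077, 5),
  (1192237, 4), (786139, 3), (1397084, 2)], .lin [(1358528, 10), (2032814, 9), (1743680, 8), (741298, 7),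
  (212440, 6), (519967, 5), (278610, 3)], .lin [(1205978, 11), (1900544, 10), (1615227, 9), (808280, 8),
  (842429, 7), (1882109, 4)], .lin [(775553, 12), (933888, 11), (698447, 10), (847720, 9), (2074093, 8)],
  .lin [(2025336, 13), (382293, 12), (1007755, 11), (2064371, 10)], .lin [(2058675, 14), (2063544, 13),
  (1357979, 12)], .lin [(1858872, 15), (818869, 14)], .lin [(1, 16)]], [(0, 1), (1, 32), (2, 64), (3, 128),
  (4, 64), (5, 64), (6, 32), (7, 32), (8, 32)]⟩, ⟨52, [.one, .gen 2 1 0, .gen 4 1 0, .lin [(1, 2), (2097151,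
  1), (1, 0)], .lin [(4, 3), (1572863, 2)], .lin [(1, 4)]], [(0, 1), (1, 4), (2, 2)]⟩, ⟨54, [.one, .gen 0 1
  0, .gen 3 1 0, .gen 4 1 0, .lin [(1114112, 3), (1310720, 2), (65536, 1), (1966080, 0)], .lin [(1922389, 3),
  (1, 1)], .lin [(983039, 5), (480598, 4), (2031615, 3)], .lin [(1048588, 6), (1135957, 5)], .lin [(1, 7)]],
  [(0, 1), (1, 8), (2, 16), (3, 8), (4, 1048576)]⟩])

theorem ok_bX_2_0 : chkQ DX bX_2_0.1 bX_2_0.2.1 (bX_2_0.1 ^ bX_2_0.2.1) seedsX bX_2_0.2.2 (cmbs colsX (rels lvX [] ++ exX)) (rels lvX [] ++ exX).length = true := by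
  decide +kernel

/-- certificates -/
def bX_3_0 : ℕ × ℕ × List Cert := (3, 17,
  [⟨2, [.one, .gen 0 1 0, .gen 2 1 0, .gen 3 1 0, .gen 4 1 0, .gen 6 1 0, .gen 9 1 0, .gen 0 2 0, .gen 2 2 0,
  .gen 3 2 0, .gen 4 2 0, .gen 9 2 0, .mul 10 10, .mul 11 10, .mul 12 10, .mul 13 10, .mul 14 9, .mul 14 12,
  .lin [(13630305, 17), (35706757, 16), (48395025, 15), (70750413, 14), (24240456, 13), (65796730, 12),
  (52575318, 11), (78545586, 10), (116865690, 9), (5551191, 8), (90255273, 7), (21616710, 6), (49153775, 5),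
  (45314388, 4), (66367669, 3), (72348511, 2), (97728603, 1), (127248966, 0)], .lin [(111294734, 18),
  (60167633, 17), (68813256, 16), (13750494, 15), (107715996, 14), (105029052, 13), (114639903, 12),
  (123556082, 11), (127227166, 10), (28739499, 9), (78136606, 8), (18105403, 7), (77484498, 6), (77843953,
  5), (30195280, 4), (62493430, 2), (74542071, 1)], .lin [(123012185, 19), (100554588, 18), (126481545, 17),
  (92958957, 16), (105897339, 15), (57200584, 14), (4990203, 13), (101978761, 12), (17126368, 11), (88516944,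
  10), (118075186, 9), (98165381, 8), (113515566, 7), (2134419, 6), (86208714, 5), (113815365, 3)], .lin
  [(76818139, 20), (75499241, 19), (9967968, 18), (46871919, 17), (119464254, 16), (76395594, 15),
  (109270845, 14), (39439862, 13), (94580162, 12), (92648124, 11), (121627301, 10), (59814721, 9),
  (125029395, 8), (23830291, 7), (23139685, 6)], .lin [(42804202, 21), (106928181, 20), (107623494, 19),
  (106959519, 18), (125362656, 17), (17314803, 16), (55144233, 15), (30453048, 14), (57245708, 13), (6499323,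
  12), (91369547, 11), (66331557, 10), (103243369, 9), (85702950, 8), (54726973, 5)], .lin [(94450300, 22),
  (96111846, 21), (73581534, 20), (14630382, 19), (37449378, 18), (74372958, 17), (28705833, 16), (25266978,
  15), (23274449, 14), (89284014, 13), (43973156, 12), (54000351, 11), (108228438, 10)], .lin [(18302601,
  23), (43046721, 22), (26031861, 21), (90892692, 20), (59480082, 19), (93728241, 18), (53658936, 17),
  (72102808, 16), (58927785, 15), (105220971, 14), (27104460, 13), (49381721, 12)], .lin [(62095373, 24),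
  (75677409, 23), (70918821, 22), (71961156, 21), (20286396, 20), (23533056, 19), (79742880, 18), (6205086,
  17), (82756801, 16), (28012314, 15), (82300524, 12)], .lin [(89842371, 25), (113482524, 24), (102590916,
  23), (25183245, 22), (108242673, 21), (100469739, 19), (17014278, 18), (85949646, 17), (122465613, 16),
  (62713431, 13), (12051215, 12)], .lin [(110027002, 26), (83108305, 24), (62783054, 23), (34124109, 22),
  (5254955, 18), (84121862, 17), (82690357, 9)], .lin [(111701126, 27), (85448547, 25), (35872268, 24),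
  (122610605, 23), (55729650, 19)], .lin [(43566594, 28), (61878537, 26), (104628867, 25), (5536779, 24),
  (45600238, 22), (74468087, 21)], .lin [(21462050, 29), (82481129, 27), (82481129, 26), (17136185, 21)],
  .lin [(101304498, 30), (35872269, 29), (4201791, 28), (106554336, 27), (39306788, 24)], .lin [(115077017,
  31), (32285043, 29), (104122283, 22)], .lin [(3, 32), (70440089, 30)], .lin [(27, 33), (102577603, 32)],
  .lin [(1, 34)]], [(0, 1), (1, 27), (2, 3), (3, 27), (4, 81), (5, 9), (6, 27), (7, 27), (8, 81), (9, 243),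
  (10, 243), (11, 2187), (12, 27), (13, 9), (14, 27), (15, 27), (16, 9), (17, 81)]⟩, ⟨19, [.one, .gen 0 1 0,
  .gen 2 1 0, .gen 3 1 0, .gen 4 1 0, .gen 6 1 0, .gen 9 1 0, .gen 10 1 0, .gen 0 5 0, .gen 2 5 0, .lin
  [(109821024, 9), (97645116, 8), (4771431, 7), (123175854, 6), (116145531, 5), (66916560, 4), (116505870,
  3), (108744864, 2), (47228057, 1), (100641159, 0)], .lin [(54279457, 10), (109747395, 8), (56525994, 7),
  (43046721, 6), (51206756, 1)], .lin [(4783029, 11), (14348907, 10), (105225315, 9), (62178567, 8),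
  (71744544, 7), (25112329, 6), (43793842, 4)], .lin [(86093462, 12), (129140162, 10), (86093432, 9),
  (43046724, 8)], .lin [(73657723, 12), (73179423, 11), (10044237, 9), (121886313, 8), (42568424, 7)], .lin
  [(81788769, 12), (99007459, 10)], .lin [(9, 15), (129140162, 14), (122990631, 13), (26365781, 10)], .lin
  [(3, 16), (12299063, 14)], .lin [(27, 17), (120769967, 16)], .lin [(1, 18)]], [(0, 1), (1, 27), (2, 3), (3,
  9), (4, 9), (5, 27), (6, 27), (7, 81), (8, 9), (9, 27)]⟩, ⟨43, [.one, .gen 2 1 0, .gen 6 1 0, .gen 7 1 0,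
  .lin [(43046727, 3), (86093445, 2), (89068216, 1), (34078654, 0)], .lin [(2, 4), (1, 3)], .lin [(42521761,
  3)], .lin [(1, 6)]], [(0, 1), (1, 9), (2, 3), (3, 9)]⟩, ⟨89, [.one, .gen 2 1 0, .gen 6 2 0, .gen 7 2 0,
  .lin [(111816482, 1), (80712602, 0)], .lin [(86093444, 4), (86093441, 3)], .lin [(42521761, 3)], .lin [(1,
  6)]], [(0, 1), (1, 9), (2, 3), (3, 9)]⟩])

theorem ok_bX_3_0 : chkQ DX bX_3_0.1 bX_3_0.2.1 (bX_3_0.1 ^ bX_3_0.2.1) seedsX bX_3_0.2.2 (cmbs colsX (rels lvX [] ++ exX)) (rels lvX [] ++ exX).length = true := by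
  decide +kernel

/-- the certificates -/
def bX : List (ℕ × ℕ × List Cert) :=
  [bX_2_0, bX_3_0]

theorem ok_bX : ∀ y ∈ bX, chkQ DX y.1 y.2.1 (y.1 ^ y.2.1) seedsX y.2.2 (cmbs colsX (rels lvX [] ++ exX)) (rels lvX [] ++ exX).length = true :=
  List.forall_mem_cons.2 ⟨ok_bX_2_0, List.forall_mem_cons.2 ⟨ok_bX_3_0, List.forall_mem_nil _⟩⟩

/-- the primes and the nontrivial sections -/
def PLX : List (ℕ × ℕ × List ℕ) :=
  [(2, 21, [0, 1, 6, 7, 8, 9, 10, 11, 12, 19, 20, 40, 41, 42, 43, 50, 51, 52, 53, 54, 55, 56, 62, 63, 84, 85,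
  90, 91, 92, 93, 116, 118, 119]), (3, 17, [0, 2, 4, 13, 15, 17, 19, 40, 43, 44, 46, 48, 58, 60, 62, 84, 86,
  89, 96, 98, 112, 114, 120, 122, 131, 135, 138, 145]), (5, 2, [0, 1, 2, 3, 4, 5, 7, 8, 9, 10, 11, 15, 16,
  17, 18, 35, 36, 37, 38, 40, 41, 55, 56, 79, 80]), (7, 3, [0, 1, 2, 3, 4, 5, 7, 8, 9, 12, 15, 16, 19, 20,
  35, 36, 37, 38]), (11, 1, [0, 1, 4, 5, 10, 11]), (13, 1, [0, 1, 4, 5, 9, 12]), (17, 1, [0, 1]), (23, 1, [0,
  1]), (29, 1, [0, 1])]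

theorem okPLX : okPrimes DX PLX = true := by decide +kernel

theorem allX : (PLX.all fun x => x.2.2.all fun t => hasQ gX x.1 t || hasQ bX x.1 t) = true := by decide +kernel

end Cfsg.Agent.TAB.F24
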