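import Cfsg.Agent.TAB.F24.TabT

/-!
# The table of `Fi₂₄'` : certificates (helper16, TAB)
-/

set_option autoImplicit false
set_option maxRecDepth 100000

namespace Cfsg.Agent.TAB.F24

open Cfsg.Agent.TAB.Eng Cfsg.Agent.TAB.Glue Cfsg.Agent.TAB.Cov

/-- the trivial character -/
def oneT : List ℤ := List.replicate 94 1

/-- a seed -/
def sT0 : List ℤ :=
  [.ofNat 7824165773824, .ofNat 548352, .ofNat 44478720, .ofNat 10936, .ofNat 255880, .ofNat 15494896,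
  .ofNat 1323136, .ofNat 7372, .ofNat 576, .ofNat 0, .ofNat 17280, .ofNat 1324, .ofNat 0, .ofNat 168,
  .ofNat 0, .ofNat 120, .ofNat 240, .ofNat 3888, .ofNat 1296, .ofNat 2016, .ofNat 0, .ofNat 9072, .ofNat 12,
  .ofNat 106, .ofNat 50, .ofNat 48, .ofNat 0, .ofNat 0, .ofNat 82, .ofNat 28, .ofNat 730, .ofNat 244,
  .ofNat 406, .ofNat 1, .ofNat 12, .ofNat 20, .ofNat 4, .ofNat 0, .ofNat 0, .ofNat 24, .ofNat 48, .ofNat 0,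
  .ofNat 24, .ofNat 0, .ofNat 0, .ofNat 432, .ofNat 0, .ofNat 0, .ofNat 12, .ofNat 10, .ofNat 6, .ofNat 0,
  .ofNat 10, .ofNat 46, .ofNat 1, .ofNat 0, .ofNat 1, .ofNat 0, .ofNat 6, .ofNat 0, .ofNat 12, .ofNat 18,
  .ofNat 0, .ofNat 0, .ofNat 0, .ofNat 0, .ofNat 4, .ofNat 1, .ofNat 2, .ofNat 0, .ofNat 1, .ofNat 0,
  .ofNat 0, .ofNat 0, .ofNat 0, .ofNat 0, .ofNat 0, .ofNat 1, .ofNat 1, .ofNat 0, .ofNat 1, .ofNat 0,
  .ofNat 2, .ofNat 1, .ofNat 1, .ofNat 0, .ofNat 0, .ofNat 0, .ofNat 1, .ofNat 1, .ofNat 0, .ofNat 0,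
  .ofNat 1, .ofNat 0]

/-- a seed -/
def sT1 : List ℤ :=
  [.ofNat 3957999889277952, .ofNat 4838400, .ofNat 2846638080, .ofNat 162000, .ofNat 5195232,
  .ofNat 1147478400, .ofNat 55693440, .ofNat 0, .ofNat 768, .ofNat 0, .ofNat 207360, .ofNat 8352, .ofNat 0,
  .ofNat 432, .ofNat 0, .ofNat 288, .ofNat 3456, .ofNat 3888, .ofNat 5184, .ofNat 11232, .ofNat 0,
  .ofNat 145152, .ofNat 0, .ofNat 546, .ofNat 0, .ofNat 96, .ofNat 0, .ofNat 0, .ofNat 252, .ofNat 24,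
  .ofNat 2214, .ofNat 2304, .ofNat 2070, .ofNat 0, .ofNat 0, .ofNat 80, .ofNat 12, .ofNat 0, .ofNat 0,
  .ofNat 0, .ofNat 288, .ofNat 0, .ofNat 24, .ofNat 0, .ofNat 0, .ofNat 2592, .ofNat 0, .ofNat 0, .ofNat 0,
  .ofNat 24, .ofNat 6, .ofNat 0, .ofNat 12, .ofNat 150, .ofNat 0, .ofNat 0, .ofNat 1, .ofNat 0, .ofNat 18,
  .ofNat 0, .ofNat 0, .ofNat 18, .ofNat 0, .ofNat 0, .ofNat 0, .ofNat 0, .ofNat 12, .ofNat 0, .ofNat 0,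
  .ofNat 0, .ofNat 1, .ofNat 0, .ofNat 0, .ofNat 0, .ofNat 0, .ofNat 0, .ofNat 0, .ofNat 3, .ofNat 0,
  .ofNat 0, .ofNat 0, .ofNat 0, .ofNat 2, .ofNat 0, .ofNat 1, .ofNat 0, .ofNat 0, .ofNat 0, .ofNat 3,
  .ofNat 0, .ofNat 0, .ofNat 0, .ofNat 0, .ofNat 0]

/-- a seed -/
def sT2 : List ℤ :=
  [.ofNat 41138526264109569, .ofNat 42854913, .ofNat 4180267521, .ofNat 157464, .ofNat 0, .ofNat 0,
  .ofNat 251732448, .ofNat 0, .ofNat 2817, .ofNat 16353, .ofNat 114561, .ofNat 5769, .ofNat 648, .ofNat 0,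
  .ofNat 1296, .ofNat 0, .ofNat 0, .ofNat 23328, .ofNat 0, .ofNat 18144, .ofNat 0, .ofNat 0, .ofNat 0,
  .ofNat 351, .ofNat 99, .ofNat 33, .ofNat 81, .ofNat 33, .ofNat 0, .ofNat 0, .ofNat 5832, .ofNat 0,
  .ofNat 0, .ofNat 1458, .ofNat 33, .ofNat 21, .ofNat 9, .ofNat 72, .ofNat 0, .ofNat 0, .ofNat 0, .ofNat 0,
  .ofNat 0, .ofNat 0, .ofNat 0, .ofNat 0, .ofNat 0, .ofNat 432, .ofNat 0, .ofNat 9, .ofNat 3, .ofNat 3,
  .ofNat 0, .ofNat 0, .ofNat 18, .ofNat 1, .ofNat 1, .ofNat 0, .ofNat 0, .ofNat 0, .ofNat 0, .ofNat 0,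
  .ofNat 0, .ofNat 0, .ofNat 3, .ofNat 1, .ofNat 0, .ofNat 0, .ofNat 0, .ofNat 1, .ofNat 1, .ofNat 0,
  .ofNat 0, .ofNat 0, .ofNat 0, .ofNat 0, .ofNat 1, .ofNat 0, .ofNat 0, .ofNat 1, .ofNat 1, .ofNat 0,
  .ofNat 0, .ofNat 0, .ofNat 1, .ofNat 0, .ofNat 0, .ofNat 0, .ofNat 0, .ofNat 0, .ofNat 0, .ofNat 0,
  .ofNat 0, .ofNat 0]

/-- a seed -/
def sT3 : List ℤ :=
  [.ofNat 4503927670511693824, .ofNat 383201280, .ofNat 0, .ofNat 1113184, .ofNat 60879520,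
  .ofNat 8756321536, .ofNat 3119110336, .ofNat 95824, .ofNat 9216, .ofNat 0, .ofNat 0, .ofNat 20224,
  .ofNat 0, .ofNat 0, .ofNat 0, .ofNat 2592, .ofNat 20736, .ofNat 0, .ofNat 0, .ofNat 46656, .ofNat 0,
  .ofNat 0, .ofNat 144, .ofNat 736, .ofNat 50, .ofNat 0, .ofNat 0, .ofNat 0, .ofNat 82, .ofNat 28,
  .ofNat 5104, .ofNat 1216, .ofNat 7696, .ofNat 1, .ofNat 0, .ofNat 0, .ofNat 4, .ofNat 0, .ofNat 0,
  .ofNat 0, .ofNat 0, .ofNat 0, .ofNat 0, .ofNat 0, .ofNat 0, .ofNat 0, .ofNat 0, .ofNat 0, .ofNat 0,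
  .ofNat 10, .ofNat 0, .ofNat 0, .ofNat 10, .ofNat 136, .ofNat 1, .ofNat 0, .ofNat 1, .ofNat 0, .ofNat 0,
  .ofNat 0, .ofNat 0, .ofNat 0, .ofNat 0, .ofNat 0, .ofNat 0, .ofNat 0, .ofNat 4, .ofNat 1, .ofNat 2,
  .ofNat 0, .ofNat 1, .ofNat 0, .ofNat 0, .ofNat 0, .ofNat 0, .ofNat 0, .ofNat 0, .ofNat 1, .ofNat 1,
  .ofNat 0, .ofNat 1, .ofNat 0, .ofNat 0, .ofNat 1, .ofNat 1, .ofNat 0, .ofNat 0, .ofNat 0, .ofNat 1,
  .ofNat 1, .ofNat 0, .ofNat 0, .ofNat 1, .ofNat 0]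

/-- the new seeds -/
def sdT : List (List ℤ × ℕ × ℕ) := [(sT0, 1, 2), (sT1, 0, 2), (sT2, 1, 3), (sT3, 1, 4)]

theorem ok_sdT : chkSd DT [piL, oneT] sdT = true := by decide +kernel

/-- the seeds -/
def seedsT : List (List ℤ) := [piL, oneT] ++ sdT.map Prod.fst

/-- the levels -/
def lvT : List Lv :=
  [⟨0, 2, 1, [], true⟩, ⟨71, 2, 1, [], true⟩, ⟨89, 1, 1, [], true⟩, ⟨36, 2, 2, [], true⟩,
  ⟨52, 2, 1, [1], true⟩, ⟨63, 2, 1, [1], true⟩, ⟨43, 2, 2, [0], true⟩, ⟨87, 1, 1, [1, 1], true⟩,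
  ⟨50, 2, 4, [0, 0], true⟩, ⟨68, 2, 1, [1, 0, 0], true⟩, ⟨90, 1, 1, [2, 0, 0], true⟩,
  ⟨61, 2, 2, [2, 0, 0], true⟩, ⟨67, 2, 1, [1, 1, 0, 0], true⟩, ⟨78, 2, 1, [1, 3, 1, 0], true⟩,
  ⟨20, 2, 18, [0, 0, 0, 0], true⟩, ⟨49, 2, 1, [15, 1, 3, 1, 1], true⟩, ⟨55, 2, 1, [7, 0, 0, 1, 1], true⟩,
  ⟨74, 2, 1, [8, 1, 3, 1, 0], true⟩, ⟨25, 2, 9, [9, 0, 0, 0, 1], true⟩, ⟨48, 2, 1, [8, 3, 1, 3, 1, 0], true⟩,
  ⟨58, 2, 1, [1, 15, 0, 0, 1, 1], true⟩, ⟨70, 2, 1, [8, 13, 0, 0, 0, 0], true⟩,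
  ⟨72, 2, 1, [1, 17, 0, 0, 0, 1], true⟩, ⟨76, 2, 1, [8, 1, 1, 3, 0, 1], true⟩,
  ⟨85, 1, 1, [3, 5, 0, 0, 0, 1], true⟩, ⟨10, 2, 54, [3, 3, 0, 0, 1, 0], true⟩,
  ⟨7, 2, 1, [10, 2, 15, 0, 2, 0, 0], true⟩, ⟨8, 2, 1, [24, 0, 10, 1, 0, 0, 1], true⟩,
  ⟨13, 2, 1, [27, 5, 5, 0, 0, 1, 0], true⟩, ⟨19, 2, 1, [38, 6, 3, 1, 0, 1, 0], true⟩,
  ⟨21, 2, 1, [42, 3, 1, 0, 1, 0, 1], true⟩, ⟨26, 2, 1, [16, 7, 10, 1, 3, 1, 1], true⟩,
  ⟨28, 2, 1, [28, 2, 1, 1, 2, 0, 0], true⟩, ⟨29, 2, 1, [49, 2, 13, 0, 1, 1, 0], true⟩,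
  ⟨31, 2, 1, [32, 1, 1, 0, 3, 0, 1], true⟩, ⟨32, 2, 1, [32, 3, 11, 1, 2, 0, 1], true⟩,
  ⟨33, 2, 1, [50, 2, 2, 0, 2, 1, 1], true⟩, ⟨38, 2, 1, [39, 3, 1, 0, 1, 1, 1], true⟩,
  ⟨39, 2, 1, [37, 2, 17, 1, 0, 0, 0], true⟩, ⟨41, 2, 1, [22, 1, 10, 0, 1, 0, 1], true⟩,
  ⟨42, 2, 1, [26, 6, 15, 0, 2, 1, 1], true⟩, ⟨46, 2, 1, [11, 1, 6, 1, 3, 0, 0], true⟩,
  ⟨47, 2, 1, [44, 8, 16, 1, 1, 0, 1], true⟩, ⟨51, 2, 1, [20, 4, 16, 1, 1, 1, 1], true⟩,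
  ⟨56, 2, 1, [4, 8, 12, 0, 0, 0, 0], true⟩, ⟨57, 2, 1, [24, 4, 2, 1, 2, 1, 1], true⟩,
  ⟨69, 2, 1, [38, 1, 9, 0, 2, 1, 0], true⟩, ⟨77, 2, 1, [37, 1, 0, 0, 1, 1, 1], true⟩,
  ⟨79, 2, 1, [15, 0, 2, 0, 0, 0, 0], true⟩, ⟨82, 1, 1, [24, 1, 11, 1, 0, 0, 1], true⟩,
  ⟨83, 1, 1, [12, 5, 15, 0, 0, 1, 0], true⟩, ⟨86, 1, 1, [28, 5, 5, 0, 0, 1, 0], true⟩,
  ⟨88, 1, 1, [42, 7, 15, 1, 2, 1, 0], true⟩, ⟨92, 1, 1, [34, 0, 10, 0, 2, 0, 0], true⟩,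
  ⟨1, 2, 3, [51, 3, 16, 1, 0, 1, 1], true⟩, ⟨2, 2, 1, [2, 35, 6, 9, 0, 3, 0, 0], true⟩,
  ⟨3, 2, 1, [1, 16, 6, 16, 1, 1, 1, 0], true⟩, ⟨4, 2, 1, [1, 43, 1, 11, 1, 1, 0, 0], true⟩,
  ⟨5, 2, 1, [1, 28, 8, 8, 1, 3, 1, 0], true⟩, ⟨6, 2, 1, [2, 53, 6, 2, 0, 0, 0, 0], true⟩,
  ⟨9, 2, 1, [1, 33, 1, 8, 0, 1, 1, 0], true⟩, ⟨11, 2, 1, [2, 35, 1, 4, 1, 2, 1, 1], true⟩,
  ⟨12, 2, 1, [2, 33, 1, 11, 1, 3, 0, 0], true⟩, ⟨14, 2, 1, [2, 13, 8, 4, 1, 2, 1, 1], true⟩,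
  ⟨15, 2, 1, [2, 7, 4, 11, 0, 0, 0, 0], true⟩, ⟨16, 2, 1, [1, 26, 7, 1, 1, 0, 0, 0], true⟩,
  ⟨17, 2, 1, [2, 36, 1, 16, 0, 0, 1, 1], true⟩, ⟨18, 2, 1, [2, 25, 2, 7, 1, 2, 0, 1], true⟩,
  ⟨22, 2, 1, [1, 30, 6, 2, 1, 0, 0, 1], true⟩, ⟨23, 2, 1, [1, 47, 3, 16, 0, 2, 0, 0], true⟩,
  ⟨24, 2, 1, [2, 53, 1, 7, 1, 0, 0, 1], true⟩, ⟨27, 2, 1, [2, 2, 8, 12, 0, 2, 0, 0], true⟩,
  ⟨30, 2, 1, [2, 36, 4, 12, 0, 2, 1, 1], true⟩, ⟨34, 2, 1, [1, 9, 5, 2, 0, 1, 0, 1], true⟩,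
  ⟨35, 2, 1, [1, 8, 1, 15, 1, 1, 0, 1], true⟩, ⟨37, 2, 1, [1, 39, 2, 1, 1, 2, 0, 1], true⟩,
  ⟨40, 2, 1, [1, 49, 2, 8, 0, 2, 0, 1], true⟩, ⟨44, 2, 1, [2, 12, 2, 14, 0, 0, 1, 1], true⟩,
  ⟨45, 2, 1, [1, 15, 8, 1, 1, 2, 0, 1], true⟩, ⟨53, 2, 1, [2, 14, 8, 2, 0, 2, 0, 0], true⟩,
  ⟨54, 2, 1, [2, 9, 1, 14, 1, 2, 0, 1], true⟩, ⟨59, 2, 1, [2, 35, 5, 4, 0, 3, 0, 0], true⟩,
  ⟨60, 2, 1, [2, 29, 7, 6, 1, 2, 1, 0], true⟩, ⟨62, 2, 1, [2, 36, 7, 17, 0, 2, 1, 0], true⟩,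
  ⟨64, 2, 1, [2, 41, 4, 5, 0, 0, 1, 1], true⟩, ⟨65, 2, 1, [1, 11, 1, 6, 1, 2, 0, 0], true⟩,
  ⟨66, 2, 1, [1, 7, 6, 11, 1, 2, 0, 1], true⟩, ⟨73, 2, 1, [1, 13, 1, 8, 0, 3, 1, 0], true⟩,
  ⟨75, 2, 1, [1, 15, 0, 9, 1, 2, 0, 1], true⟩, ⟨80, 1, 1, [1, 15, 5, 0, 1, 0, 1, 1], true⟩,
  ⟨81, 1, 1, [2, 50, 5, 3, 0, 2, 0, 1], true⟩, ⟨84, 1, 1, [1, 39, 5, 0, 1, 0, 1, 1], true⟩,
  ⟨91, 1, 1, [1, 49, 0, 15, 1, 2, 1, 0], true⟩, ⟨93, 1, 1, [1, 51, 1, 6, 1, 2, 1, 1], true⟩]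

theorem ok_lvT : okQ nmT.length nmT lvT 2 1 = true := by decide +kernel

theorem okJ_lvT : okJ nmT.length lvT = true := by decide +kernel

/-- certificates -/
def gT_2_0 : ℕ × ℕ × List Cert := (2, 21,
  [⟨4, [.one, .gen 0 1 0, .gen 2 1 0, .gen 5 1 0, .gen 0 3 0, .mul 3 1, .gen 0 1 1, .mul 5 0, .lin [(923628,
  7), (1158558, 6), (1664956, 5), (537234, 4), (383342, 3), (1001749, 2), (1173532, 1), (1501166, 0)], .lin
  [(1645858, 8), (1087457, 7), (1086822, 6), (1976372, 5), (1471191, 4), (729248, 3), (547850, 2), (494273,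
  1)], .lin [(100792, 9), (2082292, 8), (1832262, 7), (1399537, 6), (785786, 5), (1299016, 4)], .lin
  [(443198, 10), (61670, 9), (1571367, 8), (1633807, 6), (753330, 4)], .lin [(536376, 11), (1175464, 10),
  (988012, 9), (1044917, 7)], .lin [(1458129, 12), (467542, 11), (799385, 6)], .lin [(104866, 13), (110683,
  12)], .lin [(1, 14)]], [(0, 1), (1, 8), (2, 8), (3, 64), (4, 8), (5, 8), (6, 32), (7, 8)]⟩, ⟨5, [.one, .gen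
  0 1 0, .gen 2 1 0, .gen 3 1 0, .gen 5 1 0, .gen 0 3 0, .mul 4 4, .gen 0 1 1, .lin [(714496, 7), (635904,
  6), (964984, 5), (1730448, 4), (1874715, 3), (1075756, 2), (447652, 1), (1398104, 0)], .lin [(244224, 8),
  (1061584, 7), (1917447, 6), (1367438, 5), (1076776, 3), (260086, 2), (1010076, 1)], .lin [(1415200, 9),
  (805728, 8), (264058, 7), (759225, 6), (1955024, 4), (430206, 3)], .lin [(1523016, 10), (1223048, 9),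
  (1354263, 8), (1889649, 7), (450451, 5)], .lin [(1006904, 11), (131072, 10), (1629877, 5), (474474, 4)],
  .lin [(1036932, 12), (851752, 11), (1145099, 5)], .lin [(1858872, 13), (818869, 12)], .lin [(1, 14)]], [(0,
  1), (1, 32), (2, 32), (3, 32), (4, 64), (5, 32), (6, 8), (7, 32)]⟩, ⟨11, [.one, .gen 0 1 0, .gen 2 1 0,
  .gen 3 1 0, .gen 4 1 0, .lin [(509756, 4), (779154, 3), (1798638, 2), (1972627, 1), (1587412, 0)], .lin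
  [(343960, 5), (438299, 4), (1398101, 3), (1520296, 2)], .lin [(944132, 6), (1336831, 5), (1701325, 3)],
  .lin [(981677, 7), (542203, 3)], .lin [(1, 8)]], [(0, 1), (1, 8), (2, 8), (3, 4), (4, 16)]⟩, ⟨23, [.one,
  .gen 0 1 0, .gen 2 1 0, .lin [(1752231, 2), (344925, 1), (469100, 0)], .lin [(796922, 3), (566231, 1)],
  .lin [(1, 4)]], [(0, 1), (1, 4), (2, 4)]⟩, ⟨24, [.one, .gen 2 1 0, .lin [(2, 1), (41943, 0)], .lin [(1,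
  2)]], [(0, 1), (1, 2)]⟩, ⟨28, [.one, .gen 0 1 0, .lin [(1048579, 1), (349525, 0)], .lin [(1, 2)]], [(0, 1),
  (1, 2)]⟩, ⟨29, [.one, .gen 0 1 0, .gen 2 1 0, .lin [(2, 2), (1048575, 1), (1797559, 0)], .lin [(1048582,
  3), (1572863, 2)], .lin [(1, 4)]], [(0, 1), (1, 4), (2, 2)]⟩, ⟨30, [.one, .gen 0 1 0, .gen 2 1 0, .lin
  [(1135901, 2), (1019469, 1), (1747626, 0)], .lin [(364978, 3), (2036323, 1)], .lin [(1, 4)]], [(0, 1), (1,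
  4), (2, 4)]⟩])

theorem ok_gT_2_0 : chkQ DT gT_2_0.1 gT_2_0.2.1 (gT_2_0.1 ^ gT_2_0.2.1) seedsT gT_2_0.2.2 (ntd colsT []) 94 = true := by
  decide +kernel

/-- certificates -/
def gT_2_1 : ℕ × ℕ × List Cert := (2, 21,
  [⟨31, [.one, .gen 0 1 0, .gen 0 3 0, .gen 0 1 1, .lin [(283999, 3), (1398100, 2), (1385965, 1), (1742772,
  0)], .lin [(1722694, 4), (898776, 3), (37449, 1)], .lin [(1048588, 5), (1135957, 4)], .lin [(1, 6)]], [(0,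
  1), (1, 8), (2, 8), (3, 8)]⟩, ⟨32, [.one, .gen 2 1 0, .gen 0 3 0, .lin [(1408037, 2), (1840748, 1),
  (689119, 0)], .lin [(2064726, 3), (1399903, 2)], .lin [(1, 4)]], [(0, 1), (1, 4), (2, 4)]⟩, ⟨36, [.one,
  .gen 2 1 0, .lin [(4, 1), (1572863, 0)], .lin [(1, 2)]], [(0, 1), (1, 4)]⟩, ⟨49, [.one, .gen 2 1 0, .lin
  [(2, 1), (209715, 0)], .lin [(1, 2)]], [(0, 1), (1, 2)]⟩, ⟨52, [.one, .gen 0 1 0, .lin [(1048579, 1),
  (1048575, 0)], .lin [(1, 2)]], [(0, 1), (1, 2)]⟩, ⟨53, [.one, .gen 0 1 0, .gen 3 1 0, .lin [(1233625, 2),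
  (863531, 1), (185043, 0)], .lin [(1572869, 3), (873813, 2)], .lin [(1, 4)]], [(0, 1), (1, 4), (2, 4)]⟩,
  ⟨66, [.one, .gen 0 1 0, .lin [(1048582, 1), (1572863, 0)], .lin [(1, 2)]], [(0, 1), (1, 4)]⟩, ⟨68, [.one,
  .gen 2 1 0, .lin [(2, 1), (1048575, 0)], .lin [(1, 2)]], [(0, 1), (1, 2)]⟩])

theorem ok_gT_2_1 : chkQ DT gT_2_1.1 gT_2_1.2.1 (gT_2_1.1 ^ gT_2_1.2.1) seedsT gT_2_1.2.2 (ntd colsT []) 94 = true := by
  decide +kernel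

/-- certificates -/
def gT_3_0 : ℕ × ℕ × List Cert := (3, 16,
  [⟨1, [.one, .gen 0 1 0, .gen 2 1 0, .gen 3 1 0, .gen 4 1 0, .gen 5 1 0, .gen 0 2 0, .gen 2 2 0, .gen 3 2 0,
  .mul 7 7, .mul 8 7, .mul 9 7, .lin [(6103552, 11), (36739332, 10), (37786419, 9), (3693978, 8), (26302698,
  7), (19025208, 6), (7887948, 5), (12412319, 4), (42481902, 3), (25401420, 2), (40472289, 1), (7862010, 0)],
  .lin [(1801444, 12), (17840430, 11), (16256214, 10), (14848668, 9), (24607558, 8), (18585018, 7),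
  (34689685, 6), (35743352, 5), (36884774, 4), (21269814, 3), (33030903, 2)], .lin [(20775690, 13),
  (37548072, 12), (14253570, 11), (1273077, 10), (18111248, 9), (23180643, 8), (10571875, 7), (5562653, 5),
  (10168167, 4), (41599113, 3), (40757990, 2)], .lin [(41412141, 14), (17463159, 13), (340362, 12),
  (24686262, 11), (28999074, 10), (29876544, 9), (27080439, 8), (33020283, 6), (28003819, 5)], .lin
  [(8290269, 15), (39304647, 14), (19222488, 13), (18077652, 12), (30838210, 11), (22853271, 10), (28985711,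
  9), (3710215, 7)], .lin [(19431819, 16), (10801332, 15), (41048334, 14), (6490521, 13), (3427920, 12),
  (8931031, 11), (5003046, 10), (15115700, 6)], .lin [(34483023, 17), (28727508, 16), (14097321, 15),
  (31405014, 14), (1932669, 13), (40535257, 12)], .lin [(38849616, 18), (26067326, 17), (14703039, 16),
  (4664925, 15), (19138434, 14)], .lin [(31527144, 19), (28571499, 17), (13600868, 16), (32754730, 13)], .lin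
  [(27, 20), (21828312, 18), (6956216, 17)], .lin [(19537911, 21), (41905502, 19)], .lin [(1, 22)]], [(0, 1),
  (1, 3), (2, 27), (3, 9), (4, 27), (5, 81), (6, 243), (7, 27), (8, 9), (9, 27), (10, 27), (11, 27)]⟩, ⟨2,
  [.one, .gen 0 1 0, .gen 2 1 0, .gen 3 1 0, .gen 4 1 0, .gen 0 2 0, .gen 3 2 0, .mul 5 5, .lin [(25115643,
  7), (9147843, 6), (32346910, 5), (5733503, 4), (34773702, 3), (34202442, 2), (29225238, 1), (31534083, 0)],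
  .lin [(19277871, 8), (38086230, 7), (41822826, 6), (30951269, 4), (34648906, 3), (26763218, 2), (11103396,
  1)], .lin [(26662896, 9), (27667593, 8), (24926565, 7), (24367373, 5), (2799026, 4), (33549538, 3)], .lin
  [(39986072, 10), (5306482, 9), (11150608, 8), (10009788, 6), (15066783, 5), (15512726, 3)], .lin [(3247209,
  11), (41712408, 10), (39961123, 9), (2058441, 7)], .lin [(2657204, 12), (27593420, 11), (40563895, 7)],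
  .lin [(1054733, 13), (42519368, 12)], .lin [(1, 14)]], [(0, 1), (1, 27), (2, 81), (3, 81), (4, 243), (5,
  9), (6, 27), (7, 81)]⟩, ⟨8, [.one, .gen 0 1 0, .gen 2 1 0, .gen 3 1 0, .lin [(12435713, 3), (15305504, 2),
  (24991013, 0)], .lin [(14348931, 4), (14348895, 3), (37665881, 2)], .lin [(28697818, 5), (7174453, 4)],
  .lin [(1, 6)]], [(0, 1), (1, 3), (2, 3), (3, 9)]⟩, ⟨9, [.one, .gen 0 1 0, .gen 4 1 0, .gen 0 2 0, .gen 2 2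
  0, .lin [(29790396, 4), (4900095, 3), (7004403, 2), (7636653, 1), (22257788, 0)], .lin [(37115731, 5),
  (18653481, 4), (27549899, 3), (27645574, 2)], .lin [(12636036, 6), (29126034, 5), (31705012, 4)], .lin
  [(21181729, 7), (21865001, 6)], .lin [(1, 8)]], [(0, 1), (1, 9), (2, 9), (3, 9), (4, 9)]⟩, ⟨10, [.one, .gen
  0 1 0, .gen 2 1 0, .gen 3 1 0, .gen 4 1 0, .gen 0 2 0, .gen 2 2 0, .gen 3 2 0, .gen 0 4 0, .lin [(27830031,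
  8), (41867215, 7), (1813358, 6), (29902552, 5), (5040014, 4), (42655466, 3), (20978060, 2), (7958949, 1),
  (6713583, 0)], .lin [(39230985, 9), (31968233, 8), (17163451, 7), (22365413, 6), (29122914, 5), (35508973,
  4), (11852341, 3), (35236179, 2)], .lin [(2129409, 10), (17081460, 9), (42869271, 8), (23168617, 7),
  (24591333, 6), (18125829, 5), (2603313, 3), (9061804, 2)], .lin [(14348907, 10), (29942913, 9), (11749906,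
  8), (31786815, 7)], .lin [(23316975, 12), (14348907, 11), (18496638, 10), (41595795, 8), (5879066, 7)],
  .lin [(4471470, 13), (36120681, 12), (8509680, 11), (36748373, 6)], .lin [(8677848, 14), (11475320, 13),
  (18473742, 12)], .lin [(41847651, 15), (13477081, 13)], .lin [(1, 16)]], [(0, 1), (1, 3), (2, 3), (3, 9),
  (4, 27), (5, 81), (6, 9), (7, 9), (8, 27)]⟩, ⟨11, [.one, .gen 0 1 0, .gen 3 1 0, .gen 4 1 0, .gen 0 1 1,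
  .lin [(9, 4), (39302506, 3), (30270335, 2), (8871701, 1), (26151942, 0)], .lin [(12634779, 5), (33987993,
  4), (40934502, 3), (27644918, 1)], .lin [(30539079, 6), (17871920, 5), (32446591, 4)], .lin [(39133386, 7),
  (1304446, 6)], .lin [(1, 8)]], [(0, 1), (1, 3), (2, 9), (3, 27), (4, 9)]⟩, ⟨23, [.one, .gen 0 1 0, .gen 3 1
  0, .lin [(9, 2), (8284784, 1), (28142648, 0)], .lin [(34437381, 3), (37307158, 2)], .lin [(1, 4)]], [(0,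
  1), (1, 3), (2, 9)]⟩, ⟨24, [.one, .gen 2 1 0, .lin [(23316977, 1), (31388234, 0)], .lin [(1, 2)]], [(0, 1),
  (1, 3)]⟩, ⟨25, [.one, .gen 0 1 0, .lin [(14348911, 1), (28697813, 0)], .lin [(1, 2)]], [(0, 1), (1, 3)]⟩])

theorem ok_gT_3_0 : chkQ DT gT_3_0.1 gT_3_0.2.1 (gT_3_0.1 ^ gT_3_0.2.1) seedsT gT_3_0.2.2 (ntd colsT []) 94 = true := by
  decide +kernel

/-- certificates -/
def gT_3_1 : ℕ × ℕ × List Cert := (3, 16,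
  [⟨26, [.one, .gen 0 1 0, .gen 0 2 0, .gen 3 2 0, .lin [(9, 3), (8147082, 2), (28049394, 1), (7779079, 0)],
  .lin [(12, 4), (25110585, 3), (37665881, 2)], .lin [(6, 5), (7174453, 4)], .lin [(1, 6)]], [(0, 1), (1, 3),
  (2, 3), (3, 9)]⟩, ⟨27, [.one, .gen 4 1 0, .lin [(3, 1), (1304446, 0)], .lin [(1, 2)]], [(0, 1), (1, 3)]⟩,
  ⟨34, [.one, .gen 0 1 0, .lin [(14348911, 1), (28697813, 0)], .lin [(1, 2)]], [(0, 1), (1, 3)]⟩, ⟨35, [.one,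
  .gen 3 1 0, .lin [(41942962, 1), (551881, 0)], .lin [(1, 2)]], [(0, 1), (1, 3)]⟩, ⟨36, [.one, .gen 0 1 0,
  .lin [(3, 1), (28697813, 0)], .lin [(1, 2)]], [(0, 1), (1, 3)]⟩, ⟨49, [.one, .gen 0 1 0, .gen 2 1 0, .lin
  [(8, 2), (14348904, 1), (1, 0)], .lin [(6, 3), (28697813, 2)], .lin [(1, 4)]], [(0, 1), (1, 3), (2, 9)]⟩,
  ⟨50, [.one, .gen 0 1 0, .lin [(28697819, 1), (28697813, 0)], .lin [(1, 2)]], [(0, 1), (1, 3)]⟩, ⟨51, [.one,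
  .gen 4 1 0, .lin [(3, 1), (28697813, 0)], .lin [(1, 2)]], [(0, 1), (1, 3)]⟩, ⟨64, [.one, .gen 0 1 0, .lin
  [(14348911, 1), (28697813, 0)], .lin [(1, 2)]], [(0, 1), (1, 3)]⟩])

theorem ok_gT_3_1 : chkQ DT gT_3_1.1 gT_3_1.2.1 (gT_3_1.1 ^ gT_3_1.2.1) seedsT gT_3_1.2.2 (ntd colsT []) 94 = true := by
  decide +kernel

/-- certificates -/
def gT_5_0 : ℕ × ℕ × List Cert := (5, 2,
  [⟨0, [.one], [(0, 1)]⟩, ⟨1, [.one, .gen 2 1 0, .lin [(24, 1), (13, 0)], .lin [(1, 2)]], [(0, 1), (1, 5)]⟩,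
  ⟨2, [.one], [(0, 1)]⟩, ⟨4, [.one, .gen 2 1 0, .lin [(20, 1), (1, 0)], .lin [(1, 2)]], [(0, 1), (1, 5)]⟩,
  ⟨5, [.one], [(0, 1)]⟩, ⟨6, [.one, .gen 0 1 0, .lin [(5, 1), (17, 0)], .lin [(1, 2)]], [(0, 1), (1, 5)]⟩,
  ⟨9, [.one, .gen 0 1 0, .lin [(12, 1), (17, 0)], .lin [(1, 2)]], [(0, 1), (1, 5)]⟩, ⟨10, [.one, .gen 0 1 0,
  .lin [(5, 1), (1, 0)], .lin [(1, 2)]], [(0, 1), (1, 5)]⟩, ⟨20, [.one, .gen 2 2 0, .lin [(20, 1), (1, 0)],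
  .lin [(1, 2)]], [(0, 1), (1, 5)]⟩, ⟨21, [.one, .gen 2 1 0, .lin [(3, 1), (1, 0)], .lin [(1, 2)]], [(0, 1),
  (1, 5)]⟩, ⟨23, [.one, .gen 0 1 0, .lin [(4, 1), (1, 0)], .lin [(1, 2)]], [(0, 1), (1, 5)]⟩, ⟨32, [.one,
  .gen 0 1 0, .lin [(5, 1), (1, 0)], .lin [(1, 2)]], [(0, 1), (1, 5)]⟩, ⟨46, [.one, .gen 0 1 0, .lin [(17,
  1), (13, 0)], .lin [(1, 2)]], [(0, 1), (1, 5)]⟩])

theorem ok_gT_5_0 : chkQ DT gT_5_0.1 gT_5_0.2.1 (gT_5_0.1 ^ gT_5_0.2.1) seedsT gT_5_0.2.2 (ntd colsT []) 94 = true := by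
  decide +kernel

/-- certificates -/
def gT_7_0 : ℕ × ℕ × List Cert := (7, 3,
  [⟨0, [.one, .gen 0 1 0, .lin [(245, 1), (103, 0)], .lin [(1, 2)]], [(0, 1), (1, 7)]⟩, ⟨1, [.one, .gen 0 1
  0, .lin [(7, 1), (66, 0)], .lin [(1, 2)]], [(0, 1), (1, 7)]⟩, ⟨2, [.one, .gen 0 1 0, .lin [(52, 1), (334,
  0)], .lin [(1, 2)]], [(0, 1), (1, 7)]⟩, ⟨4, [.one, .gen 0 1 0, .lin [(7, 1), (39, 0)], .lin [(1, 2)]], [(0,
  1), (1, 7)]⟩, ⟨5, [.one, .gen 2 1 0, .lin [(79, 1), (325, 0)], .lin [(1, 2)]], [(0, 1), (1, 7)]⟩, ⟨7,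
  [.one, .gen 2 1 0, .lin [(103, 1), (247, 0)], .lin [(1, 2)]], [(0, 1), (1, 7)]⟩, ⟨9, [.one, .gen 0 1 0,
  .lin [(67, 1), (283, 0)], .lin [(1, 2)]], [(0, 1), (1, 7)]⟩, ⟨11, [.one, .gen 0 1 0, .lin [(311, 1), (39,
  0)], .lin [(1, 2)]], [(0, 1), (1, 7)]⟩, ⟨20, [.one, .gen 0 1 0, .lin [(7, 1), (166, 0)], .lin [(1, 2)]],
  [(0, 1), (1, 7)]⟩, ⟨21, [.one, .gen 0 1 0, .lin [(18, 1), (166, 0)], .lin [(1, 2)]], [(0, 1), (1, 7)]⟩])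

theorem ok_gT_7_0 : chkQ DT gT_7_0.1 gT_7_0.2.1 (gT_7_0.1 ^ gT_7_0.2.1) seedsT gT_7_0.2.2 (ntd colsT []) 94 = true := by
  decide +kernel

/-- certificates -/
def gT_11_0 : ℕ × ℕ × List Cert := (11, 1,
  [⟨0, [.one], [(0, 1)]⟩, ⟨2, [.one], [(0, 1)]⟩, ⟨6, [.one], [(0, 1)]⟩])

theorem ok_gT_11_0 : chkQ DT gT_11_0.1 gT_11_0.2.1 (gT_11_0.1 ^ gT_11_0.2.1) seedsT gT_11_0.2.2 (ntd colsT []) 94 = true := by
  decide +kernel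

/-- certificates -/
def gT_13_0 : ℕ × ℕ × List Cert := (13, 1,
  [⟨0, [.one], [(0, 1)]⟩, ⟨2, [.one], [(0, 1)]⟩, ⟨5, [.one], [(0, 1)]⟩, ⟨7, [.one], [(0, 1)]⟩])

theorem ok_gT_13_0 : chkQ DT gT_13_0.1 gT_13_0.2.1 (gT_13_0.1 ^ gT_13_0.2.1) seedsT gT_13_0.2.2 (ntd colsT []) 94 = true := by
  decide +kernel

/-- certificates -/
def gT_17_0 : ℕ × ℕ × List Cert := (17, 1,
  [⟨0, [.one], [(0, 1)]⟩])

theorem ok_gT_17_0 : chkQ DT gT_17_0.1 gT_17_0.2.1 (gT_17_0.1 ^ gT_17_0.2.1) seedsT gT_17_0.2.2 (ntd colsT []) 94 = true := by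
  decide +kernel

/-- certificates -/
def gT_23_0 : ℕ × ℕ × List Cert := (23, 1,
  [⟨0, [.one], [(0, 1)]⟩])

theorem ok_gT_23_0 : chkQ DT gT_23_0.1 gT_23_0.2.1 (gT_23_0.1 ^ gT_23_0.2.1) seedsT gT_23_0.2.2 (ntd colsT []) 94 = true := by
  decide +kernel

/-- certificates -/
def gT_29_0 : ℕ × ℕ × List Cert := (29, 1,
  [⟨0, [.one], [(0, 1)]⟩])

theorem ok_gT_29_0 : chkQ DT gT_29_0.1 gT_29_0.2.1 (gT_29_0.1 ^ gT_29_0.2.1) seedsT gT_29_0.2.2 (ntd colsT []) 94 = true := by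
  decide +kernel

/-- the certificates -/
def gT : List (ℕ × ℕ × List Cert) :=
  [gT_2_0, gT_2_1, gT_3_0, gT_3_1, gT_5_0, gT_7_0, gT_11_0, gT_13_0, gT_17_0, gT_23_0, gT_29_0]

theorem ok_gT : ∀ y ∈ gT, chkQ DT y.1 y.2.1 (y.1 ^ y.2.1) seedsT y.2.2 (ntd colsT []) 94 = true :=
  List.forall_mem_cons.2 ⟨ok_gT_2_0, List.forall_mem_cons.2 ⟨ok_gT_2_1, List.forall_mem_cons.2 ⟨ok_gT_3_0,
  List.forall_mem_cons.2 ⟨ok_gT_3_1, List.forall_mem_cons.2 ⟨ok_gT_5_0, List.forall_mem_cons.2 ⟨ok_gT_7_0,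
  List.forall_mem_cons.2 ⟨ok_gT_11_0, List.forall_mem_cons.2 ⟨ok_gT_13_0, List.forall_mem_cons.2 ⟨ok_gT_17_0,
  List.forall_mem_cons.2 ⟨ok_gT_23_0, List.forall_mem_cons.2 ⟨ok_gT_29_0, List.forall_mem_nil _⟩⟩⟩⟩⟩⟩⟩⟩⟩⟩⟩

/-- certificates -/
def bT_2_0 : ℕ × ℕ × List Cert := (2, 21,
  [⟨0, [.one, .gen 0 1 0, .gen 2 1 0, .gen 3 1 0, .gen 4 1 0, .gen 5 1 0, .mul 4 4, .mul 5 0, .gen 0 1 1,
  .lin [(1049104, 8), (37952, 7), (1125584, 6), (172208, 5), (1457648, 4), (196814, 3), (1145648, 2),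
  (1987932, 1), (819328, 0)], .lin [(847720, 9), (351840, 8), (144040, 7), (1861180, 6), (1600984, 5),
  (2033213, 4), (417552, 3), (211518, 2), (735760, 1)], .lin [(1431893, 10), (1230844, 9), (278245, 8),
  (210226, 7), (2053083, 6), (325534, 4), (1901993, 3), (1497748, 2)], .lin [(1656121, 11), (881500, 10),
  (1120081, 9), (910937, 8), (161959, 7), (1936396, 5), (1732475, 4)], .lin [(349053, 12), (126732, 11),
  (1808421, 10), (1229065, 9), (1254883, 8), (161660, 6)], .lin [(1349196, 13), (684836, 12), (1718709, 11),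
  (914506, 7), (550771, 5)], .lin [(2081280, 14), (1603576, 13), (1616102, 12), (1540583, 8)], .lin [(252064,
  15), (1238100, 14), (1949311, 13)], .lin [(348632, 16), (57563, 15)], .lin [(1, 17)]], [(0, 1), (1, 256),
  (2, 2048), (3, 256), (4, 32), (5, 4096), (6, 64), (7, 32), (8, 128), (9, 32)]⟩, ⟨3, [.one, .gen 0 1 0, .gen
  2 1 0, .gen 4 1 0, .gen 5 1 0, .gen 4 1 1, .lin [(1310718, 5), (393217, 4), (1863916, 3), (1134254, 2),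
  (689205, 1), (690412, 0)], .lin [(1242988, 6), (1475660, 5), (477848, 4), (1645476, 3), (242645, 1)], .lin
  [(1297994, 7), (841699, 6), (738456, 5), (846558, 4)], .lin [(1779768, 8), (1512338, 6), (1191465, 5)],
  .lin [(8, 9), (1919385, 7)], .lin [(1, 10)]], [(0, 1), (1, 8), (2, 8), (3, 32), (4, 4), (5, 16)]⟩, ⟨6,
  [.one, .gen 0 1 0, .gen 2 1 0, .gen 3 1 0, .gen 5 1 0, .gen 0 3 0, .gen 2 1 1, .lin [(307896, 6), (1129000,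
  5), (1437147, 4), (1920181, 3), (449738, 2), (164072, 1), (332, 0)], .lin [(955780, 7), (1840108, 6),
  (1414088, 5), (1433843, 3), (1282856, 2), (1162406, 1)], .lin [(204282, 8), (986566, 7), (1386866, 6),
  (331220, 4), (964433, 3)], .lin [(1100180, 9), (1644764, 8), (1005428, 7), (1106497, 3)], .lin [(258893,
  10), (268031, 9), (1166255, 8)], .lin [(1600247, 11), (1101869, 10)], .lin [(1, 12)]], [(0, 1), (1, 16),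
  (2, 64), (3, 8), (4, 16), (5, 64), (6, 16)]⟩, ⟨7, [.one, .gen 2 1 0, .gen 5 1 0, .gen 0 3 0, .lin
  [(1196856, 3), (1247164, 2), (630056, 1), (599313, 0)], .lin [(349524, 4), (1718501, 3), (1733063, 2)],
  .lin [(1423620, 5), (56133, 4)], .lin [(1, 6)]], [(0, 1), (1, 64), (2, 16), (3, 4)]⟩])

theorem ok_bT_2_0 : chkQ DT bT_2_0.1 bT_2_0.2.1 (bT_2_0.1 ^ bT_2_0.2.1) seedsT bT_2_0.2.2 (cmbs colsT (rels lvT [])) (rels lvT []).length = true := by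
  decide +kernel

/-- certificates -/
def bT_3_0 : ℕ × ℕ × List Cert := (3, 16,
  [⟨0, [.one, .gen 0 1 0, .gen 2 1 0, .gen 3 1 0, .gen 4 1 0, .gen 5 1 0, .mul 4 4, .mul 5 4, .mul 6 4, .mul
  7 2, .mul 8 1, .gen 0 1 1, .mul 10 0, .lin [(9343557, 12), (39360510, 11), (32842326, 10), (10624761, 9),
  (39428457, 8), (860919, 7), (25295868, 6), (10246815, 5), (32368401, 4), (2468046, 3), (9881826, 2),
  (31006791, 1), (7067934, 0)], .lin [(5775180, 13), (30603636, 12), (36403564, 11), (26408022, 10),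
  (27750878, 9), (28685267, 8), (21380169, 7), (34528854, 6), (22149300, 5), (32417528, 4), (8832778, 3),
  (23778024, 2), (26385383, 1)], .lin [(6017991, 14), (5266059, 13), (10958503, 12), (31092063, 11),
  (23586482, 10), (10420568, 9), (5160591, 8), (13476399, 7), (23077779, 6), (24553723, 5), (18196355, 4),
  (32653392, 3)], .lin [(38583414, 15), (34474698, 14), (38754141, 13), (38221731, 12), (21056553, 11),
  (10330527, 10), (24621979, 9), (38079009, 8), (1200731, 7), (30614683, 6), (39271279, 5)], .lin [(36939654,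
  16), (14702360, 15), (22645464, 14), (18388593, 13), (14312331, 12), (37353657, 11), (20052435, 10),
  (28990687, 9), (12892479, 8), (2545482, 7)], .lin [(5692869, 17), (4414140, 16), (42682833, 15), (32475204,
  14), (29779674, 13), (12385719, 12), (15042832, 11), (37194374, 9), (17004203, 8)], .lin [(25705272, 18),
  (5382699, 17), (18569564, 16), (4579977, 15), (6971005, 14), (29057461, 13), (15956192, 12), (15178645,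
  10)], .lin [(27584094, 19), (15627486, 18), (10633202, 17), (18519198, 16), (21382106, 15), (35036269, 14),
  (29591952, 13)], .lin [(40246847, 20), (2415485, 19), (42052816, 18), (30080473, 17), (11963064, 16),
  (55993, 14), (2731138, 9)], .lin [(24584656, 21), (2172480, 20), (4911413, 19), (1236324, 18), (40882353,
  17)], .lin [(15234642, 22), (29028290, 21), (19671799, 19), (38566348, 16)], .lin [(34808292, 23),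
  (5599499, 22), (26441347, 20)], .lin [(20678517, 24), (39198989, 23)], .lin [(1, 25)]], [(0, 1), (1, 27),
  (2, 729), (3, 19683), (4, 531441), (5, 81), (6, 243), (7, 27), (8, 2187), (9, 729), (10, 729), (11, 19683),
  (12, 27), (13, 81)]⟩])

theorem ok_bT_3_0 : chkQ DT bT_3_0.1 bT_3_0.2.1 (bT_3_0.1 ^ bT_3_0.2.1) seedsT bT_3_0.2.2 (cmbs colsT (rels lvT [])) (rels lvT []).length = true := by
  decide +kernel

/-- the certificates -/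
def bT : List (ℕ × ℕ × List Cert) :=
  [bT_2_0, bT_3_0]

theorem ok_bT : ∀ y ∈ bT, chkQ DT y.1 y.2.1 (y.1 ^ y.2.1) seedsT y.2.2 (cmbs colsT (rels lvT [])) (rels lvT []).length = true :=
  List.forall_mem_cons.2 ⟨ok_bT_2_0, List.forall_mem_cons.2 ⟨ok_bT_3_0, List.forall_mem_nil _⟩⟩

/-- the primes and the nontrivial sections -/
def PLT : List (ℕ × ℕ × List ℕ) :=
  [(2, 21, [0, 3, 4, 5, 6, 7, 11, 23, 24, 28, 29, 30, 31, 32, 36, 49, 52, 53, 66, 68]), (3, 16, [0, 1, 2, 8,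
  9, 10, 11, 23, 24, 25, 26, 27, 34, 35, 36, 49, 50, 51, 64]), (5, 2, [0, 1, 2, 4, 5, 6, 9, 10, 20, 21, 23,
  32, 46]), (7, 3, [0, 1, 2, 4, 5, 7, 9, 11, 20, 21]), (11, 1, [0, 2, 6]), (13, 1, [0, 2, 5, 7]), (17, 1,
  [0]), (23, 1, [0]), (29, 1, [0])]

theorem okPLT : okPrimes DT PLT = true := by decide +kernel

theorem allT : (PLT.all fun x => x.2.2.all fun t => hasQ gT x.1 t || hasQ bT x.1 t) = true := by decide +kernel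

end Cfsg.Agent.TAB.F24
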