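import Cfsg.Agent.TAB.F24.Dat
import Cfsg.Agent.TAB.Eng.Col

/-!
# `Fi₂₄'` and its triple cover : operations for types up to an automorphism (helper16, TAB)

* `virt_of_sumA`, `virt_coadA`, `virt_cycA` (twice the permutation character), `virt_indA`, `virt_infl`;
* `chkSd`, `virt_chkSd` : lists of seeds;
* `Mn`, `In0` : the minimal interface; `Sc.mn`, `In.in0`.
-/

set_option autoImplicit false
set_option maxRecDepth 100000

namespace Cfsg.Agent.TAB.F24

open Cfsg Cfsg.Agent.TAB.Eng Cfsg.Agent.Characters Cfsg.Agent.Characters.Core Cfsg.Agent.Characters.Brauer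
open Cfsg.Agent.H447.CTab Cfsg.Agent.TAB.ON
open scoped ComplexConjugate

universe u v

section generic

variable {G : Type u} [Group G] {D : Dat} {T : TD G D} {al : MulAut G}

theorem gen_comp {H : Type v} [Group H] (f : H →* G) {χ : G → ℂ} (hχ : IsGeneralizedCharacter G χ) :
    IsGeneralizedCharacter H fun x => χ (f x) := by
  obtain ⟨a, b, ha, hb, rfl⟩ := hχ
  exact ⟨a ∘ f, b ∘ f, isCharacter_comp f ha, isCharacter_comp f hb, rfl⟩

theorem RatA.eq [Finite G] (hr : RatA T al) {ψ : G → ℂ} (hψ : IsGeneralizedCharacter G ψ)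
    (hq : ∀ g, ∃ q : ℚ, ψ g = q) (ha : ∀ g, ψ (al g) = ψ g) {g h : G} (hg : T.ty g = T.ty h) : ψ g = ψ h := by
  obtain ⟨q, hq⟩ := hq g
  obtain ⟨k, hk | hk⟩ := hr.2 g h hg
  · have h1 := coprime_of_conj (by rw [T.ord, T.ord, hg]) hk
    obtain ⟨c, rfl⟩ := isConj_iff.1 hk
    rw [gen_classFunction hψ, gen_pow hψ hq h1]
  · have h1 := coprime_of_conj (g := al g) (h := h) (k := k) (by rw [al.orderOf_eq, T.ord, T.ord, hg])
      (by rwa [← map_pow])
    rw [al.orderOf_eq] at h1
    obtain ⟨c, rfl⟩ := isConj_iff.1 hk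
    rw [gen_classFunction hψ, ha, gen_pow hψ hq h1]

open Classical in
/-- an invariant rational generalized character is determined by its sums over the types -/
theorem virt_of_sumA [Fintype G] (hm : T.Mass) (hr : RatA T al) {ψ : G → ℂ} (hψ : IsGeneralizedCharacter G ψ)
    (hq : ∀ g, ∃ q : ℚ, ψ g = q) (ha : ∀ g, ψ (al g) = ψ g) {f : ℕ → ℤ}
    (h : ∀ t < D.n, ∑ g : G, (if T.ty g = t then ψ g else 0) = (D.cnt t : ℂ) * f t) : Virt T f := by
  have h1 : (fun g => (f (T.ty g) : ℂ)) = ψ := by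
    funext g
    have h2 := h _ (T.lt g)
    have h3 : ∑ x : G, (if T.ty x = T.ty g then ψ x else 0) = ∑ x : G, if T.ty x = T.ty g then ψ g else 0 :=
      Finset.sum_congr rfl fun x _ => by
        split_ifs with h4
        · exact hr.eq hψ hq ha h4
        · rfl
    rw [h3, sum_mass hm fun t => if t = T.ty g then ψ g else 0] at h2
    simp only [smul_ite, smul_zero, Finset.sum_ite_eq', Finset.mem_range, T.lt g, if_true, nsmul_eq_mul] at h2
    refine (mul_left_cancel₀ ?_ h2).symm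
    rw [← hm.2 _ (T.lt g)]
    have : Nonempty {x : G // T.ty x = T.ty g} := ⟨⟨g, rfl⟩⟩
    exact_mod_cast Nat.card_pos.ne'
  rw [Virt, h1]
  exact hψ

theorem virt_coadA [Finite G] (hm : T.Mass) (hr : RatA T al) {u v : List ℤ} {k : ℕ} (hu : Virt T (nth u))
    (h : coadB D u k v = true) : Virt T (nth v) := by
  classical
  have := Fintype.ofFinite G
  rw [coadB, frcL_eq] at h
  refine virt_of_sumA hm hr (gen_coad hu k) (fun g => ⟨∑ x : G, if x ^ k = g then (nth u (T.ty x) : ℚ) else 0, ?_⟩)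
    (fun g => ?_) fun t ht => ?_
  · simp only [coadF, Rat.cast_sum, apply_ite ((↑) : ℚ → ℂ), Rat.cast_intCast, Rat.cast_zero]
  · refine (Fintype.sum_equiv al.toEquiv _ _ fun x => ?_).symm
    have h1 : al.toEquiv x = al x := rfl
    simp only [h1, hr.1, ← map_pow, al.injective.eq_iff]
  · have h1 := of_decide_eq_true (allL_spec h t (List.mem_range.2 ht))
    rw [sum_list] at h1
    have h2 := sum_coadF (fun g => (nth u (T.ty g) : ℂ)) (fun g => if T.ty g = t then 1 else 0) k
    simp only [mul_ite, mul_one, mul_zero, T.pow] at h2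
    rw [h2, sum_mass hm fun s => if D.pwf s k = t then (nth u s : ℂ) else 0]
    have h3 := congrArg (Int.cast : ℤ → ℂ) h1
    push_cast at h3
    rw [← h3]
    refine Finset.sum_congr rfl fun s hs => ?_
    rw [ntd_eq _ _ (by simpa using hs)]
    simp only [List.getElem_map, List.getElem_range, smul_ite, smul_zero, nsmul_eq_mul]

open Classical in
/-- the sum of the permutation character on the cosets of `H` over a type -/
theorem sum_ind [Fintype G] (T : TD G D) (H : Subgroup G) [Fintype H] (t : ℕ) :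
    (Nat.card H : ℂ) * ∑ g : G, (if T.ty g = t then indFun H (fun _ => ((1 : ℤ) : ℂ)) g else 0) =
      Nat.card G * ∑ x : H, if T.ty x = t then 1 else 0 := by
  have h1 := classInner_indFun H inferInstance (fun _ => ((1 : ℤ) : ℂ)) (fun g => if T.ty g = t then 1 else 0)
    fun g c => by simp only [T.conj]
  rw [classInner_def, classInner_def] at h1
  simp only [apply_ite conj, map_one, map_zero, mul_ite, mul_one, mul_zero] at h1
  have h3 : (Nat.card G : ℂ) ≠ 0 := card_ne_zero_complex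
  have h4 : (Nat.card H : ℂ) ≠ 0 := card_ne_zero_complex
  field_simp at h1
  rw [Int.cast_one] at h1 ⊢
  linear_combination h1

theorem rat_ind [Fintype G] (H : Subgroup G) (g : G) : ∃ q : ℚ, indFun H (fun _ => ((1 : ℤ) : ℂ)) g = q := by
  classical
  refine ⟨(Nat.card H : ℚ)⁻¹ * ∑ x : G, if x⁻¹ * g * x ∈ H then 1 else 0, ?_⟩
  rw [Core.indFun_apply]
  push_cast
  congr 1
  refine Finset.sum_congr rfl fun x _ => ?_
  split_ifs with hx
  · rw [extendByZero_mem H _ hx, Rat.cast_one]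
  · rw [extendByZero_notMem H _ hx, Rat.cast_zero]

open Classical in
/-- twice the permutation character on the cosets of a subgroup -/
theorem virt_ind2 [Finite G] (hm : T.Mass) (hr : RatA T al) (h2 : ∀ g, al (al g) = g) (H : Subgroup G) [Fintype H]
    {f : ℕ → ℤ} (h : ∀ t < D.n, 2 * (D.N : ℂ) * ∑ x : H, (if T.ty x = t then 1 else 0) =
      Nat.card H * (D.cnt t * f t)) : Virt T f := by
  have := Fintype.ofFinite G
  have h1 := isGeneralizedCharacter_indFun H (gen_const H 1)
  refine virt_of_sumA hm hr (isGeneralizedCharacter_add h1 (gen_comp al.toMonoidHom h1)) (fun g => ?_) (fun g => ?_)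
    fun t ht => ?_
  · obtain ⟨a, ha⟩ := rat_ind H g
    obtain ⟨b, hb⟩ := rat_ind H (al g)
    exact ⟨a + b, by rw [Rat.cast_add, ← ha, ← hb]; rfl⟩
  · simp only [Pi.add_apply, MulEquiv.coe_toMonoidHom, h2]
    exact add_comm _ _
  · have h3 := sum_ind T H t
    have h4 : ∑ g : G, (if T.ty g = t then indFun H (fun _ => ((1 : ℤ) : ℂ)) (al g) else 0) =
        ∑ g : G, if T.ty g = t then indFun H (fun _ => ((1 : ℤ) : ℂ)) g else 0 :=
      Fintype.sum_equiv al.toEquiv _ _ fun x => by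
        have h5 : al.toEquiv x = al x := rfl
        rw [h5, hr.1]
    have h5 := h t ht
    rw [← hm.1] at h5
    refine mul_left_cancel₀ (card_ne_zero_complex (G := H)) ?_
    simp only [Pi.add_apply, MulEquiv.coe_toMonoidHom, ite_add_zero, Finset.sum_add_distrib]
    rw [h4]
    linear_combination 2 * h3 + h5

/-- `v` is twice the permutation character on the cosets of a cyclic subgroup with generators of type `s` -/
noncomputable def cycA (D : Dat) (s : ℕ) (v : List ℤ) : Bool :=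
  frcL ((List.range (D.ord s)).map fun i => D.pwf s i) fun PL =>
    allL (fun t => decide (2 * (D.N : ℤ) * (PL.map fun j => if j = t then (1 : ℤ) else 0).sum =
      D.ord s * (D.cnt t * nth v t))) (List.range D.n)

theorem virt_cycA [Finite G] (hm : T.Mass) (hr : RatA T al) (h0 : ∀ g, al (al g) = g) (x : G) {v : List ℤ}
    (h : cycA D (T.ty x) v = true) : Virt T (nth v) := by
  classical
  have := Fintype.ofFinite (Subgroup.zpowers x)
  rw [cycA, frcL_eq] at h
  refine virt_ind2 hm hr h0 (Subgroup.zpowers x) fun t ht => ?_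
  have h1 := of_decide_eq_true (allL_spec h t (List.mem_range.2 ht))
  rw [List.map_map, sum_list, ← T.ord] at h1
  have h2 := congrArg (Int.cast : ℤ → ℂ) h1
  push_cast at h2
  rw [Nat.card_zpowers, ← h2, Finset.sum_range]
  congr 1
  refine (Fintype.sum_equiv (finEquivZPowers (isOfFinOrder_of_finite x)) _ _ fun i => ?_).symm
  have h3 : ((finEquivZPowers (isOfFinOrder_of_finite x) i : Subgroup.zpowers x) : G) = x ^ (i : ℕ) := rfl
  rw [h3, T.pow, Function.comp_apply]
  split_ifs <;> simp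

/-- `v` is the permutation character on the cosets of a subgroup with the types `E` and the fusion `fu` -/
noncomputable def indA (D E : Dat) (fu : List ℕ) (v : List ℤ) : Bool :=
  allL (fun t => decide ((D.N : ℤ) * ((List.range E.n).map fun s =>
    if fu.getD s 0 = t then (E.cnt s : ℤ) else 0).sum = E.N * (D.cnt t * nth v t))) (List.range D.n)

theorem virt_indA [Finite G] (hm : T.Mass) (hr : RatA T al) {H : Type v} [Group H] {E : Dat} {S : TD H E}
    (hS : S.Mass) (f : H →* G) (hf : Function.Injective f) (ha : ∀ x, al (f x) = f x) {fu : List ℕ}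
    (hfu : ∀ x, T.ty (f x) = fu.getD (S.ty x) 0) {v : List ℤ} (h : indA D E fu v = true) : Virt T (nth v) := by
  classical
  have := Fintype.ofFinite G
  have := Finite.of_injective f hf
  have := Fintype.ofFinite H
  have := Fintype.ofFinite f.range
  have h0 : ∀ g, al g ∈ f.range ↔ g ∈ f.range := fun g =>
    ⟨fun ⟨x, hx⟩ => ⟨x, al.injective ((ha x).trans hx)⟩, fun ⟨x, hx⟩ => ⟨x, by rw [← hx, ha]⟩⟩
  refine virt_of_sumA hm hr (isGeneralizedCharacter_indFun f.range (gen_const _ 1)) (rat_ind _) (fun g => ?_)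
    fun t ht => ?_
  · rw [Core.indFun_apply, Core.indFun_apply]
    congr 1
    refine (Fintype.sum_equiv al.toEquiv _ _ fun x => ?_).symm
    have h1 : al.toEquiv x = al x := rfl
    rw [h1, ← map_inv, ← map_mul, ← map_mul]
    by_cases hx : x⁻¹ * g * x ∈ f.range
    · rw [extendByZero_mem _ _ hx, extendByZero_mem _ _ ((h0 _).2 hx)]
    · rw [extendByZero_notMem _ _ hx, extendByZero_notMem _ _ (mt (h0 _).1 hx)]
  · have h1 := of_decide_eq_true (allL_spec h t (List.mem_range.2 ht))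
    rw [sum_list] at h1
    have h2 := congrArg (Int.cast : ℤ → ℂ) h1
    push_cast at h2
    have h3 := sum_ind T f.range t
    have h4 : ∑ x : f.range, (if T.ty x = t then (1 : ℂ) else 0) = ∑ x : H, if fu.getD (S.ty x) 0 = t then 1 else 0 :=
      (Fintype.sum_equiv (MonoidHom.ofInjective hf).toEquiv _ _ fun x => by rw [← hfu]; rfl).symm
    rw [h4, sum_mass hS fun s => if fu.getD s 0 = t then (1 : ℂ) else 0,
      ← Nat.card_congr (MonoidHom.ofInjective hf).toEquiv, hm.1] at h3
    simp only [smul_ite, smul_zero, nsmul_eq_mul, mul_one] at h3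
    refine mul_left_cancel₀ (card_ne_zero_complex (G := H)) ?_
    rw [h3, h2, hS.1]

/-- inflation -/
theorem virt_infl {H : Type v} [Group H] {E : Dat} {S : TD H E} (f : H →* G) {pr : List ℕ}
    (h : ∀ x, T.ty (f x) = pr.getD (S.ty x) 0) (hl : pr.length = E.n) {v : ℕ → ℤ} (hv : Virt T v) :
    Virt S (nth (pr.map v)) := by
  have h1 := gen_comp f hv
  simp only [h] at h1
  refine Virt.congr (f := fun s => v (pr.getD s 0)) h1 fun t ht => ?_
  rw [nth_eq, List.getD_eq_getElem _ _ (hl ▸ ht), List.getD_eq_getElem _ _ (by rw [List.length_map, hl]; exact ht),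
    List.getElem_map]

/-- a seed : `(v, i, k)` is the sum of the seed `i` over the `k`-th roots, for `k = 0` twice the permutation
character on a cyclic subgroup of type `i` -/
noncomputable def chkSd (D : Dat) (acc : List (List ℤ)) (l : List (List ℤ × ℕ × ℕ)) : Bool :=
  allL (fun p => cond (Nat.beq p.2.2 0) (Nat.blt p.2.1 D.n && Nat.blt 0 (D.cnt p.2.1) && cycA D p.2.1 p.1)
    (coadB D (ntd acc [] p.2.1) p.2.2 p.1)) l

theorem virt_chkSd [Finite G] (hm : T.Mass) (hr : RatA T al) (h0 : ∀ g, al (al g) = g) {acc : List (List ℤ)}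
    (ha : ∀ v ∈ acc, Virt T (nth v)) {l : List (List ℤ × ℕ × ℕ)} (h : chkSd D acc l = true) :
    ∀ v ∈ acc ++ l.map Prod.fst, Virt T (nth v) := by
  refine List.forall_mem_append.2 ⟨ha, fun v hv => ?_⟩
  obtain ⟨p, hp, rfl⟩ := List.mem_map.1 hv
  have h1 := allL_spec h p hp
  cases h2 : Nat.beq p.2.2 0 with
  | false =>
    rw [h2] at h1
    exact virt_coadA hm hr (Virt.ntd ha _) h1
  | true =>
    rw [h2, cond_true, Bool.and_eq_true, Bool.and_eq_true, Nat.blt_eq, Nat.blt_eq, ← hm.2 _ h1.1.1] at h1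
    obtain ⟨⟨x, hx⟩⟩ := (Nat.card_pos_iff.1 h1.1.2).1
    exact virt_cycA hm hr h0 x (hx ▸ h1.2)

end generic

/-- the permutation character of degree 306936 -/
def piL : List ℤ := [306936, 504, 3512, 162, 378, 3240, 1485, 0, 8, 64, 120, 36, 2, 18, 18, 18, 72, 29, 38, 45, 126,
    128, 0, 21, 0, 4, 12, 0, 9, 6, 27, 36, 45, 0, 4, 12, 3, 1, 2, 2, 12, 4, 5, 18, 6, 36, 16, 21, 0, 6, 5, 0, 3, 15,
    0, 2, 1, 3, 3, 2, 12, 5, 8, 0, 4, 0, 6, 0, 0, 3, 1, 1, 6, 6, 0, 0, 2, 3, 0, 1, 0, 1, 3, 0, 1, 3, 1, 0, 3, 0, 2,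
    0, 0, 1]

/-- the permutation character of degree 920808 of the cover -/
def piX : List ℤ := [920808, 0, 1512, 0, 10536, 0, 162, 1134, 0, 3240, 4455, 0, 0, 24, 0, 192, 0, 360, 0, 108, 0, 6,
    0, 18, 0, 54, 54, 0, 72, 87, 0, 114, 0, 135, 0, 378, 0, 384, 0, 0, 63, 0, 0, 0, 12, 0, 36, 0, 0, 0, 9, 18, 0,
    27, 36, 135, 0, 0, 12, 0, 36, 0, 9, 0, 3, 0, 6, 0, 6, 0, 12, 12, 0, 15, 0, 18, 0, 18, 36, 48, 0, 63, 0, 0, 18,
    0, 15, 0, 0, 0, 9, 0, 45, 0, 0, 0, 6, 0, 3, 0, 3, 3, 6, 0, 12, 15, 0, 24, 0, 0, 0, 0, 12, 0, 0, 0, 6, 0, 0, 0,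
    9, 0, 3, 0, 0, 3, 6, 6, 0, 0, 0, 6, 0, 3, 0, 3, 0, 0, 0, 3, 0, 9, 0, 0, 0, 3, 0, 3, 3, 0, 0, 3, 0, 6, 0, 0, 0,
    0, 0, 3, 0]

/-- the minimal scene -/
structure Mn (X : Type) [Group X] where
  T' : TD Spor.Fi24' DT
  T : TD X DX
  mass' : T'.Mass
  mass : T.Mass
  pi : X →* Spor.Fi24'
  surj : Function.Surjective pi
  z : X
  cen : z ∈ Subgroup.center X
  ker : pi.ker = Subgroup.zpowers z
  ord : orderOf z = 3
  perf : commutator X = ⊤
  al' : MulAut Spor.Fi24'
  al : MulAut X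
  al_al' : ∀ g, al' (al' g) = g
  al_al : ∀ x, al (al x) = x
  rat' : RatA T' al'
  rat : RatA T al
  prj : ∀ x, T'.ty (pi x) = proj.getD (T.ty x) 0
  vT : Virt T' (nth piL)
  vX : Virt T (nth piX)
  cj : ∀ p ∈ CJ, ∃ g, T'.ty g = p.1 ∧ IsConj g (g ^ p.2)

/-- **the minimal interface** -/
def In0 : Prop := ∃ (X : Type) (_ : Group X) (_ : Finite X), Nonempty (Mn X)

theorem ind_T : indA DT F23.D fus piL = true := by decide +kernel

theorem ind_X : indA DX F23.D fx0 piX = true := by decide +kernel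

theorem fus_get : ∀ s < F23.D.n, proj.getD (fx0.getD s 0) 0 = fus.getD s 0 := by decide +kernel

/-- the scene gives the minimal scene -/
def Sc.mn {X : Type} [Group X] [Finite X] (S : Sc X) : Mn X where
  T' := S.T'
  T := S.T
  mass' := S.mass'
  mass := S.mass
  pi := S.pi
  surj := S.surj
  z := S.z
  cen := S.cen
  ker := S.ker
  ord := S.ord
  perf := S.perf
  al' := S.al'
  al := S.al
  al_al' g := by
    obtain ⟨x, rfl⟩ := S.surj g
    rw [← S.pi_al, ← S.pi_al, S.al_al]
  al_al := S.al_al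
  rat' := S.rat'
  rat := S.rat
  prj := S.prj
  vT :=
    haveI := Finite.of_surjective _ S.surj
    virt_indA S.mass' S.rat' S.h3.1 (S.pi.comp S.psi) S.inj (fun x => (S.pi_al _).symm.trans (congrArg S.pi (S.fix x)))
      (fun x => (S.prj _).trans (by rw [S.f0, fus_get _ (S.T3.lt x)])) ind_T
  vX := virt_indA S.mass S.rat S.h3.1 S.psi (Function.Injective.of_comp (f := S.pi) S.inj) S.fix S.f0 ind_X
  cj := S.cj

theorem In.in0 (h : In) : In0 := by
  obtain ⟨X, _, _, ⟨S⟩⟩ := h
  exact ⟨X, inferInstance, inferInstance, ⟨S.mn⟩⟩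

end Cfsg.Agent.TAB.F24
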