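import Cfsg.Agent.TAB.F24.Op
import Cfsg.Agent.TAB.Cov.Three
import Cfsg.Agent.TAB.Eng.Sep

/-!
# The table of `Fi₂₄'` : data

80 rows are irreducible characters, 14 are sums of two.  The table is given by its columns (helper16, TAB)
-/

set_option autoImplicit false
set_option maxRecDepth 100000

namespace Cfsg.Agent.TAB.F24

open Cfsg.Agent.TAB.Eng Cfsg.Agent.TAB.Glue Cfsg.Agent.TAB.Cov

/-- the values at the type 0 -/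
def cT0 : List ℤ :=
  [.ofNat 1, .ofNat 8671, .ofNat 57477, .ofNat 249458, .ofNat 555611, .ofNat 1666833, .ofNat 4864431,
  .ofNat 32715683, .ofNat 35873145, .ofNat 40536925, .ofNat 48893768, .ofNat 79452373, .ofNat 112168056,
  .ofNat 159402880, .ofNat 281380736, .ofNat 415098112, .ofNat 635618984, .ofNat 1069551175,
  .ofNat 1112333222, .ofNat 1264015025, .ofNat 1337276304, .ofNat 1540153692, .ofNat 2346900864,
  .ofNat 3178094920, .ofNat 3208653525, .ofNat 3283490925, .ofNat 5005499499, .ofNat 5775278080,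
  .ofNat 6471756928, .ofNat 7150713570, .ofNat 8529641472, .ofNat 9100908180, .ofNat 9441555200,
  .ofNat 10169903744, .ofNat 13904165275, .ofNat 13904165275, .ofNat 14507059905, .ofNat 17068369920,
  .ofNat 17161712568, .ofNat 25027497495, .ofNat 27808330550, .ofNat 29444114700, .ofNat 35594663104,
  .ofNat 36858678129, .ofNat 37337059200, .ofNat 38641860608, .ofNat 40043995992, .ofNat 44493328880,
  .ofNat 45049495491, .ofNat 46602926370, .ofNat 54234085491, .ofNat 55616661100, .ofNat 63831063582,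
  .ofNat 67331776512, .ofNat 71189326208, .ofNat 74887473024, .ofNat 77108871168, .ofNat 77379702400,
  .ofNat 102385217025, .ofNat 111233322200, .ofNat 111233322200, .ofNat 118588933386, .ofNat 139317477376,
  .ofNat 142169187069, .ofNat 142378652416, .ofNat 145650089984, .ofNat 150201655296, .ofNat 156321775827,
  .ofNat 156321775827, .ofNat 160313753600, .ofNat 169598100672, .ofNat 178514751987, .ofNat 184117100544,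
  .ofNat 190685695200, .ofNat 205940550816, .ofNat 222758961152, .ofNat 225247477455, .ofNat 250274974950,
  .ofNat 282049015248, .ofNat 336033532800, .ofNat 3207050, .ofNat 149674800, .ofNat 21553171200,
  .ofNat 36963688608, .ofNat 108963254400, .ofNat 130787835904, .ofNat 154015369200, .ofNat 264780708192,
  .ofNat 280191225600, .ofNat 302794414650, .ofNat 329144794704, .ofNat 395627724800, .ofNat 400439959920,
  .ofNat 410707651200]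

/-- the values at the type 1 -/
def cT1 : List ℤ :=
  [.ofNat 1, .negSucc 32, .ofNat 133, .ofNat 370, .ofNat 91, .ofNat 273, .negSucc 1104, .negSucc 2652,
  .ofNat 4473, .ofNat 3165, .ofNat 840, .ofNat 5845, .ofNat 6776, .ofNat 896, .ofNat 8064, .negSucc 2815,
  .ofNat 3752, .ofNat 13895, .negSucc 13145, .ofNat 18865, .negSucc 11375, .ofNat 4956, .negSucc 2687,
  .negSucc 9911, .ofNat 32725, .ofNat 25965, .negSucc 24212, .ofNat 49152, .negSucc 43903, .negSucc 16925,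
  .ofNat 0, .ofNat 17556, .ofNat 8960, .negSucc 11647, .ofNat 10395, .ofNat 37275, .negSucc 11582,
  .ofNat 43008, .ofNat 47544, .ofNat 18711, .negSucc 6089, .negSucc 22259, .ofNat 23744, .ofNat 37233,
  .negSucc 49279, .ofNat 0, .ofNat 53592, .negSucc 45583, .ofNat 40131, .negSucc 10205, .ofNat 93555,
  .negSucc 101779, .ofNat 36126, .ofNat 57344, .negSucc 24191, .ofNat 8064, .ofNat 0, .negSucc 76159,
  .ofNat 76545, .ofNat 29400, .negSucc 24359, .negSucc 105461, .ofNat 0, .ofNat 60669, .negSucc 48383,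
  .ofNat 0, .ofNat 57344, .ofNat 39123, .ofNat 39123, .negSucc 81919, .ofNat 52416, .ofNat 124659, .ofNat 0,
  .negSucc 92959, .ofNat 54432, .ofNat 0, .ofNat 7119, .negSucc 54809, .negSucc 93743, .negSucc 13439,
  .negSucc 629, .negSucc 8399, .ofNat 80640, .ofNat 75936, .ofNat 69760, .ofNat 0, .negSucc 41999,
  .ofNat 69984, .ofNat 65280, .ofNat 85050, .ofNat 27216, .ofNat 0, .negSucc 23183, .negSucc 111999]

/-- the values at the type 2 -/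
def cT2 : List ℤ :=
  [.ofNat 1, .ofNat 351, .ofNat 1157, .ofNat 2354, .ofNat 5083, .ofNat 11153, .ofNat 13871, .ofNat 43043,
  .ofNat 53625, .ofNat 39325, .ofNat 95304, .ofNat 104533, .ofNat 19448, .ofNat 158080, .ofNat 11648,
  .ofNat 256256, .ofNat 323752, .ofNat 175175, .ofNat 246246, .ofNat 352625, .ofNat 388752, .ofNat 695772,
  .ofNat 750464, .ofNat 886600, .ofNat 648725, .ofNat 439725, .ofNat 627627, .ofNat 0, .ofNat 267904,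
  .ofNat 484770, .ofNat 1441792, .ofNat 616980, .ofNat 1478400, .ofNat 1299584, .ofNat 675675,
  .ofNat 2277275, .ofNat 1605825, .ofNat 665600, .ofNat 1438008, .ofNat 1216215, .negSucc 250249,
  .ofNat 300300, .ofNat 192192, .negSucc 1825550, .ofNat 560000, .ofNat 2555904, .negSucc 744743,
  .ofNat 880880, .ofNat 2573571, .ofNat 1171170, .ofNat 1384371, .ofNat 2702700, .ofNat 393822,
  .ofNat 2342912, .ofNat 2946944, .ofNat 3978624, .ofNat 2555904, .ofNat 3203200, .negSucc 2013374,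
  .ofNat 2202200, .negSucc 1000999, .negSucc 2453813, .negSucc 1441791, .ofNat 2393469, .negSucc 2306303,
  .ofNat 2555904, .negSucc 2342911, .negSucc 85292, .negSucc 85292, .ofNat 0, .ofNat 192192,
  .negSucc 2814668, .ofNat 2555904, .ofNat 114400, .ofNat 562848, .negSucc 5111807, .ofNat 1336335,
  .negSucc 2252249, .negSucc 432431, .negSucc 873599, .ofNat 3850, .ofNat 74800, .negSucc 211199,
  .ofNat 3097248, .ofNat 3203200, .ofNat 2883584, .ofNat 6006000, .negSucc 6054047, .negSucc 2745599,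
  .ofNat 5528250, .negSucc 1154735, .ofNat 0, .ofNat 240240, .ofNat 246400]

/-- the values at the type 3 -/
def cT3 : List ℤ :=
  [.ofNat 1, .ofNat 4, .ofNat 48, .ofNat 113, .negSucc 48, .negSucc 65, .negSucc 23, .ofNat 26, .ofNat 27,
  .negSucc 10, .ofNat 62, .ofNat 148, .ofNat 228, .negSucc 259, .ofNat 668, .ofNat 166, .negSucc 651,
  .ofNat 769, .ofNat 938, .ofNat 872, .ofNat 891, .ofNat 9, .ofNat 222, .negSucc 262, .ofNat 1011,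
  .ofNat 1296, .ofNat 1305, .ofNat 760, .ofNat 1594, .negSucc 287, .negSucc 1319, .negSucc 476,
  .negSucc 1899, .ofNat 2204, .ofNat 304, .ofNat 682, .ofNat 0, .ofNat 996, .ofNat 1107, .ofNat 207,
  .negSucc 39, .negSucc 3086, .ofNat 856, .ofNat 1458, .negSucc 1121, .negSucc 1335, .ofNat 1692,
  .ofNat 1664, .negSucc 1376, .ofNat 1215, .ofNat 0, .negSucc 241, .ofNat 0, .negSucc 2255, .negSucc 1905,
  .ofNat 1782, .ofNat 360, .negSucc 979, .negSucc 3725, .negSucc 564, .negSucc 456, .ofNat 0, .negSucc 823,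
  .ofNat 0, .negSucc 733, .ofNat 1544, .ofNat 1248, .ofNat 0, .ofNat 0, .ofNat 2096, .ofNat 648, .ofNat 0,
  .ofNat 3240, .ofNat 1068, .negSucc 2753, .ofNat 1904, .negSucc 1052, .negSucc 845, .ofNat 1458,
  .negSucc 377, .ofNat 152, .ofNat 570, .ofNat 4320, .negSucc 2213, .ofNat 1050, .ofNat 496, .ofNat 414,
  .negSucc 2915, .ofNat 3672, .ofNat 0, .ofNat 0, .ofNat 2816, .negSucc 2519, .negSucc 4079]

/-- the values at the type 4 -/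
def cT4 : List ℤ :=
  [.ofNat 1, .ofNat 85, .ofNat 210, .ofNat 167, .ofNat 518, .ofNat 987, .ofNat 867, .ofNat 2618, .ofNat 2457,
  .ofNat 70, .ofNat 4760, .ofNat 3010, .ofNat 2415, .ofNat 5572, .negSucc 951, .ofNat 9400, .ofNat 4046,
  .negSucc 3604, .ofNat 749, .ofNat 7595, .ofNat 10368, .ofNat 15561, .ofNat 13020, .ofNat 17962,
  .ofNat 3360, .ofNat 5670, .negSucc 881, .ofNat 1408, .ofNat 9856, .ofNat 12348, .ofNat 17472, .ofNat 8757,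
  .ofNat 14840, .ofNat 3500, .negSucc 11899, .ofNat 18340, .ofNat 19683, .ofNat 672, .ofNat 8883,
  .ofNat 10899, .ofNat 4550, .negSucc 16694, .ofNat 154, .ofNat 25515, .ofNat 7140, .ofNat 31712,
  .ofNat 8253, .negSucc 13887, .negSucc 7937, .negSucc 11906, .ofNat 0, .ofNat 11935, .ofNat 19683,
  .ofNat 336, .negSucc 447, .ofNat 29484, .ofNat 10080, .ofNat 10360, .ofNat 2835, .negSucc 29994,
  .negSucc 699, .ofNat 0, .negSucc 4927, .ofNat 0, .ofNat 35392, .ofNat 19040, .ofNat 25872, .ofNat 0,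
  .ofNat 0, .negSucc 3519, .negSucc 32885, .ofNat 0, .negSucc 2591, .ofNat 420, .ofNat 4536, .ofNat 29120,
  .negSucc 3968, .ofNat 6930, .negSucc 20411, .negSucc 3779, .negSucc 279, .ofNat 4620, .negSucc 15119,
  .negSucc 7559, .ofNat 3480, .negSucc 22399, .negSucc 8819, .ofNat 14580, .negSucc 21599, .ofNat 0,
  .ofNat 0, .negSucc 17919, .negSucc 29735, .ofNat 10500]

/-- the values at the type 5 -/
def cT5 : List ℤ :=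
  [.ofNat 1, .ofNat 247, .ofNat 534, .ofNat 2705, .negSucc 534, .ofNat 3093, .ofNat 4836, .ofNat 25298,
  .ofNat 27000, .ofNat 49075, .negSucc 3339, .negSucc 2443, .ofNat 42510, .negSucc 259, .ofNat 132860,
  .ofNat 106600, .ofNat 146120, .ofNat 47425, .ofNat 415415, .ofNat 72800, .ofNat 147420, .negSucc 16757,
  .negSucc 40115, .negSucc 111799, .ofNat 425775, .ofNat 421200, .ofNat 376740, .ofNat 457600, .ofNat 697060,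
  .negSucc 46214, .ofNat 509952, .ofNat 745290, .negSucc 204399, .negSucc 151371, .ofNat 1599325,
  .negSucc 120574, .ofNat 0, .ofNat 542400, .negSucc 218321, .ofNat 114660, .ofNat 1171625, .ofNat 655200,
  .ofNat 25480, .ofNat 132678, .ofNat 1470000, .ofNat 366080, .ofNat 1023750, .ofNat 1309490, .ofNat 1002456,
  .ofNat 2100735, .ofNat 531441, .negSucc 236599, .ofNat 767637, .ofNat 1440192, .ofNat 591500,
  .negSucc 728675, .ofNat 437760, .ofNat 1155700, .ofNat 921375, .negSucc 104649, .ofNat 2720900,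
  .ofNat 531441, .negSucc 296959, .negSucc 767636, .ofNat 711256, .negSucc 610815, .ofNat 600000,
  .negSucc 531440, .ofNat 1062882, .negSucc 582399, .ofNat 1120392, .ofNat 0, .negSucc 539135, .ofNat 978900,
  .negSucc 610739, .negSucc 173055, .negSucc 626534, .negSucc 511874, .ofNat 132678, .negSucc 377999,
  .ofNat 12950, .negSucc 9149, .negSucc 53999, .negSucc 490643, .negSucc 764399, .negSucc 806911,
  .negSucc 1250549, .negSucc 265355, .negSucc 701999, .ofNat 0, .negSucc 1062881, .ofNat 1433600,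
  .negSucc 1482389, .negSucc 1520399]

/-- the values at the type 6 -/
def cT6 : List ℤ :=
  [.ofNat 1, .negSucc 76, .ofNat 615, .ofNat 869, .ofNat 2300, .negSucc 1847, .ofNat 4917, .negSucc 1836,
  .ofNat 4158, .ofNat 880, .negSucc 14112, .ofNat 24178, .ofNat 14322, .ofNat 49312, .ofNat 10064,
  .negSucc 29479, .negSucc 39126, .negSucc 23044, .ofNat 1694, .ofNat 93050, .ofNat 92016, .negSucc 47618,
  .ofNat 92400, .negSucc 99406, .ofNat 51150, .ofNat 71280, .ofNat 151965, .ofNat 58432, .ofNat 39016,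
  .ofNat 227403, .negSucc 8447, .negSucc 71432, .ofNat 305360, .negSucc 48663, .ofNat 21175, .negSucc 179299,
  .negSucc 216512, .negSucc 62831, .ofNat 170478, .ofNat 254628, .negSucc 77934, .ofNat 150975,
  .ofNat 342892, .ofNat 115182, .ofNat 114060, .negSucc 224895, .negSucc 83357, .ofNat 51722, .ofNat 68607,
  .negSucc 197801, .ofNat 0, .ofNat 445555, .ofNat 216513, .negSucc 109823, .negSucc 148191, .negSucc 43415,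
  .ofNat 220032, .negSucc 119239, .ofNat 155925, .negSucc 71169, .ofNat 129305, .ofNat 0, .negSucc 137983,
  .ofNat 216513, .negSucc 103927, .negSucc 330879, .negSucc 244991, .ofNat 0, .ofNat 0, .ofNat 471680,
  .ofNat 3564, .ofNat 0, .ofNat 114048, .ofNat 49830, .negSucc 119393, .negSucc 110847, .ofNat 126522,
  .ofNat 381150, .negSucc 304721, .negSucc 23219, .negSucc 549, .ofNat 40260, .ofNat 23760, .ofNat 300564,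
  .negSucc 521399, .negSucc 129535, .negSucc 431639, .ofNat 32076, .ofNat 308880, .ofNat 590490, .ofNat 0,
  .negSucc 225279, .negSucc 256211, .negSucc 188759]

/-- the values at the type 7 -/
def cT7 : List ℤ :=
  [.ofNat 1, .ofNat 13, .negSucc 14, .ofNat 14, .ofNat 14, .ofNat 51, .ofNat 156, .negSucc 90, .ofNat 54,
  .ofNat 169, .negSucc 63, .ofNat 247, .ofNat 156, .negSucc 259, .ofNat 182, .negSucc 103, .ofNat 104,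
  .ofNat 427, .ofNat 182, .negSucc 90, .ofNat 0, .ofNat 441, .negSucc 299, .negSucc 181, .negSucc 104,
  .ofNat 0, .ofNat 0, .ofNat 832, .ofNat 910, .negSucc 350, .ofNat 768, .negSucc 818, .ofNat 350, .ofNat 728,
  .negSucc 1000, .negSucc 181, .ofNat 0, .ofNat 960, .negSucc 701, .ofNat 819, .ofNat 455, .ofNat 819,
  .negSucc 727, .ofNat 0, .negSucc 923, .negSucc 831, .ofNat 0, .ofNat 728, .ofNat 0, .ofNat 0, .ofNat 729,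
  .ofNat 91, .ofNat 0, .ofNat 624, .ofNat 182, .ofNat 0, .negSucc 1727, .ofNat 910, .ofNat 0, .ofNat 182,
  .ofNat 182, .ofNat 729, .ofNat 2560, .ofNat 0, .ofNat 364, .ofNat 896, .ofNat 1392, .ofNat 1458,
  .negSucc 728, .ofNat 728, .ofNat 0, .ofNat 0, .ofNat 0, .negSucc 623, .ofNat 0, .negSucc 831, .ofNat 0,
  .ofNat 819, .ofNat 0, .negSucc 755, .negSucc 153, .ofNat 210, .ofNat 54, .ofNat 756, .negSucc 1091,
  .ofNat 1792, .ofNat 378, .ofNat 0, .ofNat 702, .ofNat 0, .negSucc 1457, .negSucc 1791, .negSucc 1637,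
  .negSucc 335]

/-- the values at the type 8 -/
def cT8 : List ℤ :=
  [.ofNat 1, .negSucc 0, .ofNat 5, .ofNat 2, .negSucc 4, .negSucc 14, .ofNat 15, .ofNat 3, .negSucc 6,
  .ofNat 13, .ofNat 8, .negSucc 10, .ofNat 24, .ofNat 0, .ofNat 0, .ofNat 0, .ofNat 40, .ofNat 71,
  .negSucc 41, .ofNat 65, .negSucc 47, .ofNat 60, .ofNat 0, .negSucc 55, .ofNat 69, .negSucc 34, .negSucc 36,
  .ofNat 0, .ofNat 0, .negSucc 13, .ofNat 0, .negSucc 75, .ofNat 0, .ofNat 0, .negSucc 20, .ofNat 27,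
  .negSucc 62, .ofNat 0, .negSucc 39, .negSucc 88, .ofNat 166, .ofNat 140, .ofNat 64, .ofNat 17, .ofNat 128,
  .ofNat 0, .negSucc 7, .ofNat 48, .negSucc 76, .negSucc 13, .ofNat 99, .ofNat 44, .ofNat 78, .ofNat 0,
  .ofNat 0, .ofNat 0, .ofNat 0, .ofNat 0, .negSucc 142, .negSucc 7, .negSucc 103, .ofNat 90, .ofNat 0,
  .ofNat 93, .ofNat 0, .ofNat 0, .ofNat 0, .negSucc 44, .negSucc 44, .ofNat 0, .ofNat 64, .ofNat 99,
  .ofNat 0, .ofNat 96, .ofNat 32, .ofNat 0, .negSucc 64, .negSucc 41, .negSucc 111, .negSucc 127, .ofNat 42,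
  .negSucc 15, .ofNat 0, .ofNat 32, .ofNat 128, .ofNat 0, .negSucc 79, .negSucc 31, .ofNat 0, .negSucc 101,
  .ofNat 144, .ofNat 0, .ofNat 48, .ofNat 128]

/-- the values at the type 9 -/
def cT9 : List ℤ :=
  [.ofNat 1, .negSucc 0, .ofNat 21, .ofNat 42, .ofNat 27, .ofNat 49, .negSucc 96, .negSucc 76, .ofNat 105,
  .ofNat 85, .ofNat 8, .ofNat 245, .ofNat 168, .ofNat 64, .ofNat 0, .ofNat 0, .ofNat 168, .negSucc 104,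
  .negSucc 209, .ofNat 105, .negSucc 111, .ofNat 28, .negSucc 63, .negSucc 119, .ofNat 525, .ofNat 405,
  .negSucc 412, .ofNat 0, .ofNat 0, .ofNat 106, .ofNat 0, .ofNat 84, .ofNat 0, .ofNat 64, .ofNat 35,
  .ofNat 315, .negSucc 14, .ofNat 0, .ofNat 168, .ofNat 63, .negSucc 209, .negSucc 419, .negSucc 447,
  .negSucc 398, .ofNat 0, .ofNat 512, .negSucc 279, .negSucc 335, .ofNat 315, .negSucc 293, .ofNat 27,
  .negSucc 419, .ofNat 294, .ofNat 0, .ofNat 0, .ofNat 64, .negSucc 511, .ofNat 0, .ofNat 105, .negSucc 279,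
  .ofNat 280, .ofNat 594, .ofNat 0, .ofNat 573, .ofNat 0, .negSucc 511, .ofNat 0, .negSucc 188, .negSucc 188,
  .ofNat 0, .ofNat 448, .negSucc 404, .ofNat 512, .negSucc 159, .negSucc 159, .ofNat 0, .ofNat 7, .ofNat 350,
  .ofNat 336, .ofNat 0, .negSucc 69, .negSucc 239, .ofNat 0, .ofNat 672, .ofNat 0, .ofNat 0, .negSucc 559,
  .negSucc 671, .ofNat 0, .negSucc 629, .ofNat 432, .ofNat 0, .negSucc 111, .ofNat 0]

/-- the values at the type 10 -/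
def cT10 : List ℤ :=
  [.ofNat 1, .ofNat 31, .ofNat 69, .ofNat 50, .ofNat 155, .ofNat 209, .ofNat 175, .ofNat 291, .ofNat 185,
  .negSucc 34, .ofNat 840, .ofNat 405, .negSucc 7, .ofNat 896, .ofNat 128, .ofNat 768, .ofNat 552,
  .ofNat 135, .ofNat 230, .ofNat 625, .ofNat 528, .ofNat 1436, .ofNat 896, .ofNat 1480, .ofNat 85, .ofNat 45,
  .ofNat 747, .ofNat 0, .negSucc 639, .ofNat 354, .ofNat 0, .negSucc 43, .ofNat 1280, .negSucc 383,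
  .ofNat 155, .ofNat 1435, .ofNat 1665, .ofNat 0, .negSucc 199, .ofNat 23, .ofNat 310, .ofNat 1100,
  .ofNat 960, .negSucc 590, .negSucc 639, .ofNat 0, .negSucc 167, .negSucc 143, .ofNat 195, .ofNat 354,
  .negSucc 1484, .ofNat 300, .negSucc 1313, .ofNat 0, .ofNat 128, .ofNat 384, .ofNat 0, .negSucc 639,
  .ofNat 705, .negSucc 39, .negSucc 39, .ofNat 1674, .ofNat 0, .negSucc 962, .negSucc 1279, .ofNat 0,
  .ofNat 0, .negSucc 620, .negSucc 620, .ofNat 0, .ofNat 960, .ofNat 243, .ofNat 0, .ofNat 480, .ofNat 672,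
  .ofNat 0, .ofNat 207, .ofNat 230, .ofNat 336, .negSucc 639, .ofNat 10, .ofNat 560, .ofNat 1280, .ofNat 928,
  .ofNat 640, .ofNat 0, .ofNat 240, .ofNat 1632, .ofNat 1280, .negSucc 1349, .negSucc 431, .ofNat 0,
  .ofNat 368, .negSucc 1919]

/-- the values at the type 11 -/
def cT11 : List ℤ :=
  [.ofNat 1, .ofNat 21, .ofNat 27, .ofNat 8, .ofNat 36, .ofNat 83, .ofNat 56, .ofNat 133, .ofNat 120,
  .ofNat 0, .ofNat 168, .ofNat 48, .ofNat 6, .ofNat 105, .negSucc 13, .ofNat 162, .ofNat 34, .ofNat 0,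
  .negSucc 27, .ofNat 0, .ofNat 154, .ofNat 217, .ofNat 189, .ofNat 120, .ofNat 0, .ofNat 0, .negSucc 125,
  .negSucc 119, .ofNat 28, .negSucc 104, .ofNat 272, .ofNat 105, .ofNat 0, .ofNat 69, .ofNat 0, .ofNat 0,
  .negSucc 119, .ofNat 120, .negSucc 131, .ofNat 70, .ofNat 0, .ofNat 0, .negSucc 195, .negSucc 20, .ofNat 0,
  .ofNat 8, .ofNat 42, .ofNat 105, .negSucc 83, .negSucc 104, .ofNat 216, .ofNat 0, .ofNat 57, .negSucc 187,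
  .negSucc 41, .negSucc 0, .ofNat 168, .ofNat 0, .ofNat 0, .ofNat 0, .ofNat 0, .negSucc 188, .ofNat 176,
  .negSucc 5, .negSucc 83, .negSucc 215, .negSucc 203, .ofNat 27, .ofNat 27, .ofNat 0, .negSucc 27,
  .ofNat 162, .negSucc 55, .ofNat 0, .negSucc 133, .negSucc 47, .negSucc 69, .ofNat 0, .ofNat 273, .ofNat 0,
  .ofNat 0, .ofNat 0, .ofNat 0, .negSucc 41, .ofNat 0, .negSucc 95, .ofNat 0, .ofNat 42, .ofNat 0, .ofNat 0,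
  .ofNat 54, .ofNat 0, .ofNat 70, .ofNat 0]

/-- the values at the type 12 -/
def cT12 : List ℤ :=
  [.ofNat 1, .ofNat 0, .negSucc 3, .ofNat 5, .ofNat 7, .ofNat 2, .ofNat 20, .negSucc 21, .ofNat 3, .ofNat 13,
  .negSucc 5, .ofNat 16, .ofNat 8, .negSucc 31, .negSucc 15, .ofNat 26, .negSucc 31, .negSucc 54, .ofNat 6,
  .ofNat 32, .negSucc 20, .ofNat 9, .ofNat 26, .ofNat 1, .ofNat 23, .negSucc 23, .negSucc 14, .ofNat 0,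
  .ofNat 10, .ofNat 12, .negSucc 7, .ofNat 3, .negSucc 11, .ofNat 20, .ofNat 0, .ofNat 14, .ofNat 0,
  .negSucc 3, .ofNat 15, .ofNat 27, .ofNat 40, .ofNat 33, .negSucc 47, .negSucc 53, .negSucc 33, .negSucc 23,
  .ofNat 24, .ofNat 32, .ofNat 39, .negSucc 8, .ofNat 0, .ofNat 54, .ofNat 0, .negSucc 39, .ofNat 2,
  .negSucc 41, .negSucc 23, .ofNat 28, .ofNat 42, .negSucc 0, .negSucc 28, .ofNat 0, .ofNat 8, .ofNat 0,
  .negSucc 17, .negSucc 23, .ofNat 40, .ofNat 0, .ofNat 0, .ofNat 0, .negSucc 47, .ofNat 0, .negSucc 23,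
  .ofNat 28, .ofNat 6, .ofNat 48, .ofNat 51, .negSucc 17, .negSucc 53, .ofNat 66, .ofNat 16, .ofNat 10,
  .ofNat 48, .negSucc 29, .ofNat 82, .negSucc 15, .negSucc 41, .negSucc 107, .negSucc 23, .ofNat 0, .ofNat 0,
  .ofNat 0, .ofNat 48, .negSucc 55]

/-- the values at the type 13 -/
def cT13 : List ℤ :=
  [.ofNat 1, .ofNat 0, .ofNat 4, .ofNat 13, .negSucc 4, .negSucc 5, .ofNat 8, .negSucc 9, .ofNat 3,
  .ofNat 21, .ofNat 6, .negSucc 7, .ofNat 20, .negSucc 3, .ofNat 12, .ofNat 10, .ofNat 8, .ofNat 5,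
  .negSucc 17, .ofNat 4, .negSucc 8, .negSucc 14, .ofNat 18, .ofNat 9, .negSucc 4, .ofNat 36, .ofNat 21,
  .ofNat 24, .negSucc 1, .ofNat 12, .ofNat 0, .negSucc 20, .negSucc 3, .ofNat 4, .ofNat 0, .negSucc 17,
  .ofNat 0, .ofNat 12, .ofNat 3, .negSucc 20, .negSucc 11, .ofNat 45, .negSucc 3, .ofNat 18, .ofNat 22,
  .ofNat 0, .negSucc 23, .negSucc 7, .ofNat 27, .negSucc 44, .ofNat 0, .negSucc 1, .ofNat 0, .ofNat 8,
  .negSucc 5, .ofNat 18, .ofNat 0, .negSucc 19, .ofNat 18, .ofNat 15, .ofNat 27, .ofNat 0, .ofNat 0,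
  .ofNat 0, .ofNat 6, .ofNat 0, .ofNat 8, .ofNat 0, .ofNat 0, .negSucc 31, .negSucc 35, .ofNat 0, .ofNat 0,
  .ofNat 4, .negSucc 17, .ofNat 0, .negSucc 8, .ofNat 6, .ofNat 18, .negSucc 17, .negSucc 23, .negSucc 5,
  .ofNat 48, .negSucc 53, .ofNat 10, .ofNat 0, .ofNat 30, .negSucc 35, .ofNat 24, .ofNat 0, .ofNat 0,
  .ofNat 0, .ofNat 24, .ofNat 8]

/-- the values at the type 14 -/
def cT14 : List ℤ :=
  [.ofNat 1, .ofNat 12, .ofNat 16, .ofNat 1, .ofNat 19, .ofNat 30, .ofNat 20, .ofNat 38, .ofNat 27,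
  .negSucc 2, .ofNat 66, .ofNat 4, .ofNat 8, .ofNat 32, .ofNat 0, .ofNat 46, .negSucc 27, .negSucc 18,
  .negSucc 5, .ofNat 28, .negSucc 8, .ofNat 33, .ofNat 30, .ofNat 33, .negSucc 16, .negSucc 35, .negSucc 2,
  .ofNat 48, .negSucc 1, .negSucc 23, .ofNat 0, .negSucc 20, .negSucc 3, .negSucc 19, .ofNat 0, .negSucc 29,
  .ofNat 0, .negSucc 11, .ofNat 15, .negSucc 8, .negSucc 59, .negSucc 2, .ofNat 20, .negSucc 53, .ofNat 22,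
  .ofNat 0, .negSucc 11, .negSucc 7, .negSucc 44, .ofNat 27, .ofNat 0, .negSucc 25, .ofNat 0, .ofNat 32,
  .negSucc 17, .ofNat 18, .ofNat 0, .negSucc 19, .negSucc 53, .ofNat 51, .ofNat 39, .ofNat 0, .ofNat 0,
  .ofNat 0, .ofNat 18, .ofNat 0, .ofNat 32, .ofNat 0, .ofNat 0, .ofNat 16, .ofNat 36, .ofNat 0, .ofNat 0,
  .negSucc 43, .ofNat 54, .ofNat 0, .negSucc 8, .ofNat 18, .negSucc 53, .ofNat 42, .ofNat 0, .ofNat 42,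
  .ofNat 0, .negSucc 77, .negSucc 61, .ofNat 0, .negSucc 41, .negSucc 107, .negSucc 23, .ofNat 0, .ofNat 0,
  .ofNat 0, .ofNat 0, .ofNat 32]

/-- the values at the type 15 -/
def cT15 : List ℤ :=
  [.ofNat 1, .negSucc 2, .ofNat 10, .ofNat 7, .negSucc 1, .ofNat 3, .negSucc 12, .negSucc 21, .ofNat 33,
  .negSucc 17, .ofNat 0, .ofNat 34, .ofNat 23, .negSucc 3, .ofNat 24, .negSucc 7, .negSucc 9, .ofNat 11,
  .negSucc 2, .ofNat 43, .ofNat 0, .ofNat 9, .negSucc 11, .negSucc 5, .ofNat 16, .negSucc 17, .negSucc 17,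
  .ofNat 0, .ofNat 16, .ofNat 12, .ofNat 0, .negSucc 2, .negSucc 39, .negSucc 43, .negSucc 35, .ofNat 12,
  .ofNat 27, .ofNat 0, .ofNat 27, .ofNat 3, .negSucc 17, .ofNat 57, .ofNat 26, .negSucc 44, .ofNat 4,
  .ofNat 0, .negSucc 26, .ofNat 64, .ofNat 54, .ofNat 45, .ofNat 0, .negSucc 40, .ofNat 27, .negSucc 15,
  .negSucc 47, .ofNat 36, .ofNat 0, .negSucc 55, .ofNat 27, .negSucc 2, .negSucc 11, .ofNat 0, .ofNat 0,
  .ofNat 0, .ofNat 48, .ofNat 0, .negSucc 15, .ofNat 0, .ofNat 0, .ofNat 64, .negSucc 53, .ofNat 0, .ofNat 0,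
  .negSucc 19, .ofNat 0, .ofNat 0, .negSucc 8, .negSucc 77, .ofNat 36, .ofNat 12, .ofNat 24, .negSucc 35,
  .negSucc 47, .ofNat 24, .negSucc 7, .ofNat 0, .ofNat 12, .ofNat 36, .ofNat 0, .ofNat 0, .ofNat 0, .ofNat 0,
  .negSucc 23, .ofNat 20]

/-- the values at the type 16 -/
def cT16 : List ℤ :=
  [.ofNat 1, .negSucc 8, .ofNat 22, .ofNat 49, .negSucc 22, .ofNat 21, .negSucc 27, .negSucc 45, .ofNat 120,
  .ofNat 147, .negSucc 11, .negSucc 43, .ofNat 110, .negSucc 3, .ofNat 156, .negSucc 151, .ofNat 8,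
  .negSucc 30, .negSucc 296, .ofNat 256, .negSucc 35, .ofNat 138, .negSucc 179, .ofNat 72, .ofNat 463,
  .ofNat 144, .ofNat 228, .ofNat 384, .negSucc 379, .negSucc 230, .ofNat 0, .ofNat 330, .negSucc 111,
  .negSucc 139, .ofNat 189, .negSucc 62, .ofNat 0, .ofNat 192, .negSucc 113, .ofNat 132, .ofNat 105,
  .ofNat 0, .negSucc 183, .negSucc 89, .negSucc 463, .ofNat 0, .ofNat 102, .negSucc 493, .ofNat 216,
  .ofNat 63, .ofNat 81, .ofNat 232, .ofNat 405, .negSucc 63, .ofNat 300, .negSucc 35, .ofNat 0, .negSucc 235,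
  .negSucc 224, .ofNat 150, .negSucc 251, .ofNat 81, .ofNat 0, .negSucc 404, .ofNat 24, .ofNat 0,
  .negSucc 63, .negSucc 80, .ofNat 162, .ofNat 256, .ofNat 72, .ofNat 0, .ofNat 0, .ofNat 148, .negSucc 179,
  .ofNat 0, .ofNat 153, .negSucc 2, .negSucc 89, .negSucc 143, .negSucc 41, .ofNat 66, .negSucc 239,
  .negSucc 467, .negSucc 367, .ofNat 0, .ofNat 138, .ofNat 180, .negSucc 47, .ofNat 0, .negSucc 161,
  .ofNat 0, .ofNat 42, .ofNat 368]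

/-- the values at the type 17 -/
def cT17 : List ℤ :=
  [.ofNat 1, .ofNat 27, .ofNat 23, .ofNat 5, .negSucc 19, .ofNat 56, .ofNat 101, .ofNat 275, .ofNat 246,
  .ofNat 40, .negSucc 32, .negSucc 37, .ofNat 170, .negSucc 31, .negSucc 15, .ofNat 296, .negSucc 166,
  .negSucc 108, .ofNat 6, .ofNat 194, .negSucc 47, .negSucc 98, .ofNat 80, .negSucc 430, .ofNat 158,
  .negSucc 23, .negSucc 122, .ofNat 0, .ofNat 280, .ofNat 147, .ofNat 640, .ofNat 327, .negSucc 335,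
  .ofNat 344, .negSucc 512, .negSucc 363, .ofNat 567, .ofNat 752, .ofNat 582, .ofNat 324, .negSucc 526,
  .negSucc 128, .ofNat 60, .negSucc 377, .ofNat 1100, .ofNat 192, .ofNat 618, .negSucc 237, .ofNat 39,
  .negSucc 89, .ofNat 0, .negSucc 188, .negSucc 566, .negSucc 255, .negSucc 159, .negSucc 743, .ofNat 192,
  .ofNat 136, .ofNat 285, .ofNat 134, .negSucc 406, .ofNat 0, .negSucc 639, .negSucc 566, .negSucc 71,
  .ofNat 192, .ofNat 256, .ofNat 0, .ofNat 0, .ofNat 0, .ofNat 60, .ofNat 0, .ofNat 192, .ofNat 190,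
  .negSucc 425, .negSucc 383, .ofNat 402, .ofNat 198, .negSucc 377, .negSucc 419, .negSucc 37, .negSucc 43,
  .ofNat 48, .ofNat 132, .ofNat 136, .ofNat 1280, .negSucc 311, .ofNat 540, .ofNat 624, .negSucc 485,
  .ofNat 0, .ofNat 0, .ofNat 156, .ofNat 808]

/-- the values at the type 18 -/
def cT18 : List ℤ :=
  [.ofNat 1, .ofNat 9, .ofNat 14, .ofNat 23, .ofNat 34, .ofNat 47, .ofNat 11, .negSucc 21, .ofNat 21,
  .ofNat 58, .ofNat 84, .ofNat 106, .negSucc 36, .ofNat 40, .negSucc 15, .ofNat 8, .ofNat 130, .ofNat 35,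
  .ofNat 69, .negSucc 12, .negSucc 47, .ofNat 81, .ofNat 80, .ofNat 10, .ofNat 104, .negSucc 5, .ofNat 102,
  .ofNat 0, .negSucc 7, .negSucc 59, .ofNat 64, .negSucc 86, .ofNat 24, .ofNat 200, .ofNat 72, .ofNat 176,
  .negSucc 80, .negSucc 111, .ofNat 159, .negSucc 116, .negSucc 85, .negSucc 38, .negSucc 29, .ofNat 135,
  .ofNat 20, .negSucc 95, .negSucc 38, .ofNat 32, .ofNat 138, .ofNat 45, .ofNat 0, .ofNat 27, .negSucc 80,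
  .ofNat 32, .ofNat 56, .negSucc 95, .negSucc 95, .ofNat 64, .negSucc 56, .ofNat 161, .negSucc 19, .ofNat 0,
  .negSucc 63, .ofNat 0, .ofNat 72, .negSucc 95, .negSucc 31, .ofNat 0, .ofNat 0, .ofNat 0, .negSucc 29,
  .ofNat 0, .negSucc 95, .negSucc 79, .negSucc 155, .ofNat 192, .negSucc 92, .negSucc 53, .negSucc 107,
  .ofNat 84, .ofNat 16, .negSucc 43, .negSucc 95, .ofNat 168, .negSucc 151, .ofNat 128, .ofNat 156,
  .ofNat 108, .ofNat 48, .ofNat 0, .ofNat 0, .ofNat 0, .ofNat 48, .ofNat 124]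

/-- the values at the type 19 -/
def cT19 : List ℤ :=
  [.ofNat 1, .ofNat 3, .ofNat 7, .ofNat 37, .ofNat 28, .negSucc 23, .negSucc 42, .ofNat 83, .negSucc 17,
  .ofNat 96, .negSucc 32, .ofNat 130, .ofNat 98, .ofNat 32, .ofNat 144, .negSucc 7, .negSucc 54, .ofNat 107,
  .ofNat 174, .ofNat 10, .negSucc 143, .negSucc 2, .ofNat 48, .ofNat 177, .ofNat 46, .ofNat 288,
  .negSucc 146, .ofNat 192, .negSucc 55, .ofNat 219, .ofNat 0, .ofNat 87, .negSucc 111, .negSucc 55,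
  .ofNat 135, .negSucc 371, .negSucc 80, .negSucc 47, .ofNat 222, .ofNat 36, .ofNat 273, .negSucc 128,
  .negSucc 51, .negSucc 161, .ofNat 76, .ofNat 0, .ofNat 114, .ofNat 154, .negSucc 368, .ofNat 54, .ofNat 0,
  .ofNat 19, .ofNat 81, .negSucc 255, .ofNat 288, .ofNat 72, .ofNat 0, .ofNat 88, .negSucc 26, .ofNat 78,
  .ofNat 57, .ofNat 0, .ofNat 0, .ofNat 81, .ofNat 360, .ofNat 0, .negSucc 255, .ofNat 0, .ofNat 0,
  .negSucc 127, .negSucc 179, .ofNat 0, .ofNat 0, .negSucc 169, .ofNat 270, .ofNat 0, .ofNat 234,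
  .negSucc 17, .negSucc 161, .negSucc 83, .ofNat 90, .negSucc 155, .ofNat 144, .ofNat 372, .negSucc 439,
  .ofNat 0, .ofNat 552, .ofNat 108, .ofNat 336, .negSucc 485, .ofNat 0, .ofNat 0, .ofNat 396, .negSucc 471]

/-- the values at the type 20 -/
def cT20 : List ℤ :=
  [.ofNat 1, .negSucc 14, .ofNat 70, .ofNat 55, .ofNat 154, .negSucc 104, .ofNat 155, .negSucc 69,
  .ofNat 189, .negSucc 29, .negSucc 419, .ofNat 490, .ofNat 35, .ofNat 896, .ofNat 0, .negSucc 439,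
  .negSucc 405, .ofNat 35, .ofNat 21, .ofNat 595, .ofNat 720, .negSucc 398, .ofNat 840, .negSucc 965,
  .ofNat 280, .ofNat 450, .ofNat 294, .negSucc 383, .negSucc 55, .ofNat 84, .ofNat 0, .negSucc 398,
  .ofNat 1400, .negSucc 559, .ofNat 0, .negSucc 839, .negSucc 728, .negSucc 335, .ofNat 231, .ofNat 315,
  .ofNat 210, .ofNat 105, .negSucc 573, .negSucc 944, .negSucc 139, .ofNat 0, .ofNat 609, .negSucc 223,
  .negSucc 125, .ofNat 189, .ofNat 0, .ofNat 595, .negSucc 728, .ofNat 896, .negSucc 503, .ofNat 504,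
  .ofNat 0, .negSucc 559, .negSucc 944, .ofNat 105, .negSucc 419, .ofNat 0, .ofNat 0, .ofNat 0, .ofNat 504,
  .ofNat 0, .ofNat 896, .ofNat 0, .ofNat 0, .negSucc 1279, .negSucc 125, .ofNat 0, .ofNat 0, .ofNat 280,
  .negSucc 755, .ofNat 0, .ofNat 315, .negSucc 629, .ofNat 756, .ofNat 420, .ofNat 0, .ofNat 420, .ofNat 0,
  .ofNat 840, .negSucc 439, .ofNat 0, .negSucc 419, .ofNat 540, .negSucc 239, .ofNat 0, .ofNat 0, .ofNat 0,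
  .ofNat 0, .ofNat 140]

/-- the values at the type 21 -/
def cT21 : List ℤ :=
  [.ofNat 1, .negSucc 8, .ofNat 86, .ofNat 41, .ofNat 169, .negSucc 42, .ofNat 164, .negSucc 237, .ofNat 120,
  .negSucc 4, .negSucc 203, .ofNat 412, .ofNat 566, .ofNat 1084, .ofNat 308, .negSucc 279, .ofNat 184,
  .ofNat 665, .negSucc 272, .ofNat 1400, .ofNat 924, .negSucc 629, .negSucc 243, .negSucc 439, .ofNat 455,
  .negSucc 959, .ofNat 84, .ofNat 0, .ofNat 28, .ofNat 2001, .negSucc 511, .ofNat 714, .ofNat 1680,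
  .ofNat 1028, .negSucc 314, .negSucc 174, .ofNat 0, .ofNat 320, .negSucc 425, .ofNat 252, .negSucc 454,
  .negSucc 839, .ofNat 1176, .ofNat 1134, .ofNat 560, .negSucc 383, .negSucc 209, .ofNat 1274, .negSucc 167,
  .ofNat 1071, .ofNat 729, .ofNat 0, .ofNat 405, .ofNat 320, .negSucc 699, .negSucc 1715, .negSucc 383,
  .negSucc 979, .ofNat 735, .ofNat 350, .negSucc 1819, .ofNat 729, .ofNat 512, .negSucc 404, .ofNat 1512,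
  .negSucc 383, .negSucc 319, .negSucc 728, .ofNat 1458, .ofNat 0, .ofNat 1176, .ofNat 0, .negSucc 383,
  .negSucc 2779, .negSucc 371, .ofNat 768, .ofNat 1113, .ofNat 2205, .ofNat 1134, .negSucc 1679, .ofNat 70,
  .ofNat 1090, .negSucc 239, .negSucc 1091, .ofNat 2800, .negSucc 1023, .ofNat 2730, .negSucc 2267,
  .negSucc 3119, .ofNat 0, .negSucc 1457, .ofNat 0, .ofNat 1722, .negSucc 559]

/-- the values at the type 22 -/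
def cT22 : List ℤ :=
  [.ofNat 1, .negSucc 2, .ofNat 1, .negSucc 1, .negSucc 1, .ofNat 3, .negSucc 3, .ofNat 5, .ofNat 6,
  .ofNat 9, .ofNat 0, .ofNat 7, .negSucc 3, .negSucc 3, .ofNat 6, .negSucc 7, .ofNat 8, .ofNat 11, .ofNat 6,
  .negSucc 10, .ofNat 0, .ofNat 9, .negSucc 11, .negSucc 5, .ofNat 7, .ofNat 0, .ofNat 0, .ofNat 0,
  .negSucc 1, .negSucc 14, .ofNat 0, .negSucc 2, .ofNat 14, .negSucc 7, .negSucc 8, .negSucc 5, .ofNat 0,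
  .ofNat 0, .ofNat 18, .ofNat 3, .negSucc 8, .ofNat 3, .ofNat 8, .ofNat 0, .ofNat 4, .ofNat 0, .ofNat 0,
  .negSucc 7, .ofNat 0, .ofNat 0, .ofNat 9, .negSucc 4, .ofNat 0, .negSucc 15, .ofNat 6, .ofNat 0, .ofNat 0,
  .negSucc 1, .ofNat 0, .ofNat 6, .ofNat 6, .ofNat 9, .ofNat 0, .ofNat 0, .ofNat 12, .ofNat 0, .negSucc 15,
  .ofNat 18, .negSucc 8, .negSucc 7, .ofNat 0, .ofNat 0, .ofNat 0, .ofNat 16, .ofNat 0, .ofNat 0, .ofNat 0,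
  .ofNat 3, .ofNat 0, .ofNat 12, .ofNat 6, .ofNat 18, .ofNat 6, .negSucc 11, .ofNat 28, .ofNat 0, .negSucc 5,
  .ofNat 0, .negSucc 17, .ofNat 0, .negSucc 17, .ofNat 0, .negSucc 5, .negSucc 15]

/-- the values at the type 23 -/
def cT23 : List ℤ :=
  [.ofNat 1, .ofNat 5, .ofNat 14, .ofNat 6, .ofNat 21, .ofNat 14, .ofNat 5, .ofNat 0, .negSucc 13,
  .negSucc 4, .ofNat 35, .ofNat 14, .ofNat 14, .ofNat 35, .ofNat 0, .ofNat 16, .ofNat 14, .ofNat 0, .ofNat 0,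
  .ofNat 0, .ofNat 0, .ofNat 0, .negSucc 34, .ofNat 21, .ofNat 0, .ofNat 15, .ofNat 0, .negSucc 15, .ofNat 0,
  .ofNat 35, .negSucc 25, .ofNat 0, .ofNat 0, .negSucc 20, .ofNat 0, .ofNat 0, .ofNat 9, .negSucc 13,
  .negSucc 13, .ofNat 0, .ofNat 0, .ofNat 0, .ofNat 0, .ofNat 0, .ofNat 0, .ofNat 1, .ofNat 0, .ofNat 0,
  .ofNat 0, .ofNat 0, .ofNat 19, .ofNat 0, .ofNat 6, .negSucc 13, .ofNat 0, .negSucc 20, .negSucc 34,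
  .ofNat 0, .ofNat 0, .ofNat 0, .ofNat 0, .negSucc 34, .negSucc 13, .ofNat 21, .ofNat 0, .ofNat 21,
  .ofNat 14, .ofNat 14, .ofNat 14, .ofNat 0, .ofNat 0, .negSucc 8, .negSucc 14, .ofNat 35, .negSucc 20,
  .negSucc 13, .ofNat 0, .ofNat 0, .ofNat 0, .ofNat 0, .ofNat 0, .ofNat 30, .negSucc 19, .ofNat 0, .ofNat 0,
  .ofNat 12, .ofNat 0, .ofNat 0, .ofNat 20, .ofNat 0, .negSucc 1, .ofNat 0, .ofNat 0, .ofNat 0]

/-- the values at the type 24 -/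
def cT24 : List ℤ :=
  [.ofNat 1, .negSucc 1, .ofNat 0, .negSucc 0, .ofNat 0, .ofNat 0, .ofNat 5, .ofNat 0, .ofNat 0, .ofNat 9,
  .ofNat 0, .ofNat 0, .ofNat 0, .ofNat 0, .ofNat 0, .ofNat 2, .ofNat 0, .ofNat 0, .ofNat 0, .ofNat 0,
  .ofNat 7, .ofNat 0, .ofNat 0, .ofNat 0, .ofNat 0, .negSucc 5, .ofNat 0, .negSucc 1, .ofNat 0, .ofNat 0,
  .negSucc 11, .ofNat 0, .ofNat 0, .ofNat 0, .ofNat 0, .ofNat 0, .ofNat 2, .ofNat 0, .ofNat 0, .ofNat 0,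
  .ofNat 0, .ofNat 0, .ofNat 0, .ofNat 0, .ofNat 0, .ofNat 8, .ofNat 0, .ofNat 0, .ofNat 0, .ofNat 0,
  .ofNat 12, .ofNat 0, .negSucc 0, .ofNat 0, .ofNat 0, .ofNat 0, .ofNat 0, .ofNat 0, .ofNat 0, .ofNat 0,
  .ofNat 0, .ofNat 0, .ofNat 0, .ofNat 0, .ofNat 0, .ofNat 0, .ofNat 0, .ofNat 0, .ofNat 0, .ofNat 7,
  .ofNat 0, .negSucc 8, .negSucc 7, .ofNat 0, .ofNat 0, .ofNat 0, .ofNat 0, .ofNat 0, .ofNat 0, .ofNat 0,
  .ofNat 0, .negSucc 11, .ofNat 36, .ofNat 0, .negSucc 13, .ofNat 12, .ofNat 0, .ofNat 14, .negSucc 21,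
  .ofNat 0, .ofNat 12, .ofNat 0, .ofNat 0, .ofNat 0]

/-- the values at the type 25 -/
def cT25 : List ℤ :=
  [.ofNat 1, .ofNat 7, .ofNat 5, .negSucc 1, .ofNat 3, .ofNat 9, .ofNat 7, .ofNat 11, .ofNat 9, .ofNat 1,
  .ofNat 8, .negSucc 2, .ofNat 0, .ofNat 0, .ofNat 0, .ofNat 0, .negSucc 7, .ofNat 7, .negSucc 5, .negSucc 2,
  .ofNat 0, .ofNat 4, .ofNat 0, .negSucc 7, .negSucc 6, .ofNat 1, .negSucc 0, .ofNat 0, .ofNat 0, .negSucc 1,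
  .ofNat 0, .negSucc 3, .ofNat 0, .ofNat 0, .ofNat 7, .negSucc 4, .ofNat 1, .ofNat 0, .ofNat 0, .ofNat 3,
  .ofNat 10, .negSucc 3, .ofNat 0, .ofNat 9, .ofNat 0, .ofNat 0, .ofNat 0, .ofNat 0, .ofNat 7, .negSucc 1,
  .negSucc 8, .negSucc 3, .ofNat 2, .ofNat 0, .ofNat 0, .ofNat 0, .ofNat 0, .ofNat 0, .ofNat 5, .ofNat 0,
  .negSucc 7, .ofNat 6, .ofNat 0, .ofNat 5, .ofNat 0, .ofNat 0, .ofNat 0, .ofNat 3, .ofNat 3, .ofNat 0,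
  .ofNat 0, .negSucc 8, .ofNat 0, .ofNat 0, .ofNat 0, .ofNat 0, .ofNat 3, .negSucc 5, .ofNat 0, .ofNat 0,
  .ofNat 2, .ofNat 0, .ofNat 0, .ofNat 0, .ofNat 0, .ofNat 0, .ofNat 0, .ofNat 0, .ofNat 0, .ofNat 2,
  .ofNat 0, .ofNat 0, .ofNat 0, .ofNat 0]

/-- the values at the type 26 -/
def cT26 : List ℤ :=
  [.ofNat 1, .negSucc 0, .ofNat 5, .ofNat 6, .ofNat 3, .ofNat 1, .negSucc 8, .negSucc 4, .ofNat 9, .ofNat 1,
  .ofNat 0, .ofNat 13, .ofNat 0, .ofNat 0, .ofNat 0, .ofNat 0, .ofNat 0, .negSucc 0, .negSucc 5, .ofNat 5,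
  .ofNat 0, .negSucc 3, .ofNat 0, .ofNat 0, .ofNat 1, .ofNat 9, .negSucc 8, .ofNat 0, .ofNat 0, .negSucc 9,
  .ofNat 0, .negSucc 3, .ofNat 0, .ofNat 0, .negSucc 0, .ofNat 3, .ofNat 9, .ofNat 0, .ofNat 0, .negSucc 4,
  .ofNat 10, .ofNat 4, .ofNat 0, .ofNat 9, .ofNat 0, .ofNat 0, .ofNat 0, .ofNat 0, .negSucc 8, .ofNat 6,
  .negSucc 0, .negSucc 3, .negSucc 5, .ofNat 0, .ofNat 0, .ofNat 0, .ofNat 0, .ofNat 0, .negSucc 2, .ofNat 0,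
  .ofNat 0, .negSucc 9, .ofNat 0, .negSucc 2, .ofNat 0, .ofNat 0, .ofNat 0, .negSucc 4, .negSucc 4, .ofNat 0,
  .ofNat 0, .negSucc 8, .ofNat 0, .ofNat 0, .ofNat 0, .ofNat 0, .ofNat 3, .ofNat 10, .ofNat 0, .ofNat 0,
  .ofNat 2, .negSucc 15, .ofNat 0, .ofNat 0, .ofNat 0, .ofNat 0, .negSucc 15, .ofNat 0, .ofNat 0, .ofNat 18,
  .negSucc 15, .ofNat 0, .ofNat 16, .ofNat 0]

/-- the values at the type 27 -/
def cT27 : List ℤ :=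
  [.ofNat 1, .negSucc 0, .negSucc 2, .ofNat 2, .ofNat 3, .ofNat 1, .negSucc 0, .ofNat 3, .ofNat 1,
  .negSucc 2, .ofNat 0, .negSucc 2, .ofNat 8, .ofNat 0, .ofNat 0, .ofNat 0, .ofNat 0, .ofNat 7, .negSucc 1,
  .ofNat 1, .ofNat 0, .negSucc 3, .ofNat 0, .ofNat 0, .negSucc 2, .negSucc 2, .ofNat 3, .ofNat 0, .ofNat 0,
  .negSucc 5, .ofNat 0, .negSucc 3, .ofNat 0, .ofNat 0, .ofNat 3, .ofNat 3, .ofNat 1, .ofNat 0, .ofNat 8,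
  .negSucc 0, .ofNat 6, .negSucc 3, .ofNat 0, .negSucc 6, .ofNat 0, .ofNat 0, .negSucc 7, .ofNat 0, .ofNat 3,
  .ofNat 2, .ofNat 3, .ofNat 4, .negSucc 1, .ofNat 0, .ofNat 0, .ofNat 0, .ofNat 0, .ofNat 0, .ofNat 1,
  .negSucc 7, .ofNat 0, .negSucc 5, .ofNat 0, .negSucc 2, .ofNat 0, .ofNat 0, .ofNat 0, .ofNat 3, .ofNat 3,
  .ofNat 0, .ofNat 0, .ofNat 3, .ofNat 0, .ofNat 0, .ofNat 0, .ofNat 0, .negSucc 0, .ofNat 6, .ofNat 0,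
  .ofNat 0, .negSucc 5, .ofNat 0, .ofNat 0, .ofNat 0, .ofNat 0, .ofNat 0, .ofNat 0, .ofNat 0, .ofNat 0,
  .negSucc 5, .ofNat 0, .ofNat 0, .ofNat 0, .ofNat 0]

/-- the values at the type 28 -/
def cT28 : List ℤ :=
  [.ofNat 1, .negSucc 4, .ofNat 3, .ofNat 5, .negSucc 3, .ofNat 6, .ofNat 12, .ofNat 8, .ofNat 0, .negSucc 1,
  .negSucc 0, .ofNat 13, .ofNat 3, .negSucc 16, .ofNat 20, .negSucc 22, .negSucc 3, .ofNat 4, .ofNat 2,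
  .negSucc 0, .ofNat 0, .negSucc 17, .ofNat 15, .ofNat 34, .negSucc 5, .ofNat 0, .ofNat 18, .ofNat 13,
  .ofNat 10, .ofNat 18, .negSucc 5, .ofNat 27, .negSucc 9, .ofNat 8, .negSucc 19, .ofNat 7, .ofNat 0,
  .negSucc 20, .ofNat 0, .ofNat 0, .ofNat 14, .negSucc 26, .ofNat 1, .ofNat 0, .ofNat 3, .negSucc 3,
  .negSucc 17, .ofNat 8, .ofNat 0, .ofNat 0, .ofNat 0, .negSucc 16, .ofNat 0, .ofNat 21, .ofNat 2, .ofNat 0,
  .ofNat 18, .negSucc 7, .ofNat 0, .ofNat 20, .negSucc 15, .ofNat 0, .ofNat 22, .ofNat 0, .ofNat 4,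
  .negSucc 21, .negSucc 2, .ofNat 0, .ofNat 0, .negSucc 9, .ofNat 0, .ofNat 0, .ofNat 0, .ofNat 33, .ofNat 0,
  .negSucc 3, .ofNat 0, .ofNat 0, .ofNat 0, .ofNat 0, .ofNat 8, .ofNat 12, .ofNat 0, .ofNat 0, .ofNat 6,
  .ofNat 28, .negSucc 35, .ofNat 0, .ofNat 0, .ofNat 0, .ofNat 0, .negSucc 27, .ofNat 0, .ofNat 6]

/-- the values at the type 29 -/
def cT29 : List ℤ :=
  [.ofNat 1, .ofNat 4, .ofNat 3, .ofNat 2, .ofNat 5, .ofNat 6, .ofNat 3, .negSucc 0, .ofNat 0, .negSucc 1,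
  .ofNat 8, .negSucc 1, .negSucc 5, .ofNat 1, .ofNat 2, .negSucc 4, .ofNat 5, .negSucc 4, .ofNat 8,
  .negSucc 0, .ofNat 0, .ofNat 0, .ofNat 6, .negSucc 1, .ofNat 3, .ofNat 0, .ofNat 0, .ofNat 4, .ofNat 1,
  .ofNat 0, .negSucc 5, .ofNat 0, .negSucc 3, .negSucc 0, .negSucc 7, .negSucc 1, .ofNat 0, .ofNat 6,
  .ofNat 0, .ofNat 0, .ofNat 2, .ofNat 0, .ofNat 4, .ofNat 0, .negSucc 5, .negSucc 3, .ofNat 0, .negSucc 0,
  .ofNat 0, .ofNat 0, .ofNat 0, .ofNat 4, .ofNat 0, .ofNat 3, .ofNat 2, .ofNat 0, .ofNat 0, .ofNat 1,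
  .ofNat 0, .negSucc 9, .ofNat 2, .ofNat 0, .negSucc 1, .ofNat 0, .ofNat 4, .negSucc 3, .negSucc 2, .ofNat 0,
  .ofNat 0, .negSucc 3, .ofNat 0, .ofNat 0, .ofNat 0, .negSucc 2, .ofNat 0, .negSucc 3, .ofNat 0, .ofNat 0,
  .ofNat 0, .ofNat 0, .negSucc 3, .negSucc 5, .ofNat 0, .ofNat 0, .ofNat 6, .ofNat 4, .ofNat 0, .ofNat 0,
  .ofNat 0, .ofNat 0, .ofNat 0, .ofNat 8, .ofNat 0, .ofNat 6]

/-- the values at the type 30 -/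
def cT30 : List ℤ :=
  [.ofNat 1, .ofNat 4, .negSucc 5, .ofNat 32, .ofNat 5, .negSucc 11, .ofNat 3, .negSucc 0, .ofNat 27,
  .ofNat 70, .ofNat 8, .negSucc 13, .ofNat 66, .negSucc 16, .ofNat 155, .negSucc 22, .negSucc 57,
  .negSucc 121, .ofNat 209, .negSucc 72, .ofNat 0, .ofNat 9, .negSucc 20, .ofNat 7, .negSucc 14, .ofNat 0,
  .negSucc 98, .ofNat 58, .ofNat 190, .negSucc 71, .negSucc 23, .ofNat 117, .ofNat 98, .ofNat 44, .ofNat 196,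
  .ofNat 61, .ofNat 0, .ofNat 24, .negSucc 26, .negSucc 62, .ofNat 122, .negSucc 35, .ofNat 46, .ofNat 0,
  .ofNat 93, .negSucc 39, .ofNat 18, .negSucc 171, .ofNat 0, .ofNat 0, .ofNat 0, .ofNat 82, .ofNat 0,
  .negSucc 41, .negSucc 204, .ofNat 0, .negSucc 71, .negSucc 169, .ofNat 0, .negSucc 24, .ofNat 137,
  .ofNat 0, .ofNat 40, .ofNat 0, .negSucc 58, .ofNat 32, .ofNat 6, .ofNat 0, .ofNat 0, .ofNat 44, .ofNat 0,
  .ofNat 0, .ofNat 0, .negSucc 11, .ofNat 0, .negSucc 39, .ofNat 0, .negSucc 62, .ofNat 0, .ofNat 27,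
  .ofNat 98, .ofNat 30, .negSucc 53, .ofNat 54, .ofNat 78, .ofNat 64, .ofNat 144, .ofNat 0, .negSucc 53,
  .ofNat 0, .ofNat 0, .negSucc 207, .ofNat 126, .ofNat 132]

/-- the values at the type 31 -/
def cT31 : List ℤ :=
  [.ofNat 1, .ofNat 13, .ofNat 12, .ofNat 23, .negSucc 12, .ofNat 24, .ofNat 21, .ofNat 44, .ofNat 54,
  .ofNat 34, .negSucc 36, .negSucc 4, .ofNat 21, .negSucc 16, .negSucc 33, .ofNat 112, .ofNat 104,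
  .negSucc 31, .ofNat 83, .negSucc 9, .ofNat 81, .negSucc 44, .negSucc 56, .negSucc 73, .ofNat 84, .ofNat 81,
  .ofNat 27, .negSucc 31, .ofNat 46, .ofNat 0, .ofNat 120, .ofNat 45, .negSucc 45, .negSucc 54, .negSucc 64,
  .negSucc 46, .ofNat 0, .negSucc 11, .negSucc 53, .negSucc 44, .ofNat 5, .negSucc 44, .ofNat 100, .ofNat 0,
  .negSucc 5, .ofNat 32, .negSucc 107, .negSucc 27, .ofNat 81, .ofNat 0, .ofNat 0, .ofNat 28, .ofNat 0,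
  .ofNat 84, .negSucc 33, .negSucc 80, .ofNat 0, .ofNat 46, .negSucc 80, .negSucc 24, .negSucc 60, .ofNat 0,
  .ofNat 40, .ofNat 0, .negSucc 13, .ofNat 32, .negSucc 11, .ofNat 0, .ofNat 0, .ofNat 8, .ofNat 0, .ofNat 0,
  .ofNat 0, .negSucc 2, .ofNat 81, .ofNat 32, .ofNat 0, .negSucc 44, .ofNat 0, .ofNat 54, .negSucc 9,
  .negSucc 5, .ofNat 54, .negSucc 53, .negSucc 65, .negSucc 79, .ofNat 0, .ofNat 0, .ofNat 54, .ofNat 0,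
  .ofNat 0, .negSucc 63, .ofNat 90, .negSucc 119]

/-- the values at the type 32 -/
def cT32 : List ℤ :=
  [.ofNat 1, .negSucc 4, .ofNat 30, .ofNat 14, .ofNat 50, .negSucc 20, .ofNat 39, .negSucc 18, .ofNat 0,
  .ofNat 25, .negSucc 54, .ofNat 85, .ofNat 30, .ofNat 145, .negSucc 33, .negSucc 49, .negSucc 3,
  .negSucc 49, .negSucc 15, .ofNat 80, .ofNat 81, .negSucc 98, .ofNat 15, .negSucc 19, .negSucc 59, .ofNat 0,
  .ofNat 45, .ofNat 40, .negSucc 43, .ofNat 45, .negSucc 5, .ofNat 0, .ofNat 80, .ofNat 35, .ofNat 25,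
  .negSucc 19, .ofNat 0, .ofNat 60, .ofNat 0, .negSucc 53, .ofNat 50, .ofNat 0, .ofNat 19, .ofNat 0,
  .ofNat 30, .negSucc 30, .negSucc 44, .negSucc 99, .ofNat 0, .ofNat 0, .ofNat 0, .negSucc 79, .ofNat 0,
  .negSucc 113, .ofNat 110, .negSucc 80, .ofNat 45, .ofNat 100, .ofNat 0, .negSucc 24, .ofNat 65, .ofNat 0,
  .ofNat 94, .ofNat 0, .negSucc 49, .ofNat 5, .negSucc 29, .ofNat 0, .ofNat 0, .ofNat 80, .negSucc 80,
  .ofNat 0, .ofNat 81, .negSucc 74, .ofNat 81, .ofNat 50, .negSucc 80, .negSucc 134, .ofNat 0, .ofNat 0,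
  .negSucc 9, .ofNat 120, .ofNat 0, .ofNat 0, .ofNat 60, .ofNat 100, .negSucc 89, .ofNat 0, .ofNat 0,
  .ofNat 0, .ofNat 0, .ofNat 80, .negSucc 53, .ofNat 60]

/-- the values at the type 33 -/
def cT33 : List ℤ :=
  [.ofNat 1, .ofNat 4, .negSucc 5, .ofNat 5, .ofNat 5, .negSucc 11, .ofNat 3, .negSucc 0, .ofNat 27,
  .negSucc 10, .ofNat 8, .ofNat 13, .negSucc 14, .negSucc 16, .negSucc 6, .negSucc 22, .ofNat 23, .ofNat 40,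
  .ofNat 20, .ofNat 8, .ofNat 0, .ofNat 9, .negSucc 20, .ofNat 7, .negSucc 14, .ofNat 0, .negSucc 17,
  .ofNat 58, .ofNat 28, .ofNat 9, .negSucc 23, .ofNat 36, .negSucc 9, .ofNat 44, .negSucc 19, .negSucc 19,
  .ofNat 0, .ofNat 24, .negSucc 26, .ofNat 18, .ofNat 14, .ofNat 45, .negSucc 7, .ofNat 0, .ofNat 12,
  .ofNat 41, .negSucc 62, .negSucc 9, .ofNat 0, .ofNat 0, .ofNat 0, .ofNat 28, .ofNat 0, .negSucc 41,
  .negSucc 42, .ofNat 0, .ofNat 9, .negSucc 7, .ofNat 0, .ofNat 29, .negSucc 24, .ofNat 0, .negSucc 13,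
  .ofNat 0, .negSucc 58, .ofNat 32, .ofNat 6, .ofNat 0, .ofNat 0, .negSucc 63, .ofNat 0, .ofNat 0, .ofNat 0,
  .negSucc 11, .ofNat 0, .ofNat 41, .ofNat 0, .ofNat 18, .ofNat 0, .ofNat 27, .negSucc 9, .ofNat 30,
  .negSucc 53, .ofNat 54, .negSucc 83, .ofNat 10, .negSucc 17, .ofNat 0, .negSucc 53, .ofNat 0, .ofNat 0,
  .ofNat 116, .negSucc 35, .negSucc 29]

/-- the values at the type 34 -/
def cT34 : List ℤ :=
  [.ofNat 1, .negSucc 2, .ofNat 3, .ofNat 0, .negSucc 3, .ofNat 3, .ofNat 0, .negSucc 2, .ofNat 8, .ofNat 0,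
  .ofNat 0, .ofNat 0, .ofNat 6, .ofNat 1, .negSucc 5, .negSucc 5, .ofNat 2, .ofNat 0, .ofNat 4, .ofNat 0,
  .negSucc 5, .ofNat 1, .negSucc 2, .ofNat 8, .ofNat 0, .ofNat 0, .ofNat 2, .negSucc 7, .negSucc 3,
  .negSucc 0, .ofNat 0, .ofNat 1, .ofNat 0, .negSucc 2, .ofNat 0, .ofNat 0, .negSucc 7, .ofNat 8, .ofNat 4,
  .ofNat 6, .ofNat 0, .ofNat 0, .ofNat 4, .ofNat 3, .ofNat 0, .ofNat 0, .ofNat 2, .ofNat 1, .negSucc 3,
  .negSucc 0, .ofNat 0, .ofNat 0, .ofNat 1, .ofNat 4, .negSucc 1, .negSucc 0, .ofNat 0, .ofNat 0, .ofNat 0,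
  .ofNat 0, .ofNat 0, .ofNat 3, .ofNat 0, .negSucc 5, .negSucc 3, .ofNat 0, .ofNat 4, .ofNat 3, .ofNat 3,
  .ofNat 0, .negSucc 3, .negSucc 5, .ofNat 0, .ofNat 0, .ofNat 2, .ofNat 0, .negSucc 5, .ofNat 0, .ofNat 1,
  .ofNat 0, .ofNat 0, .ofNat 0, .ofNat 0, .ofNat 6, .ofNat 0, .ofNat 0, .ofNat 0, .negSucc 5, .ofNat 0,
  .ofNat 0, .ofNat 6, .ofNat 0, .ofNat 6, .ofNat 0]

/-- the values at the type 35 -/
def cT35 : List ℤ :=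
  [.ofNat 1, .ofNat 1, .ofNat 7, .ofNat 4, .ofNat 8, .ofNat 3, .negSucc 3, .negSucc 6, .ofNat 0, .ofNat 0,
  .ofNat 4, .ofNat 8, .negSucc 1, .ofNat 5, .negSucc 1, .ofNat 6, .ofNat 2, .ofNat 0, .negSucc 3, .ofNat 0,
  .ofNat 2, .negSucc 2, .negSucc 10, .ofNat 0, .ofNat 0, .ofNat 0, .ofNat 2, .ofNat 0, .ofNat 4, .negSucc 4,
  .negSucc 7, .ofNat 5, .ofNat 0, .ofNat 9, .ofNat 0, .ofNat 0, .ofNat 0, .ofNat 0, .ofNat 8, .negSucc 9,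
  .ofNat 0, .ofNat 0, .negSucc 7, .negSucc 0, .ofNat 0, .ofNat 4, .ofNat 6, .ofNat 5, .negSucc 3, .negSucc 4,
  .negSucc 3, .ofNat 0, .negSucc 2, .ofNat 12, .negSucc 5, .negSucc 0, .ofNat 4, .ofNat 0, .ofNat 0,
  .ofNat 0, .ofNat 0, .ofNat 11, .ofNat 8, .negSucc 5, .negSucc 3, .ofNat 4, .negSucc 11, .ofNat 7, .ofNat 7,
  .ofNat 0, .negSucc 7, .ofNat 6, .ofNat 4, .ofNat 0, .negSucc 1, .negSucc 7, .ofNat 10, .ofNat 0,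
  .negSucc 6, .ofNat 0, .ofNat 0, .ofNat 0, .ofNat 0, .negSucc 1, .ofNat 0, .negSucc 15, .ofNat 0, .ofNat 2,
  .ofNat 0, .ofNat 0, .ofNat 14, .ofNat 0, .negSucc 9, .ofNat 0]

/-- the values at the type 36 -/
def cT36 : List ℤ :=
  [.ofNat 1, .ofNat 3, .ofNat 2, .ofNat 0, .ofNat 1, .ofNat 3, .ofNat 0, .ofNat 0, .ofNat 0, .ofNat 0,
  .ofNat 0, .ofNat 0, .ofNat 0, .negSucc 0, .negSucc 0, .ofNat 0, .ofNat 0, .ofNat 0, .ofNat 0, .negSucc 1,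
  .ofNat 1, .ofNat 0, .ofNat 0, .ofNat 0, .ofNat 0, .ofNat 0, .ofNat 0, .ofNat 0, .negSucc 0, .ofNat 0,
  .ofNat 0, .ofNat 1, .ofNat 0, .ofNat 0, .ofNat 0, .ofNat 0, .negSucc 2, .negSucc 2, .ofNat 0, .ofNat 0,
  .ofNat 0, .ofNat 0, .ofNat 0, .negSucc 1, .ofNat 1, .negSucc 0, .ofNat 0, .ofNat 0, .ofNat 0, .ofNat 0,
  .ofNat 3, .ofNat 0, .ofNat 0, .ofNat 0, .ofNat 0, .ofNat 1, .negSucc 0, .ofNat 0, .ofNat 3, .ofNat 0,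
  .ofNat 0, .ofNat 0, .ofNat 0, .negSucc 2, .ofNat 0, .ofNat 3, .ofNat 0, .negSucc 2, .negSucc 2, .ofNat 0,
  .ofNat 0, .ofNat 0, .ofNat 3, .ofNat 0, .ofNat 0, .ofNat 2, .ofNat 0, .ofNat 0, .ofNat 0, .negSucc 1,
  .ofNat 0, .ofNat 0, .ofNat 0, .ofNat 0, .ofNat 0, .ofNat 0, .ofNat 0, .ofNat 0, .ofNat 0, .ofNat 2,
  .ofNat 0, .ofNat 0, .ofNat 0, .ofNat 0]

/-- the values at the type 37 -/
def cT37 : List ℤ :=
  [.ofNat 1, .negSucc 0, .ofNat 3, .negSucc 2, .ofNat 0, .ofNat 4, .negSucc 6, .negSucc 4, .ofNat 6,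
  .ofNat 4, .negSucc 0, .ofNat 2, .ofNat 6, .negSucc 7, .ofNat 0, .ofNat 0, .negSucc 2, .ofNat 3, .ofNat 6,
  .ofNat 6, .negSucc 3, .ofNat 1, .ofNat 8, .negSucc 2, .negSucc 5, .ofNat 0, .ofNat 1, .ofNat 0, .ofNat 0,
  .ofNat 7, .ofNat 0, .ofNat 3, .ofNat 0, .negSucc 7, .negSucc 0, .ofNat 0, .ofNat 3, .ofNat 0, .ofNat 6,
  .ofNat 0, .negSucc 2, .ofNat 3, .negSucc 15, .ofNat 6, .ofNat 0, .ofNat 8, .negSucc 9, .ofNat 6,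
  .negSucc 8, .negSucc 5, .ofNat 0, .ofNat 3, .negSucc 2, .ofNat 0, .ofNat 0, .negSucc 7, .negSucc 7,
  .ofNat 0, .negSucc 2, .negSucc 9, .ofNat 1, .ofNat 0, .ofNat 0, .negSucc 2, .ofNat 0, .negSucc 7, .ofNat 0,
  .ofNat 0, .ofNat 0, .ofNat 0, .ofNat 16, .ofNat 0, .ofNat 8, .ofNat 2, .ofNat 2, .ofNat 0, .negSucc 1,
  .negSucc 9, .negSucc 5, .ofNat 0, .ofNat 2, .ofNat 12, .ofNat 0, .negSucc 11, .ofNat 0, .ofNat 0,
  .ofNat 16, .ofNat 12, .ofNat 0, .ofNat 18, .ofNat 0, .ofNat 0, .negSucc 3, .ofNat 0]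

/-- the values at the type 38 -/
def cT38 : List ℤ :=
  [.ofNat 1, .ofNat 2, .ofNat 2, .negSucc 0, .ofNat 1, .ofNat 0, .ofNat 0, .ofNat 0, .negSucc 0, .ofNat 1,
  .ofNat 2, .negSucc 1, .ofNat 0, .ofNat 0, .ofNat 0, .ofNat 0, .negSucc 1, .negSucc 0, .ofNat 0, .ofNat 2,
  .negSucc 2, .negSucc 2, .ofNat 0, .ofNat 1, .ofNat 3, .negSucc 1, .negSucc 0, .ofNat 0, .ofNat 0,
  .negSucc 1, .ofNat 0, .negSucc 0, .ofNat 0, .ofNat 0, .ofNat 0, .ofNat 0, .ofNat 0, .ofNat 0, .negSucc 0,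
  .ofNat 1, .negSucc 1, .negSucc 0, .negSucc 1, .ofNat 2, .ofNat 2, .ofNat 0, .negSucc 1, .ofNat 0, .ofNat 1,
  .ofNat 1, .ofNat 0, .ofNat 2, .ofNat 0, .ofNat 0, .ofNat 0, .ofNat 0, .ofNat 0, .ofNat 0, .negSucc 1,
  .ofNat 1, .ofNat 1, .ofNat 0, .ofNat 0, .ofNat 0, .ofNat 0, .ofNat 0, .ofNat 0, .ofNat 0, .ofNat 0,
  .ofNat 0, .negSucc 1, .ofNat 0, .ofNat 0, .ofNat 0, .ofNat 2, .ofNat 0, .ofNat 1, .ofNat 0, .ofNat 2,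
  .negSucc 1, .ofNat 0, .ofNat 2, .ofNat 0, .ofNat 2, .ofNat 2, .ofNat 0, .negSucc 1, .ofNat 4, .ofNat 0,
  .ofNat 0, .ofNat 0, .ofNat 0, .ofNat 0, .negSucc 3]

/-- the values at the type 39 -/
def cT39 : List ℤ :=
  [.ofNat 1, .ofNat 5, .ofNat 2, .negSucc 0, .negSucc 1, .ofNat 3, .ofNat 3, .ofNat 6, .ofNat 5, .negSucc 1,
  .negSucc 3, .negSucc 1, .ofNat 3, .ofNat 0, .ofNat 0, .ofNat 0, .negSucc 1, .negSucc 0, .negSucc 2,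
  .negSucc 0, .ofNat 0, .negSucc 2, .ofNat 0, .negSucc 1, .ofNat 0, .negSucc 1, .ofNat 2, .ofNat 0, .ofNat 0,
  .ofNat 4, .ofNat 0, .ofNat 5, .ofNat 0, .ofNat 0, .ofNat 0, .ofNat 0, .ofNat 3, .ofNat 0, .negSucc 0,
  .negSucc 4, .negSucc 1, .ofNat 5, .negSucc 1, .negSucc 0, .negSucc 3, .ofNat 0, .ofNat 1, .ofNat 0,
  .negSucc 1, .ofNat 1, .ofNat 0, .negSucc 0, .ofNat 3, .ofNat 0, .ofNat 0, .ofNat 0, .ofNat 0, .ofNat 0,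
  .negSucc 4, .ofNat 1, .ofNat 4, .ofNat 0, .ofNat 0, .ofNat 0, .ofNat 0, .ofNat 0, .ofNat 0, .ofNat 0,
  .ofNat 0, .ofNat 0, .negSucc 1, .ofNat 0, .ofNat 0, .ofNat 0, .negSucc 3, .ofNat 0, .negSucc 4, .ofNat 6,
  .negSucc 3, .ofNat 4, .ofNat 0, .negSucc 3, .ofNat 0, .ofNat 8, .ofNat 8, .ofNat 0, .ofNat 4, .ofNat 4,
  .ofNat 0, .ofNat 0, .ofNat 0, .ofNat 0, .ofNat 0, .negSucc 3]

/-- the values at the type 40 -/
def cT40 : List ℤ :=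
  [.ofNat 1, .ofNat 7, .ofNat 6, .ofNat 5, .negSucc 6, .ofNat 5, .ofNat 4, .ofNat 18, .ofNat 8, .negSucc 16,
  .negSucc 11, .ofNat 0, .ofNat 10, .negSucc 3, .ofNat 8, .ofNat 24, .ofNat 0, .ofNat 21, .ofNat 11,
  .ofNat 4, .ofNat 12, .negSucc 21, .negSucc 3, .negSucc 7, .ofNat 19, .negSucc 23, .ofNat 12, .ofNat 0,
  .negSucc 15, .negSucc 2, .ofNat 0, .ofNat 10, .negSucc 15, .ofNat 12, .negSucc 6, .ofNat 25, .ofNat 0,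
  .ofNat 0, .ofNat 10, .ofNat 8, .ofNat 1, .ofNat 20, .ofNat 0, .ofNat 18, .negSucc 15, .ofNat 0, .ofNat 18,
  .negSucc 17, .negSucc 23, .negSucc 8, .negSucc 2, .ofNat 12, .negSucc 26, .ofNat 0, .ofNat 8, .negSucc 11,
  .ofNat 0, .negSucc 15, .ofNat 15, .ofNat 2, .ofNat 20, .negSucc 2, .ofNat 0, .ofNat 27, .ofNat 16,
  .ofNat 0, .ofNat 0, .ofNat 3, .negSucc 5, .ofNat 0, .ofNat 0, .ofNat 0, .ofNat 0, .ofNat 12, .ofNat 12,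
  .ofNat 0, .ofNat 9, .negSucc 18, .ofNat 18, .negSucc 15, .negSucc 1, .ofNat 2, .negSucc 15, .ofNat 4,
  .negSucc 31, .ofNat 0, .negSucc 5, .negSucc 35, .negSucc 15, .ofNat 0, .ofNat 6, .ofNat 0, .ofNat 2,
  .ofNat 0]

/-- the values at the type 41 -/
def cT41 : List ℤ :=
  [.ofNat 1, .negSucc 0, .ofNat 0, .ofNat 3, .ofNat 0, .ofNat 1, .negSucc 0, .negSucc 1, .ofNat 3, .ofNat 4,
  .ofNat 2, .ofNat 2, .negSucc 2, .negSucc 1, .ofNat 0, .ofNat 0, .ofNat 0, .ofNat 3, .negSucc 2, .ofNat 3,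
  .negSucc 3, .ofNat 1, .ofNat 2, .negSucc 5, .ofNat 0, .ofNat 0, .negSucc 1, .ofNat 0, .ofNat 0, .ofNat 4,
  .ofNat 0, .ofNat 3, .ofNat 0, .negSucc 1, .ofNat 2, .ofNat 6, .negSucc 2, .ofNat 0, .negSucc 2, .ofNat 3,
  .ofNat 0, .negSucc 2, .ofNat 2, .negSucc 2, .ofNat 0, .negSucc 3, .negSucc 0, .ofNat 0, .ofNat 0,
  .negSucc 2, .ofNat 0, .negSucc 2, .negSucc 2, .ofNat 0, .ofNat 0, .negSucc 1, .ofNat 4, .ofNat 0,
  .negSucc 2, .negSucc 0, .ofNat 4, .ofNat 0, .ofNat 0, .ofNat 0, .ofNat 0, .ofNat 4, .ofNat 0, .ofNat 0,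
  .ofNat 0, .ofNat 0, .negSucc 1, .ofNat 0, .negSucc 3, .ofNat 2, .ofNat 2, .ofNat 0, .ofNat 1, .ofNat 2,
  .ofNat 0, .ofNat 0, .negSucc 3, .ofNat 0, .ofNat 0, .ofNat 0, .ofNat 0, .ofNat 0, .ofNat 4, .ofNat 0,
  .ofNat 0, .ofNat 0, .ofNat 0, .ofNat 0, .negSucc 3, .ofNat 0]

/-- the values at the type 42 -/
def cT42 : List ℤ :=
  [.ofNat 1, .negSucc 0, .negSucc 0, .ofNat 5, .ofNat 4, .ofNat 0, .negSucc 2, .ofNat 3, .ofNat 2, .ofNat 4,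
  .negSucc 0, .negSucc 1, .ofNat 6, .ofNat 0, .ofNat 0, .ofNat 0, .ofNat 1, .negSucc 0, .negSucc 5,
  .negSucc 9, .ofNat 0, .negSucc 2, .ofNat 0, .ofNat 1, .ofNat 6, .ofNat 4, .negSucc 6, .ofNat 0, .ofNat 0,
  .ofNat 7, .ofNat 0, .negSucc 0, .ofNat 0, .ofNat 0, .ofNat 3, .ofNat 0, .ofNat 3, .ofNat 0, .ofNat 2,
  .ofNat 4, .ofNat 1, .negSucc 0, .ofNat 4, .ofNat 2, .negSucc 3, .ofNat 0, .negSucc 1, .ofNat 6, .negSucc 4,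
  .negSucc 1, .ofNat 0, .ofNat 11, .negSucc 2, .ofNat 0, .ofNat 0, .ofNat 0, .ofNat 0, .ofNat 0, .ofNat 1,
  .ofNat 10, .ofNat 1, .ofNat 0, .ofNat 0, .negSucc 2, .ofNat 0, .ofNat 0, .ofNat 0, .ofNat 0, .ofNat 0,
  .ofNat 0, .ofNat 4, .ofNat 0, .ofNat 0, .negSucc 5, .ofNat 2, .ofNat 0, .negSucc 1, .negSucc 5, .ofNat 2,
  .ofNat 4, .negSucc 5, .negSucc 3, .ofNat 0, .negSucc 3, .ofNat 8, .ofNat 0, .negSucc 7, .ofNat 4, .ofNat 0,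
  .negSucc 5, .ofNat 0, .ofNat 0, .negSucc 11, .ofNat 8]

/-- the values at the type 43 -/
def cT43 : List ℤ :=
  [.ofNat 1, .negSucc 1, .ofNat 6, .ofNat 11, .negSucc 6, .negSucc 3, .ofNat 4, .ofNat 0, .negSucc 0,
  .ofNat 1, .ofNat 6, .negSucc 5, .ofNat 4, .negSucc 3, .negSucc 3, .negSucc 11, .negSucc 5, .negSucc 8,
  .negSucc 3, .ofNat 10, .ofNat 21, .ofNat 5, .negSucc 3, .ofNat 1, .ofNat 7, .ofNat 6, .ofNat 15, .ofNat 0,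
  .ofNat 8, .negSucc 5, .ofNat 0, .negSucc 16, .negSucc 15, .ofNat 0, .ofNat 8, .ofNat 4, .ofNat 0, .ofNat 0,
  .negSucc 4, .ofNat 5, .negSucc 1, .negSucc 0, .ofNat 6, .negSucc 5, .ofNat 2, .ofNat 0, .negSucc 5,
  .ofNat 0, .negSucc 14, .negSucc 14, .ofNat 0, .negSucc 5, .ofNat 0, .ofNat 0, .negSucc 3, .ofNat 0,
  .ofNat 0, .ofNat 8, .ofNat 6, .ofNat 5, .ofNat 5, .ofNat 0, .ofNat 0, .ofNat 0, .ofNat 4, .ofNat 0,
  .ofNat 0, .ofNat 0, .ofNat 0, .ofNat 0, .ofNat 6, .ofNat 0, .ofNat 0, .ofNat 0, .negSucc 5, .ofNat 0,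
  .ofNat 9, .negSucc 3, .negSucc 5, .ofNat 2, .negSucc 7, .ofNat 2, .negSucc 15, .ofNat 10, .ofNat 10,
  .ofNat 0, .ofNat 6, .ofNat 12, .negSucc 15, .ofNat 0, .ofNat 0, .ofNat 0, .ofNat 8, .negSucc 11]

/-- the values at the type 44 -/
def cT44 : List ℤ :=
  [.ofNat 1, .ofNat 1, .ofNat 6, .negSucc 0, .ofNat 2, .negSucc 0, .negSucc 4, .ofNat 6, .negSucc 6,
  .ofNat 10, .ofNat 0, .ofNat 6, .ofNat 7, .negSucc 3, .ofNat 8, .ofNat 0, .negSucc 5, .negSucc 8, .ofNat 5,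
  .ofNat 7, .ofNat 0, .ofNat 5, .negSucc 3, .negSucc 1, .negSucc 7, .negSucc 5, .negSucc 5, .ofNat 0,
  .ofNat 8, .ofNat 12, .ofNat 0, .ofNat 1, .negSucc 15, .negSucc 11, .negSucc 3, .ofNat 4, .negSucc 8,
  .ofNat 0, .ofNat 19, .negSucc 12, .ofNat 10, .ofNat 5, .ofNat 6, .ofNat 3, .negSucc 3, .ofNat 0, .ofNat 21,
  .ofNat 0, .ofNat 18, .negSucc 14, .ofNat 0, .ofNat 3, .negSucc 8, .ofNat 0, .ofNat 8, .ofNat 12, .ofNat 0,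
  .ofNat 8, .negSucc 8, .ofNat 5, .negSucc 3, .ofNat 0, .ofNat 0, .ofNat 0, .negSucc 7, .ofNat 0, .ofNat 0,
  .ofNat 0, .ofNat 0, .ofNat 0, .ofNat 6, .ofNat 0, .ofNat 0, .negSucc 11, .ofNat 0, .ofNat 0, .negSucc 8,
  .ofNat 14, .ofNat 12, .negSucc 3, .negSucc 7, .ofNat 20, .negSucc 15, .negSucc 7, .negSucc 7, .ofNat 0,
  .negSucc 11, .ofNat 12, .negSucc 15, .ofNat 0, .ofNat 0, .ofNat 0, .ofNat 8, .negSucc 11]

/-- the values at the type 45 -/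
def cT45 : List ℤ :=
  [.ofNat 1, .ofNat 7, .ofNat 6, .ofNat 29, .negSucc 6, .ofNat 5, .ofNat 4, .ofNat 18, .ofNat 8, .ofNat 55,
  .negSucc 11, .negSucc 23, .negSucc 13, .negSucc 3, .ofNat 32, .ofNat 24, .ofNat 48, .ofNat 45, .ofNat 131,
  .ofNat 28, .ofNat 12, .negSucc 21, .negSucc 3, .negSucc 7, .ofNat 43, .ofNat 24, .ofNat 60, .ofNat 0,
  .ofNat 8, .ofNat 21, .ofNat 0, .ofNat 10, .negSucc 15, .negSucc 35, .ofNat 161, .negSucc 22, .ofNat 0,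
  .ofNat 0, .negSucc 13, .ofNat 32, .negSucc 46, .ofNat 44, .negSucc 47, .negSucc 5, .negSucc 15, .ofNat 0,
  .negSucc 5, .ofNat 54, .negSucc 23, .ofNat 39, .negSucc 26, .negSucc 59, .negSucc 26, .ofNat 0, .ofNat 32,
  .ofNat 36, .ofNat 0, .ofNat 8, .ofNat 15, .negSucc 21, .negSucc 75, .negSucc 26, .ofNat 0, .ofNat 27,
  .negSucc 31, .ofNat 0, .ofNat 0, .ofNat 27, .negSucc 53, .ofNat 0, .negSucc 47, .ofNat 0, .ofNat 0,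
  .negSucc 35, .ofNat 12, .ofNat 0, .ofNat 9, .ofNat 77, .negSucc 5, .negSucc 15, .ofNat 46, .ofNat 2,
  .negSucc 15, .negSucc 43, .ofNat 64, .ofNat 0, .negSucc 101, .ofNat 12, .negSucc 15, .ofNat 0, .ofNat 54,
  .ofNat 0, .negSucc 45, .ofNat 96]

/-- the values at the type 46 -/
def cT46 : List ℤ :=
  [.ofNat 1, .negSucc 0, .ofNat 6, .ofNat 9, .ofNat 9, .negSucc 10, .negSucc 3, .ofNat 10, .ofNat 0,
  .negSucc 4, .negSucc 3, .ofNat 20, .ofNat 6, .ofNat 4, .ofNat 0, .ofNat 0, .negSucc 23, .negSucc 14,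
  .ofNat 15, .ofNat 0, .negSucc 3, .ofNat 10, .negSucc 3, .ofNat 0, .ofNat 15, .ofNat 0, .ofNat 4, .ofNat 0,
  .ofNat 0, .ofNat 1, .ofNat 0, .negSucc 5, .ofNat 0, .ofNat 4, .ofNat 5, .negSucc 14, .ofNat 0, .ofNat 0,
  .ofNat 6, .negSucc 11, .negSucc 14, .ofNat 0, .negSucc 15, .ofNat 6, .ofNat 0, .negSucc 15, .negSucc 9,
  .negSucc 5, .ofNat 0, .negSucc 8, .ofNat 9, .ofNat 0, .negSucc 2, .ofNat 0, .ofNat 0, .ofNat 4, .ofNat 16,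
  .ofNat 0, .ofNat 15, .negSucc 9, .negSucc 19, .ofNat 9, .ofNat 0, .ofNat 3, .ofNat 0, .ofNat 16, .ofNat 0,
  .negSucc 8, .ofNat 18, .ofNat 0, .ofNat 16, .ofNat 0, .negSucc 15, .ofNat 20, .ofNat 20, .ofNat 0,
  .negSucc 22, .ofNat 5, .ofNat 6, .ofNat 0, .negSucc 9, .negSucc 29, .ofNat 0, .ofNat 12, .ofNat 0,
  .ofNat 0, .ofNat 10, .negSucc 11, .ofNat 0, .ofNat 0, .negSucc 17, .ofNat 0, .negSucc 21, .ofNat 0]

/-- the values at the type 47 -/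
def cT47 : List ℤ :=
  [.ofNat 1, .negSucc 4, .ofNat 15, .ofNat 5, .ofNat 20, .negSucc 15, .ofNat 13, .ofNat 3, .ofNat 14,
  .negSucc 7, .negSucc 32, .ofNat 18, .ofNat 10, .ofNat 32, .negSucc 15, .negSucc 23, .negSucc 14, .ofNat 27,
  .ofNat 14, .negSucc 13, .ofNat 24, .ofNat 5, .ofNat 32, .negSucc 22, .ofNat 22, .ofNat 0, .negSucc 26,
  .ofNat 0, .ofNat 8, .ofNat 3, .ofNat 0, .negSucc 16, .negSucc 15, .negSucc 23, .negSucc 24, .ofNat 4,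
  .negSucc 8, .ofNat 0, .negSucc 1, .negSucc 3, .negSucc 22, .negSucc 24, .negSucc 11, .ofNat 30,
  .negSucc 27, .ofNat 0, .negSucc 5, .ofNat 18, .ofNat 15, .ofNat 30, .ofNat 0, .ofNat 3, .ofNat 9, .ofNat 0,
  .negSucc 15, .ofNat 24, .ofNat 0, .ofNat 8, .ofNat 21, .ofNat 14, .ofNat 41, .ofNat 0, .ofNat 0, .ofNat 9,
  .negSucc 55, .ofNat 0, .ofNat 0, .ofNat 0, .ofNat 0, .ofNat 0, .negSucc 11, .ofNat 0, .ofNat 0, .ofNat 30,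
  .ofNat 6, .ofNat 0, .ofNat 18, .ofNat 14, .negSucc 41, .negSucc 27, .ofNat 10, .ofNat 20, .negSucc 15,
  .negSucc 43, .negSucc 7, .ofNat 0, .ofNat 24, .ofNat 12, .negSucc 15, .negSucc 53, .ofNat 0, .ofNat 0,
  .ofNat 44, .ofNat 24]

/-- the values at the type 48 -/
def cT48 : List ℤ :=
  [.ofNat 1, .ofNat 1, .negSucc 2, .ofNat 2, .ofNat 2, .negSucc 0, .ofNat 4, .negSucc 2, .ofNat 2, .ofNat 1,
  .ofNat 0, .ofNat 3, .ofNat 4, .negSucc 3, .ofNat 2, .ofNat 0, .ofNat 0, .ofNat 3, .ofNat 2, .ofNat 1,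
  .ofNat 0, .ofNat 5, .negSucc 3, .negSucc 1, .negSucc 4, .ofNat 0, .ofNat 0, .ofNat 0, .ofNat 2, .negSucc 2,
  .ofNat 0, .ofNat 1, .ofNat 2, .ofNat 0, .negSucc 0, .negSucc 1, .ofNat 0, .ofNat 0, .negSucc 1, .negSucc 0,
  .negSucc 4, .negSucc 0, .ofNat 0, .ofNat 0, .negSucc 3, .ofNat 0, .ofNat 0, .ofNat 0, .ofNat 0, .ofNat 0,
  .negSucc 2, .ofNat 3, .ofNat 0, .ofNat 0, .ofNat 2, .ofNat 0, .ofNat 0, .ofNat 2, .ofNat 0, .ofNat 2,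
  .ofNat 2, .negSucc 2, .ofNat 0, .ofNat 0, .ofNat 4, .ofNat 0, .ofNat 0, .negSucc 5, .ofNat 3, .ofNat 0,
  .ofNat 0, .ofNat 0, .ofNat 0, .ofNat 0, .ofNat 0, .ofNat 0, .ofNat 0, .negSucc 0, .ofNat 0, .negSucc 3,
  .negSucc 1, .ofNat 2, .ofNat 2, .ofNat 4, .ofNat 4, .ofNat 0, .negSucc 5, .ofNat 0, .ofNat 2, .ofNat 0,
  .ofNat 6, .ofNat 0, .ofNat 2, .ofNat 0]

/-- the values at the type 49 -/
def cT49 : List ℤ :=
  [.ofNat 1, .ofNat 0, .ofNat 4, .ofNat 1, .ofNat 4, .negSucc 0, .ofNat 0, .ofNat 0, .negSucc 3, .ofNat 0,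
  .ofNat 1, .ofNat 0, .ofNat 0, .ofNat 0, .ofNat 0, .ofNat 0, .ofNat 0, .ofNat 4, .ofNat 0, .ofNat 0,
  .ofNat 0, .negSucc 0, .negSucc 3, .ofNat 0, .negSucc 0, .ofNat 0, .ofNat 0, .ofNat 0, .ofNat 0, .ofNat 0,
  .ofNat 1, .ofNat 0, .negSucc 0, .ofNat 0, .ofNat 0, .ofNat 0, .ofNat 0, .ofNat 4, .ofNat 0, .ofNat 0,
  .ofNat 0, .ofNat 0, .ofNat 0, .ofNat 0, .negSucc 0, .ofNat 0, .ofNat 0, .ofNat 0, .ofNat 0, .ofNat 0,
  .ofNat 1, .ofNat 0, .ofNat 0, .ofNat 0, .ofNat 0, .ofNat 0, .ofNat 4, .ofNat 0, .ofNat 0, .ofNat 0,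
  .ofNat 0, .ofNat 1, .negSucc 0, .ofNat 0, .ofNat 0, .negSucc 3, .ofNat 4, .negSucc 3, .negSucc 3, .ofNat 0,
  .ofNat 0, .ofNat 0, .ofNat 0, .ofNat 0, .ofNat 0, .ofNat 0, .ofNat 0, .ofNat 0, .ofNat 0, .ofNat 4,
  .ofNat 2, .ofNat 2, .ofNat 2, .ofNat 2, .ofNat 0, .negSucc 1, .ofNat 4, .ofNat 0, .ofNat 0, .ofNat 0,
  .negSucc 1, .negSucc 3, .ofNat 0, .ofNat 2]

/-- the values at the type 50 -/
def cT50 : List ℤ :=
  [.ofNat 1, .ofNat 1, .ofNat 2, .ofNat 2, .ofNat 1, .ofNat 2, .negSucc 2, .ofNat 0, .negSucc 1, .negSucc 0,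
  .negSucc 0, .ofNat 2, .ofNat 2, .negSucc 0, .ofNat 0, .ofNat 0, .ofNat 2, .ofNat 0, .ofNat 0, .ofNat 0,
  .ofNat 0, .ofNat 0, .ofNat 1, .ofNat 1, .ofNat 0, .negSucc 0, .ofNat 0, .ofNat 0, .ofNat 0, .negSucc 0,
  .ofNat 2, .ofNat 0, .ofNat 0, .negSucc 0, .ofNat 0, .ofNat 0, .negSucc 2, .negSucc 1, .negSucc 1, .ofNat 0,
  .ofNat 0, .ofNat 0, .ofNat 0, .ofNat 0, .ofNat 0, .ofNat 1, .ofNat 0, .ofNat 0, .ofNat 0, .ofNat 0,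
  .negSucc 4, .ofNat 0, .ofNat 2, .negSucc 1, .ofNat 0, .negSucc 0, .ofNat 1, .ofNat 0, .ofNat 0, .ofNat 0,
  .ofNat 0, .ofNat 1, .negSucc 1, .ofNat 1, .ofNat 0, .ofNat 1, .ofNat 2, .ofNat 2, .ofNat 2, .ofNat 0,
  .ofNat 0, .ofNat 3, .ofNat 1, .negSucc 0, .negSucc 0, .negSucc 1, .ofNat 0, .ofNat 0, .ofNat 0, .ofNat 0,
  .ofNat 0, .negSucc 1, .ofNat 4, .ofNat 0, .ofNat 0, .ofNat 4, .ofNat 0, .ofNat 0, .negSucc 3, .ofNat 0,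
  .negSucc 1, .ofNat 0, .ofNat 0, .ofNat 0]

/-- the values at the type 51 -/
def cT51 : List ℤ :=
  [.ofNat 1, .ofNat 2, .ofNat 0, .negSucc 0, .ofNat 0, .ofNat 0, .ofNat 1, .ofNat 0, .ofNat 0, .ofNat 1,
  .ofNat 0, .ofNat 0, .ofNat 0, .ofNat 0, .ofNat 0, .negSucc 1, .ofNat 0, .ofNat 0, .ofNat 0, .ofNat 0,
  .negSucc 0, .ofNat 0, .ofNat 0, .ofNat 0, .ofNat 0, .ofNat 2, .ofNat 0, .negSucc 1, .ofNat 0, .ofNat 0,
  .ofNat 0, .ofNat 0, .ofNat 0, .ofNat 0, .ofNat 0, .ofNat 0, .ofNat 2, .ofNat 0, .ofNat 0, .ofNat 0,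
  .ofNat 0, .ofNat 0, .ofNat 0, .ofNat 0, .ofNat 0, .ofNat 0, .ofNat 0, .ofNat 0, .ofNat 0, .ofNat 0,
  .ofNat 0, .ofNat 0, .negSucc 0, .ofNat 0, .ofNat 0, .ofNat 0, .ofNat 0, .ofNat 0, .ofNat 0, .ofNat 0,
  .ofNat 0, .ofNat 0, .ofNat 0, .ofNat 0, .ofNat 0, .ofNat 0, .ofNat 0, .ofNat 0, .ofNat 0, .ofNat 1,
  .ofNat 0, .ofNat 3, .ofNat 0, .ofNat 0, .ofNat 0, .ofNat 0, .ofNat 0, .ofNat 0, .ofNat 0, .ofNat 0,
  .ofNat 0, .ofNat 0, .ofNat 0, .ofNat 0, .negSucc 1, .ofNat 0, .ofNat 0, .negSucc 1, .negSucc 1, .ofNat 0,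
  .ofNat 0, .ofNat 0, .ofNat 0, .ofNat 0]

/-- the values at the type 52 -/
def cT52 : List ℤ :=
  [.ofNat 1, .ofNat 0, .ofNat 0, .ofNat 2, .ofNat 3, .ofNat 2, .ofNat 2, .negSucc 1, .negSucc 2, .ofNat 0,
  .ofNat 0, .ofNat 0, .ofNat 0, .negSucc 2, .negSucc 1, .ofNat 0, .ofNat 1, .ofNat 0, .negSucc 0, .ofNat 0,
  .negSucc 1, .ofNat 1, .ofNat 0, .negSucc 2, .ofNat 0, .ofNat 0, .ofNat 3, .ofNat 3, .ofNat 1, .ofNat 3,
  .ofNat 2, .negSucc 2, .ofNat 0, .ofNat 0, .ofNat 0, .ofNat 0, .ofNat 3, .negSucc 2, .ofNat 3, .ofNat 4,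
  .ofNat 0, .ofNat 0, .negSucc 0, .ofNat 0, .ofNat 0, .ofNat 2, .ofNat 3, .negSucc 2, .negSucc 2, .ofNat 3,
  .ofNat 0, .ofNat 0, .ofNat 3, .ofNat 1, .negSucc 2, .negSucc 0, .ofNat 0, .ofNat 0, .ofNat 0, .ofNat 0,
  .ofNat 0, .ofNat 0, .ofNat 2, .ofNat 0, .negSucc 2, .ofNat 0, .negSucc 2, .ofNat 0, .ofNat 0, .ofNat 0,
  .negSucc 0, .ofNat 0, .negSucc 1, .ofNat 0, .ofNat 1, .ofNat 0, .negSucc 3, .ofNat 0, .ofNat 3, .ofNat 0,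
  .ofNat 0, .ofNat 0, .ofNat 0, .ofNat 0, .ofNat 0, .ofNat 0, .ofNat 0, .ofNat 0, .ofNat 0, .ofNat 0,
  .ofNat 0, .ofNat 0, .ofNat 4, .ofNat 0]

/-- the values at the type 53 -/
def cT53 : List ℤ :=
  [.ofNat 1, .negSucc 2, .ofNat 9, .ofNat 5, .ofNat 15, .negSucc 6, .ofNat 11, .negSucc 1, .ofNat 0,
  .ofNat 0, .negSucc 14, .ofNat 6, .negSucc 14, .ofNat 15, .ofNat 10, .ofNat 0, .negSucc 4, .ofNat 0,
  .negSucc 9, .ofNat 0, .negSucc 4, .negSucc 7, .ofNat 9, .ofNat 0, .ofNat 0, .ofNat 0, .ofNat 15, .ofNat 0,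
  .ofNat 10, .negSucc 14, .ofNat 2, .ofNat 15, .ofNat 0, .ofNat 3, .ofNat 0, .ofNat 0, .ofNat 0, .ofNat 0,
  .ofNat 3, .ofNat 10, .ofNat 0, .ofNat 0, .ofNat 5, .ofNat 3, .ofNat 0, .ofNat 5, .ofNat 0, .ofNat 15,
  .ofNat 6, .negSucc 14, .negSucc 8, .ofNat 0, .ofNat 12, .negSucc 7, .ofNat 0, .negSucc 0, .negSucc 14,
  .ofNat 0, .ofNat 0, .ofNat 0, .ofNat 0, .negSucc 8, .negSucc 9, .negSucc 11, .ofNat 6, .ofNat 9, .ofNat 0,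
  .ofNat 9, .negSucc 17, .ofNat 0, .ofNat 17, .ofNat 0, .negSucc 10, .ofNat 0, .ofNat 10, .negSucc 5,
  .negSucc 9, .ofNat 0, .ofNat 3, .ofNat 0, .ofNat 0, .ofNat 0, .ofNat 0, .ofNat 6, .ofNat 0, .negSucc 11,
  .ofNat 0, .negSucc 5, .ofNat 0, .ofNat 0, .ofNat 18, .ofNat 0, .ofNat 10, .ofNat 0]

/-- the values at the type 54 -/
def cT54 : List ℤ :=
  [.ofNat 1, .ofNat 3, .ofNat 0, .negSucc 0, .ofNat 0, .ofNat 2, .ofNat 2, .negSucc 1, .ofNat 3, .ofNat 0,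
  .negSucc 2, .ofNat 3, .negSucc 2, .negSucc 2, .ofNat 4, .ofNat 0, .negSucc 1, .ofNat 0, .negSucc 0,
  .ofNat 0, .ofNat 1, .ofNat 1, .ofNat 0, .ofNat 3, .ofNat 0, .ofNat 0, .ofNat 0, .negSucc 2, .ofNat 1,
  .ofNat 3, .ofNat 2, .negSucc 2, .ofNat 0, .ofNat 6, .ofNat 0, .ofNat 0, .negSucc 2, .ofNat 3, .ofNat 3,
  .negSucc 1, .ofNat 0, .ofNat 0, .ofNat 2, .negSucc 2, .ofNat 0, .negSucc 0, .negSucc 2, .negSucc 2,
  .negSucc 2, .ofNat 3, .ofNat 0, .ofNat 0, .ofNat 3, .ofNat 1, .ofNat 3, .negSucc 0, .negSucc 2, .ofNat 0,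
  .ofNat 0, .ofNat 0, .ofNat 0, .ofNat 0, .negSucc 3, .ofNat 3, .negSucc 2, .ofNat 0, .ofNat 3, .ofNat 0,
  .ofNat 0, .ofNat 0, .negSucc 0, .ofNat 0, .negSucc 1, .ofNat 0, .ofNat 1, .negSucc 2, .ofNat 2, .ofNat 0,
  .ofNat 3, .ofNat 0, .ofNat 0, .ofNat 0, .ofNat 0, .negSucc 5, .ofNat 0, .negSucc 5, .ofNat 0, .ofNat 6,
  .ofNat 0, .ofNat 0, .ofNat 0, .ofNat 0, .negSucc 1, .ofNat 0]

/-- the values at the type 55 -/
def cT55 : List ℤ :=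
  [.ofNat 1, .negSucc 0, .ofNat 1, .ofNat 0, .negSucc 0, .ofNat 1, .negSucc 0, .negSucc 0, .ofNat 1,
  .negSucc 0, .ofNat 0, .ofNat 1, .ofNat 0, .ofNat 0, .ofNat 0, .ofNat 0, .ofNat 0, .negSucc 0, .ofNat 0,
  .negSucc 0, .ofNat 0, .ofNat 0, .ofNat 0, .ofNat 0, .negSucc 0, .negSucc 0, .ofNat 1, .ofNat 0, .ofNat 0,
  .ofNat 0, .ofNat 0, .ofNat 0, .ofNat 0, .ofNat 0, .ofNat 1, .negSucc 0, .ofNat 1, .ofNat 0, .ofNat 0,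
  .ofNat 1, .ofNat 0, .ofNat 0, .ofNat 0, .ofNat 1, .ofNat 0, .ofNat 0, .ofNat 0, .ofNat 0, .ofNat 1,
  .ofNat 0, .ofNat 1, .ofNat 0, .ofNat 0, .ofNat 0, .ofNat 0, .ofNat 0, .ofNat 0, .ofNat 0, .negSucc 0,
  .ofNat 0, .ofNat 0, .ofNat 0, .ofNat 0, .ofNat 1, .ofNat 0, .ofNat 0, .ofNat 0, .negSucc 0, .negSucc 0,
  .ofNat 0, .ofNat 0, .ofNat 1, .ofNat 0, .ofNat 0, .ofNat 0, .ofNat 0, .ofNat 1, .ofNat 0, .ofNat 0,
  .ofNat 0, .negSucc 1, .ofNat 0, .ofNat 0, .ofNat 0, .ofNat 0, .ofNat 0, .ofNat 0, .ofNat 0, .ofNat 0,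
  .negSucc 1, .ofNat 0, .ofNat 0, .ofNat 0, .ofNat 0]

/-- the values at the type 56 -/
def cT56 : List ℤ :=
  [.ofNat 1, .ofNat 1, .ofNat 0, .ofNat 0, .ofNat 0, .ofNat 0, .ofNat 0, .negSucc 0, .ofNat 0, .ofNat 0,
  .ofNat 0, .ofNat 0, .negSucc 0, .ofNat 0, .ofNat 0, .ofNat 0, .ofNat 0, .ofNat 0, .ofNat 0, .ofNat 0,
  .ofNat 0, .ofNat 0, .ofNat 0, .ofNat 0, .ofNat 0, .ofNat 0, .ofNat 0, .ofNat 0, .ofNat 0, .ofNat 0,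
  .ofNat 0, .ofNat 0, .ofNat 0, .ofNat 0, .ofNat 0, .ofNat 0, .ofNat 0, .ofNat 0, .ofNat 0, .ofNat 0,
  .ofNat 0, .ofNat 1, .ofNat 0, .ofNat 0, .ofNat 0, .ofNat 0, .ofNat 0, .ofNat 0, .ofNat 0, .ofNat 0,
  .ofNat 0, .ofNat 0, .ofNat 0, .ofNat 0, .ofNat 0, .ofNat 0, .ofNat 1, .ofNat 0, .ofNat 0, .ofNat 0,
  .ofNat 0, .negSucc 0, .ofNat 0, .ofNat 0, .ofNat 0, .ofNat 0, .ofNat 0, .ofNat 1, .ofNat 1, .ofNat 0,
  .ofNat 1, .negSucc 0, .ofNat 1, .ofNat 0, .ofNat 0, .ofNat 1, .ofNat 0, .ofNat 0, .ofNat 0, .ofNat 0,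
  .ofNat 0, .ofNat 0, .ofNat 0, .ofNat 0, .ofNat 0, .ofNat 0, .ofNat 0, .ofNat 0, .ofNat 0, .negSucc 1,
  .ofNat 0, .negSucc 1, .ofNat 0, .ofNat 0]

/-- the values at the type 57 -/
def cT57 : List ℤ :=
  [.ofNat 1, .ofNat 3, .ofNat 1, .ofNat 1, .negSucc 1, .ofNat 0, .ofNat 2, .ofNat 2, .ofNat 0, .ofNat 0,
  .negSucc 2, .ofNat 1, .negSucc 0, .negSucc 0, .ofNat 0, .ofNat 1, .ofNat 2, .negSucc 3, .ofNat 0, .ofNat 1,
  .ofNat 0, .ofNat 0, .negSucc 2, .ofNat 0, .negSucc 1, .ofNat 0, .ofNat 0, .ofNat 3, .negSucc 1, .ofNat 0,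
  .ofNat 0, .negSucc 2, .ofNat 2, .negSucc 1, .ofNat 0, .ofNat 3, .ofNat 0, .ofNat 3, .ofNat 0, .ofNat 0,
  .ofNat 0, .negSucc 2, .negSucc 0, .ofNat 0, .ofNat 1, .ofNat 0, .ofNat 0, .ofNat 4, .ofNat 0, .ofNat 0,
  .ofNat 0, .ofNat 1, .ofNat 0, .negSucc 0, .ofNat 0, .ofNat 0, .ofNat 0, .negSucc 1, .ofNat 0, .ofNat 0,
  .ofNat 0, .ofNat 0, .ofNat 0, .ofNat 0, .ofNat 0, .ofNat 0, .negSucc 0, .ofNat 0, .ofNat 0, .negSucc 1,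
  .ofNat 0, .ofNat 0, .ofNat 0, .ofNat 1, .ofNat 0, .ofNat 0, .ofNat 0, .ofNat 0, .ofNat 0, .ofNat 0,
  .ofNat 0, .ofNat 0, .ofNat 0, .ofNat 0, .negSucc 1, .ofNat 0, .ofNat 0, .ofNat 0, .ofNat 0, .ofNat 0,
  .ofNat 0, .ofNat 0, .ofNat 0, .ofNat 2]

/-- the values at the type 58 -/
def cT58 : List ℤ :=
  [.ofNat 1, .ofNat 0, .negSucc 1, .ofNat 4, .ofNat 1, .ofNat 0, .negSucc 0, .negSucc 0, .ofNat 3, .ofNat 6,
  .ofNat 0, .negSucc 1, .ofNat 2, .negSucc 0, .ofNat 3, .ofNat 1, .ofNat 2, .ofNat 2, .negSucc 2, .negSucc 4,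
  .ofNat 0, .negSucc 2, .ofNat 3, .ofNat 3, .ofNat 1, .ofNat 0, .negSucc 2, .ofNat 6, .negSucc 1, .ofNat 0,
  .ofNat 0, .negSucc 2, .ofNat 2, .ofNat 4, .ofNat 0, .negSucc 2, .ofNat 0, .ofNat 0, .negSucc 2, .negSucc 2,
  .negSucc 5, .ofNat 0, .ofNat 2, .ofNat 0, .ofNat 1, .ofNat 0, .ofNat 6, .ofNat 4, .ofNat 0, .ofNat 0,
  .ofNat 0, .negSucc 1, .ofNat 0, .ofNat 2, .ofNat 3, .ofNat 0, .ofNat 0, .negSucc 1, .ofNat 0, .negSucc 8,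
  .negSucc 2, .ofNat 0, .ofNat 0, .ofNat 0, .negSucc 2, .ofNat 0, .ofNat 2, .ofNat 0, .ofNat 0, .ofNat 4,
  .ofNat 0, .ofNat 0, .ofNat 0, .ofNat 4, .ofNat 0, .ofNat 0, .ofNat 0, .negSucc 2, .ofNat 0, .ofNat 3,
  .negSucc 5, .ofNat 6, .negSucc 5, .ofNat 6, .negSucc 1, .ofNat 0, .ofNat 0, .ofNat 0, .negSucc 5, .ofNat 0,
  .ofNat 0, .ofNat 0, .ofNat 6, .negSucc 3]

/-- the values at the type 59 -/
def cT59 : List ℤ :=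
  [.ofNat 1, .ofNat 0, .negSucc 0, .ofNat 2, .ofNat 1, .ofNat 2, .negSucc 0, .negSucc 0, .ofNat 0,
  .negSucc 1, .ofNat 0, .negSucc 1, .ofNat 2, .ofNat 1, .ofNat 2, .negSucc 0, .ofNat 1, .negSucc 0, .ofNat 0,
  .negSucc 0, .ofNat 0, .ofNat 0, .ofNat 2, .negSucc 1, .negSucc 0, .ofNat 0, .ofNat 0, .ofNat 0, .ofNat 1,
  .ofNat 0, .negSucc 1, .ofNat 0, .ofNat 0, .negSucc 0, .ofNat 0, .ofNat 2, .ofNat 0, .ofNat 2, .ofNat 0,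
  .ofNat 0, .negSucc 1, .ofNat 0, .ofNat 0, .ofNat 0, .ofNat 2, .ofNat 0, .ofNat 0, .negSucc 0, .ofNat 0,
  .ofNat 0, .ofNat 0, .ofNat 0, .ofNat 0, .negSucc 0, .ofNat 2, .ofNat 0, .ofNat 0, .ofNat 1, .ofNat 0,
  .ofNat 2, .negSucc 1, .ofNat 0, .ofNat 2, .ofNat 0, .ofNat 0, .ofNat 0, .ofNat 1, .ofNat 0, .ofNat 0,
  .ofNat 0, .ofNat 0, .ofNat 0, .ofNat 0, .ofNat 1, .ofNat 0, .ofNat 0, .ofNat 0, .ofNat 0, .ofNat 0,
  .ofNat 0, .ofNat 4, .negSucc 1, .ofNat 0, .ofNat 0, .negSucc 1, .negSucc 3, .ofNat 0, .ofNat 0, .ofNat 0,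
  .ofNat 0, .ofNat 0, .ofNat 0, .ofNat 0, .negSucc 1]

/-- the values at the type 60 -/
def cT60 : List ℤ :=
  [.ofNat 1, .negSucc 2, .ofNat 4, .ofNat 7, .negSucc 4, .ofNat 0, .ofNat 5, .negSucc 3, .ofNat 6,
  .negSucc 5, .ofNat 3, .negSucc 4, .ofNat 5, .negSucc 0, .ofNat 6, .negSucc 7, .negSucc 15, .ofNat 8,
  .ofNat 3, .negSucc 1, .ofNat 9, .ofNat 3, .negSucc 8, .ofNat 6, .ofNat 4, .ofNat 9, .ofNat 3, .ofNat 0,
  .negSucc 1, .ofNat 0, .ofNat 0, .negSucc 2, .ofNat 2, .ofNat 1, .negSucc 8, .ofNat 9, .ofNat 0,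
  .negSucc 11, .negSucc 5, .ofNat 3, .negSucc 2, .ofNat 3, .negSucc 3, .ofNat 0, .ofNat 10, .ofNat 0,
  .ofNat 12, .ofNat 4, .ofNat 9, .ofNat 0, .ofNat 0, .ofNat 4, .ofNat 0, .negSucc 3, .ofNat 6, .negSucc 8,
  .ofNat 0, .negSucc 1, .negSucc 8, .negSucc 8, .ofNat 3, .ofNat 0, .ofNat 0, .ofNat 0, .negSucc 5, .ofNat 0,
  .negSucc 3, .ofNat 0, .ofNat 0, .negSucc 7, .ofNat 0, .ofNat 0, .ofNat 0, .negSucc 10, .ofNat 9, .ofNat 0,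
  .ofNat 0, .ofNat 3, .ofNat 0, .ofNat 6, .ofNat 6, .negSucc 5, .ofNat 6, .negSucc 5, .negSucc 1, .ofNat 0,
  .ofNat 0, .ofNat 0, .ofNat 6, .ofNat 0, .ofNat 0, .ofNat 0, .negSucc 5, .ofNat 8]

/-- the values at the type 61 -/
def cT61 : List ℤ :=
  [.ofNat 1, .ofNat 3, .ofNat 2, .ofNat 2, .negSucc 1, .negSucc 0, .negSucc 0, .ofNat 5, .ofNat 0, .ofNat 1,
  .negSucc 2, .ofNat 1, .ofNat 2, .ofNat 1, .ofNat 2, .ofNat 2, .ofNat 4, .ofNat 2, .ofNat 0, .ofNat 8,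
  .negSucc 2, .negSucc 2, .negSucc 0, .ofNat 4, .negSucc 3, .ofNat 0, .negSucc 2, .ofNat 0, .ofNat 4,
  .negSucc 2, .negSucc 1, .ofNat 0, .ofNat 0, .negSucc 0, .negSucc 2, .negSucc 3, .ofNat 0, .negSucc 3,
  .ofNat 0, .ofNat 6, .negSucc 1, .ofNat 0, .ofNat 3, .ofNat 0, .ofNat 2, .negSucc 2, .ofNat 3, .negSucc 3,
  .ofNat 0, .ofNat 0, .ofNat 0, .ofNat 0, .ofNat 0, .ofNat 2, .ofNat 2, .ofNat 3, .negSucc 2, .ofNat 4,
  .ofNat 0, .negSucc 0, .ofNat 1, .ofNat 0, .ofNat 2, .ofNat 0, .negSucc 5, .negSucc 2, .negSucc 1, .ofNat 0,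
  .ofNat 0, .ofNat 0, .ofNat 3, .ofNat 0, .negSucc 2, .ofNat 1, .negSucc 2, .ofNat 6, .ofNat 3, .negSucc 2,
  .ofNat 0, .ofNat 0, .negSucc 1, .negSucc 7, .ofNat 0, .ofNat 0, .ofNat 4, .negSucc 3, .ofNat 6, .ofNat 0,
  .ofNat 0, .ofNat 0, .ofNat 0, .ofNat 0, .negSucc 5, .ofNat 4]

/-- the values at the type 62 -/
def cT62 : List ℤ :=
  [.ofNat 1, .negSucc 2, .ofNat 8, .negSucc 0, .ofNat 7, .negSucc 3, .ofNat 5, .negSucc 3, .ofNat 6,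
  .negSucc 1, .negSucc 8, .negSucc 4, .ofNat 5, .ofNat 7, .ofNat 2, .negSucc 3, .ofNat 4, .negSucc 3,
  .ofNat 3, .ofNat 2, .negSucc 2, .ofNat 3, .negSucc 0, .negSucc 1, .negSucc 3, .negSucc 2, .negSucc 8,
  .ofNat 0, .negSucc 1, .ofNat 0, .ofNat 4, .negSucc 2, .negSucc 5, .ofNat 5, .ofNat 3, .ofNat 5, .ofNat 0,
  .negSucc 3, .negSucc 5, .ofNat 3, .ofNat 1, .ofNat 3, .ofNat 0, .ofNat 0, .ofNat 2, .ofNat 0, .ofNat 0,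
  .negSucc 3, .negSucc 2, .ofNat 0, .ofNat 0, .ofNat 0, .ofNat 0, .ofNat 8, .ofNat 2, .ofNat 3, .ofNat 0,
  .negSucc 1, .ofNat 3, .negSucc 0, .negSucc 4, .ofNat 0, .negSucc 3, .ofNat 0, .ofNat 6, .ofNat 0,
  .negSucc 7, .ofNat 0, .ofNat 0, .ofNat 0, .ofNat 0, .ofNat 0, .ofNat 0, .ofNat 1, .negSucc 2, .ofNat 0,
  .ofNat 0, .ofNat 3, .ofNat 0, .ofNat 6, .negSucc 1, .ofNat 10, .ofNat 6, .negSucc 5, .negSucc 1, .ofNat 8,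
  .ofNat 0, .ofNat 0, .ofNat 6, .ofNat 0, .ofNat 0, .ofNat 0, .negSucc 5, .negSucc 7]

/-- the values at the type 63 -/
def cT63 : List ℤ :=
  [.ofNat 1, .ofNat 0, .ofNat 1, .negSucc 1, .ofNat 1, .ofNat 0, .negSucc 0, .negSucc 0, .ofNat 0, .ofNat 0,
  .ofNat 0, .negSucc 1, .ofNat 2, .negSucc 0, .ofNat 0, .ofNat 1, .negSucc 0, .negSucc 0, .ofNat 0, .ofNat 1,
  .ofNat 0, .ofNat 0, .ofNat 0, .ofNat 0, .ofNat 1, .ofNat 0, .ofNat 0, .ofNat 0, .ofNat 1, .ofNat 0,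
  .ofNat 0, .ofNat 0, .ofNat 2, .ofNat 1, .ofNat 0, .ofNat 0, .ofNat 0, .ofNat 0, .ofNat 0, .ofNat 0,
  .ofNat 0, .ofNat 0, .ofNat 2, .ofNat 0, .negSucc 1, .ofNat 0, .ofNat 0, .ofNat 1, .ofNat 0, .ofNat 0,
  .ofNat 0, .negSucc 1, .ofNat 0, .negSucc 0, .ofNat 0, .ofNat 0, .ofNat 0, .ofNat 1, .ofNat 0, .ofNat 0,
  .ofNat 0, .ofNat 0, .ofNat 0, .ofNat 0, .ofNat 0, .ofNat 0, .negSucc 0, .ofNat 0, .ofNat 0, .negSucc 1,
  .ofNat 0, .ofNat 0, .ofNat 0, .ofNat 1, .ofNat 0, .ofNat 0, .ofNat 0, .ofNat 0, .ofNat 0, .ofNat 0,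
  .ofNat 0, .ofNat 0, .ofNat 0, .ofNat 0, .negSucc 1, .ofNat 0, .ofNat 0, .ofNat 0, .ofNat 0, .ofNat 0,
  .ofNat 0, .ofNat 0, .ofNat 0, .ofNat 2]

/-- the values at the type 64 -/
def cT64 : List ℤ :=
  [.ofNat 1, .negSucc 0, .ofNat 1, .ofNat 2, .ofNat 2, .negSucc 0, .negSucc 1, .ofNat 3, .ofNat 0, .ofNat 0,
  .negSucc 1, .ofNat 0, .negSucc 1, .negSucc 0, .ofNat 0, .ofNat 0, .negSucc 1, .ofNat 0, .ofNat 0, .ofNat 0,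
  .negSucc 1, .ofNat 3, .ofNat 1, .ofNat 0, .ofNat 0, .ofNat 0, .ofNat 2, .ofNat 0, .ofNat 0, .ofNat 1,
  .ofNat 0, .negSucc 0, .ofNat 0, .negSucc 0, .ofNat 0, .ofNat 0, .ofNat 0, .ofNat 0, .negSucc 1, .negSucc 1,
  .ofNat 0, .ofNat 0, .ofNat 2, .ofNat 1, .ofNat 0, .ofNat 2, .ofNat 0, .negSucc 0, .ofNat 0, .ofNat 1,
  .ofNat 2, .ofNat 0, .negSucc 0, .ofNat 0, .ofNat 0, .negSucc 0, .negSucc 1, .ofNat 0, .ofNat 0, .ofNat 0,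
  .ofNat 0, .negSucc 0, .ofNat 0, .negSucc 1, .ofNat 0, .negSucc 1, .ofNat 0, .ofNat 1, .ofNat 1, .ofNat 0,
  .negSucc 1, .ofNat 0, .ofNat 2, .ofNat 0, .ofNat 0, .ofNat 0, .ofNat 2, .ofNat 0, .ofNat 1, .ofNat 0,
  .ofNat 0, .ofNat 0, .ofNat 0, .ofNat 2, .ofNat 0, .ofNat 0, .ofNat 0, .negSucc 1, .ofNat 0, .ofNat 0,
  .ofNat 2, .ofNat 0, .negSucc 1, .ofNat 0]

/-- the values at the type 65 -/
def cT65 : List ℤ :=
  [.ofNat 1, .ofNat 1, .negSucc 0, .ofNat 0, .ofNat 0, .negSucc 0, .ofNat 0, .ofNat 1, .ofNat 0, .ofNat 0,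
  .ofNat 0, .ofNat 0, .ofNat 2, .ofNat 1, .negSucc 1, .negSucc 1, .ofNat 2, .ofNat 0, .ofNat 0, .ofNat 0,
  .negSucc 1, .ofNat 1, .ofNat 1, .ofNat 0, .ofNat 0, .ofNat 0, .ofNat 2, .ofNat 0, .ofNat 0, .negSucc 0,
  .ofNat 0, .ofNat 1, .ofNat 0, .ofNat 1, .ofNat 0, .ofNat 0, .ofNat 0, .ofNat 0, .ofNat 0, .negSucc 1,
  .ofNat 0, .ofNat 0, .ofNat 0, .negSucc 0, .ofNat 0, .ofNat 0, .ofNat 2, .ofNat 1, .ofNat 0, .negSucc 0,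
  .ofNat 0, .ofNat 0, .ofNat 1, .ofNat 0, .negSucc 1, .negSucc 0, .ofNat 0, .ofNat 0, .ofNat 0, .ofNat 0,
  .ofNat 0, .negSucc 0, .ofNat 0, .ofNat 2, .ofNat 0, .ofNat 0, .ofNat 0, .negSucc 0, .negSucc 0, .ofNat 0,
  .ofNat 0, .negSucc 1, .ofNat 0, .ofNat 0, .ofNat 2, .ofNat 0, .ofNat 2, .ofNat 0, .ofNat 1, .ofNat 0,
  .ofNat 0, .ofNat 0, .ofNat 0, .negSucc 1, .ofNat 0, .ofNat 0, .ofNat 0, .ofNat 2, .ofNat 0, .ofNat 0,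
  .negSucc 1, .ofNat 0, .negSucc 1, .ofNat 0]

/-- the values at the type 66 -/
def cT66 : List ℤ :=
  [.ofNat 1, .ofNat 2, .ofNat 2, .ofNat 3, .negSucc 2, .negSucc 0, .negSucc 0, .ofNat 0, .ofNat 1,
  .negSucc 1, .negSucc 0, .negSucc 0, .negSucc 0, .negSucc 0, .ofNat 0, .ofNat 4, .ofNat 2, .ofNat 0,
  .ofNat 0, .ofNat 0, .ofNat 0, .ofNat 0, .ofNat 1, .negSucc 2, .ofNat 0, .ofNat 3, .ofNat 0, .negSucc 3,
  .ofNat 0, .negSucc 0, .negSucc 4, .ofNat 0, .ofNat 0, .ofNat 3, .ofNat 0, .ofNat 0, .ofNat 0, .negSucc 1,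
  .ofNat 1, .ofNat 0, .ofNat 0, .ofNat 0, .ofNat 0, .ofNat 0, .ofNat 0, .ofNat 1, .ofNat 0, .ofNat 0,
  .ofNat 0, .ofNat 0, .ofNat 1, .ofNat 0, .ofNat 3, .negSucc 1, .ofNat 0, .ofNat 3, .ofNat 1, .ofNat 0,
  .ofNat 0, .ofNat 0, .ofNat 0, .ofNat 1, .ofNat 1, .negSucc 2, .ofNat 0, .negSucc 2, .ofNat 2, .negSucc 0,
  .ofNat 2, .ofNat 0, .ofNat 0, .ofNat 0, .negSucc 2, .negSucc 0, .ofNat 3, .negSucc 1, .ofNat 0, .ofNat 0,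
  .ofNat 0, .ofNat 0, .ofNat 0, .ofNat 6, .negSucc 1, .ofNat 0, .ofNat 0, .ofNat 6, .ofNat 0, .ofNat 0,
  .ofNat 2, .ofNat 0, .negSucc 1, .ofNat 0, .ofNat 0, .ofNat 0]

/-- the values at the type 67 -/
def cT67 : List ℤ :=
  [.ofNat 1, .negSucc 0, .negSucc 0, .ofNat 0, .ofNat 0, .ofNat 2, .ofNat 2, .ofNat 0, .negSucc 1, .ofNat 1,
  .negSucc 0, .ofNat 2, .ofNat 2, .negSucc 0, .ofNat 0, .ofNat 1, .negSucc 0, .ofNat 0, .ofNat 0, .ofNat 0,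
  .ofNat 0, .ofNat 0, .ofNat 1, .ofNat 0, .ofNat 0, .ofNat 0, .ofNat 0, .negSucc 0, .ofNat 0, .negSucc 0,
  .negSucc 1, .ofNat 0, .ofNat 0, .ofNat 0, .ofNat 0, .ofNat 0, .ofNat 0, .ofNat 1, .negSucc 1, .ofNat 0,
  .ofNat 0, .ofNat 0, .ofNat 0, .ofNat 0, .ofNat 0, .ofNat 1, .ofNat 0, .ofNat 0, .ofNat 0, .ofNat 0,
  .ofNat 1, .ofNat 0, .ofNat 0, .ofNat 1, .ofNat 0, .ofNat 0, .ofNat 1, .ofNat 0, .ofNat 0, .ofNat 0,
  .ofNat 0, .ofNat 1, .negSucc 1, .ofNat 0, .ofNat 0, .ofNat 0, .negSucc 0, .ofNat 2, .negSucc 0, .ofNat 0,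
  .ofNat 0, .ofNat 0, .ofNat 0, .negSucc 0, .ofNat 0, .ofNat 1, .ofNat 0, .ofNat 0, .ofNat 0, .ofNat 0,
  .ofNat 0, .ofNat 0, .negSucc 1, .ofNat 0, .ofNat 0, .ofNat 0, .ofNat 0, .ofNat 0, .ofNat 2, .ofNat 0,
  .negSucc 1, .ofNat 0, .ofNat 0, .ofNat 0]

/-- the values at the type 68 -/
def cT68 : List ℤ :=
  [.ofNat 1, .ofNat 1, .ofNat 0, .negSucc 0, .ofNat 0, .ofNat 0, .negSucc 0, .ofNat 0, .ofNat 0, .ofNat 0,
  .ofNat 0, .ofNat 0, .ofNat 0, .ofNat 0, .ofNat 0, .negSucc 0, .ofNat 0, .ofNat 0, .ofNat 0, .ofNat 0,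
  .ofNat 1, .ofNat 0, .ofNat 0, .ofNat 0, .ofNat 0, .ofNat 0, .ofNat 0, .ofNat 1, .ofNat 0, .ofNat 0,
  .ofNat 0, .ofNat 0, .ofNat 0, .ofNat 0, .ofNat 0, .ofNat 0, .negSucc 0, .ofNat 0, .ofNat 0, .ofNat 0,
  .ofNat 0, .ofNat 0, .ofNat 0, .ofNat 0, .ofNat 0, .ofNat 2, .ofNat 0, .ofNat 0, .ofNat 0, .ofNat 0,
  .ofNat 0, .ofNat 0, .negSucc 0, .ofNat 0, .ofNat 0, .ofNat 0, .ofNat 0, .ofNat 0, .ofNat 0, .ofNat 0,
  .ofNat 0, .ofNat 0, .ofNat 0, .ofNat 0, .ofNat 0, .ofNat 0, .ofNat 0, .ofNat 0, .ofNat 0, .ofNat 1,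
  .ofNat 0, .ofNat 0, .negSucc 1, .ofNat 0, .ofNat 0, .ofNat 0, .ofNat 0, .ofNat 0, .ofNat 0, .ofNat 0,
  .ofNat 0, .ofNat 0, .ofNat 0, .ofNat 0, .ofNat 1, .ofNat 0, .ofNat 0, .negSucc 0, .ofNat 2, .ofNat 0,
  .ofNat 0, .ofNat 0, .ofNat 0, .ofNat 0]

/-- the values at the type 69 -/
def cT69 : List ℤ :=
  [.ofNat 1, .negSucc 0, .ofNat 2, .ofNat 0, .ofNat 1, .negSucc 0, .ofNat 0, .ofNat 0, .ofNat 0, .ofNat 0,
  .ofNat 0, .ofNat 0, .ofNat 0, .negSucc 0, .negSucc 0, .ofNat 0, .ofNat 0, .ofNat 0, .ofNat 0, .negSucc 1,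
  .ofNat 1, .ofNat 0, .ofNat 0, .ofNat 0, .ofNat 0, .ofNat 0, .ofNat 0, .ofNat 0, .negSucc 0, .ofNat 0,
  .ofNat 0, .ofNat 1, .ofNat 0, .ofNat 0, .ofNat 0, .ofNat 0, .ofNat 1, .ofNat 1, .ofNat 0, .ofNat 0,
  .ofNat 0, .ofNat 0, .ofNat 0, .negSucc 1, .ofNat 1, .negSucc 0, .ofNat 0, .ofNat 0, .ofNat 0, .ofNat 0,
  .negSucc 0, .ofNat 0, .ofNat 0, .ofNat 0, .ofNat 0, .ofNat 1, .negSucc 0, .ofNat 0, .negSucc 0, .ofNat 0,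
  .ofNat 0, .ofNat 0, .ofNat 0, .ofNat 1, .ofNat 0, .negSucc 0, .ofNat 0, .ofNat 1, .ofNat 1, .ofNat 0,
  .ofNat 0, .ofNat 0, .negSucc 0, .ofNat 0, .ofNat 0, .ofNat 2, .ofNat 0, .ofNat 0, .ofNat 0, .negSucc 1,
  .ofNat 0, .ofNat 0, .ofNat 0, .ofNat 0, .ofNat 0, .ofNat 0, .ofNat 0, .ofNat 0, .ofNat 0, .ofNat 2,
  .ofNat 0, .ofNat 0, .ofNat 0, .ofNat 0]

/-- the values at the type 70 -/
def cT70 : List ℤ :=
  [.ofNat 1, .ofNat 0, .ofNat 0, .ofNat 0, .ofNat 0, .ofNat 0, .ofNat 0, .ofNat 0, .negSucc 0, .ofNat 0,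
  .ofNat 0, .ofNat 0, .ofNat 0, .ofNat 0, .ofNat 1, .ofNat 0, .ofNat 0, .ofNat 0, .ofNat 0, .ofNat 0,
  .ofNat 0, .ofNat 0, .ofNat 0, .ofNat 0, .ofNat 0, .ofNat 0, .ofNat 0, .negSucc 0, .ofNat 0, .ofNat 0,
  .ofNat 1, .ofNat 0, .ofNat 0, .ofNat 0, .ofNat 0, .ofNat 0, .ofNat 0, .ofNat 0, .ofNat 0, .ofNat 0,
  .ofNat 0, .ofNat 0, .ofNat 0, .ofNat 0, .ofNat 0, .ofNat 0, .ofNat 0, .ofNat 0, .ofNat 0, .ofNat 0,
  .ofNat 0, .ofNat 0, .ofNat 0, .ofNat 0, .ofNat 0, .ofNat 0, .ofNat 0, .negSucc 0, .ofNat 0, .ofNat 0,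
  .ofNat 0, .ofNat 0, .ofNat 1, .ofNat 0, .ofNat 0, .ofNat 0, .ofNat 0, .ofNat 0, .ofNat 0, .ofNat 0,
  .ofNat 0, .negSucc 0, .ofNat 0, .ofNat 0, .ofNat 0, .ofNat 0, .ofNat 0, .ofNat 0, .negSucc 0, .ofNat 0,
  .negSucc 0, .ofNat 0, .ofNat 0, .ofNat 0, .ofNat 0, .ofNat 0, .ofNat 0, .ofNat 0, .ofNat 0, .ofNat 0,
  .ofNat 0, .ofNat 2, .ofNat 0, .ofNat 0]

/-- the values at the type 71 -/
def cT71 : List ℤ :=
  [.ofNat 1, .ofNat 1, .negSucc 0, .ofNat 1, .ofNat 0, .ofNat 0, .ofNat 1, .negSucc 0, .ofNat 0, .negSucc 1,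
  .negSucc 0, .ofNat 0, .ofNat 0, .ofNat 0, .ofNat 0, .ofNat 0, .ofNat 1, .ofNat 1, .ofNat 0, .ofNat 0,
  .ofNat 0, .ofNat 1, .ofNat 0, .ofNat 1, .ofNat 2, .negSucc 1, .negSucc 0, .ofNat 0, .ofNat 0, .ofNat 1,
  .ofNat 0, .negSucc 0, .ofNat 0, .ofNat 0, .ofNat 1, .negSucc 1, .ofNat 1, .ofNat 0, .ofNat 0, .ofNat 0,
  .ofNat 1, .negSucc 0, .ofNat 0, .ofNat 0, .ofNat 0, .ofNat 0, .ofNat 0, .ofNat 0, .ofNat 1, .negSucc 1,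
  .ofNat 0, .negSucc 0, .negSucc 0, .ofNat 0, .ofNat 0, .ofNat 0, .ofNat 0, .ofNat 0, .negSucc 0, .ofNat 0,
  .ofNat 1, .ofNat 0, .ofNat 0, .negSucc 0, .ofNat 0, .ofNat 0, .ofNat 0, .ofNat 0, .ofNat 0, .ofNat 0,
  .ofNat 0, .ofNat 0, .ofNat 0, .ofNat 0, .ofNat 0, .ofNat 0, .ofNat 0, .ofNat 0, .ofNat 0, .ofNat 0,
  .ofNat 2, .ofNat 0, .ofNat 0, .ofNat 0, .ofNat 0, .ofNat 0, .ofNat 0, .ofNat 0, .ofNat 0, .ofNat 2,
  .ofNat 0, .ofNat 0, .ofNat 0, .ofNat 0]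

/-- the values at the type 72 -/
def cT72 : List ℤ :=
  [.ofNat 1, .negSucc 0, .ofNat 2, .ofNat 3, .negSucc 2, .ofNat 1, .ofNat 0, .negSucc 1, .ofNat 0, .ofNat 1,
  .ofNat 0, .negSucc 1, .ofNat 0, .ofNat 0, .negSucc 5, .ofNat 0, .ofNat 0, .negSucc 0, .negSucc 2, .ofNat 2,
  .ofNat 0, .ofNat 2, .ofNat 0, .ofNat 0, .ofNat 1, .ofNat 0, .ofNat 0, .ofNat 0, .ofNat 6, .negSucc 0,
  .ofNat 0, .ofNat 2, .ofNat 0, .ofNat 0, .negSucc 0, .negSucc 2, .ofNat 0, .ofNat 0, .ofNat 0, .negSucc 1,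
  .ofNat 1, .negSucc 1, .ofNat 0, .ofNat 0, .ofNat 0, .ofNat 0, .ofNat 0, .ofNat 0, .ofNat 0, .ofNat 3,
  .negSucc 0, .ofNat 2, .negSucc 2, .ofNat 0, .ofNat 6, .ofNat 0, .ofNat 0, .negSucc 5, .ofNat 3, .ofNat 0,
  .ofNat 0, .negSucc 0, .ofNat 0, .ofNat 3, .ofNat 0, .ofNat 0, .ofNat 0, .ofNat 1, .negSucc 1, .ofNat 0,
  .ofNat 0, .ofNat 0, .ofNat 0, .ofNat 0, .ofNat 0, .ofNat 0, .negSucc 2, .ofNat 1, .ofNat 0, .ofNat 0,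
  .ofNat 2, .ofNat 2, .ofNat 0, .ofNat 0, .ofNat 0, .ofNat 0, .ofNat 2, .ofNat 0, .ofNat 0, .ofNat 0,
  .ofNat 2, .ofNat 0, .negSucc 1, .ofNat 0]

/-- the values at the type 73 -/
def cT73 : List ℤ :=
  [.ofNat 1, .negSucc 0, .ofNat 2, .ofNat 3, .negSucc 2, .ofNat 1, .ofNat 0, .negSucc 1, .ofNat 0, .ofNat 1,
  .ofNat 0, .negSucc 1, .ofNat 0, .ofNat 0, .ofNat 6, .ofNat 0, .ofNat 0, .negSucc 0, .negSucc 2, .ofNat 2,
  .ofNat 0, .ofNat 2, .ofNat 0, .ofNat 0, .ofNat 1, .ofNat 0, .ofNat 0, .ofNat 0, .negSucc 5, .negSucc 0,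
  .ofNat 0, .ofNat 2, .ofNat 0, .ofNat 0, .negSucc 0, .negSucc 2, .ofNat 0, .ofNat 0, .ofNat 0, .negSucc 1,
  .ofNat 1, .negSucc 1, .ofNat 0, .ofNat 0, .ofNat 0, .ofNat 0, .ofNat 0, .ofNat 0, .ofNat 0, .ofNat 3,
  .negSucc 0, .ofNat 2, .negSucc 2, .ofNat 0, .negSucc 5, .ofNat 0, .ofNat 0, .ofNat 6, .ofNat 3, .ofNat 0,
  .ofNat 0, .negSucc 0, .ofNat 0, .ofNat 3, .ofNat 0, .ofNat 0, .ofNat 0, .ofNat 1, .negSucc 1, .ofNat 0,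
  .ofNat 0, .ofNat 0, .ofNat 0, .ofNat 0, .ofNat 0, .ofNat 0, .negSucc 2, .ofNat 1, .ofNat 0, .ofNat 0,
  .ofNat 2, .ofNat 2, .ofNat 0, .ofNat 0, .ofNat 0, .ofNat 0, .ofNat 2, .ofNat 0, .ofNat 0, .ofNat 0,
  .ofNat 2, .ofNat 0, .negSucc 1, .ofNat 0]

/-- the values at the type 74 -/
def cT74 : List ℤ :=
  [.ofNat 1, .negSucc 0, .ofNat 0, .negSucc 0, .ofNat 0, .ofNat 1, .negSucc 0, .ofNat 0, .ofNat 1, .ofNat 0,
  .ofNat 0, .ofNat 0, .negSucc 0, .ofNat 0, .ofNat 0, .ofNat 0, .ofNat 0, .ofNat 1, .ofNat 1, .ofNat 1,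
  .ofNat 0, .negSucc 0, .ofNat 0, .ofNat 0, .ofNat 0, .ofNat 0, .ofNat 0, .ofNat 0, .ofNat 0, .ofNat 0,
  .ofNat 0, .negSucc 0, .ofNat 0, .ofNat 0, .ofNat 0, .ofNat 0, .ofNat 1, .ofNat 0, .negSucc 0, .negSucc 0,
  .ofNat 0, .negSucc 0, .ofNat 0, .negSucc 0, .ofNat 0, .ofNat 0, .ofNat 1, .ofNat 0, .ofNat 0, .negSucc 0,
  .ofNat 0, .ofNat 1, .ofNat 1, .ofNat 0, .ofNat 0, .ofNat 0, .ofNat 0, .ofNat 0, .ofNat 1, .ofNat 1,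
  .ofNat 0, .ofNat 0, .ofNat 0, .ofNat 0, .ofNat 0, .ofNat 0, .ofNat 0, .ofNat 0, .ofNat 0, .ofNat 0,
  .ofNat 0, .ofNat 0, .ofNat 0, .ofNat 0, .ofNat 0, .ofNat 0, .negSucc 0, .ofNat 0, .ofNat 0, .ofNat 0,
  .ofNat 0, .ofNat 0, .ofNat 0, .ofNat 0, .ofNat 0, .ofNat 0, .ofNat 0, .ofNat 0, .ofNat 0, .ofNat 0,
  .ofNat 0, .ofNat 0, .ofNat 0, .ofNat 0]

/-- the values at the type 75 -/
def cT75 : List ℤ :=
  [.ofNat 1, .negSucc 0, .negSucc 0, .ofNat 0, .ofNat 0, .ofNat 1, .ofNat 0, .ofNat 1, .ofNat 0, .ofNat 1,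
  .ofNat 0, .ofNat 1, .ofNat 0, .ofNat 0, .ofNat 0, .ofNat 0, .ofNat 0, .negSucc 0, .ofNat 0, .negSucc 0,
  .ofNat 0, .negSucc 0, .ofNat 0, .ofNat 0, .ofNat 1, .ofNat 0, .ofNat 0, .ofNat 0, .ofNat 0, .negSucc 0,
  .ofNat 0, .negSucc 0, .ofNat 0, .ofNat 0, .negSucc 0, .ofNat 0, .ofNat 0, .ofNat 0, .ofNat 0, .ofNat 1,
  .ofNat 1, .ofNat 1, .ofNat 0, .ofNat 0, .ofNat 0, .ofNat 0, .ofNat 0, .ofNat 0, .ofNat 0, .ofNat 0,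
  .negSucc 0, .negSucc 0, .ofNat 0, .ofNat 0, .ofNat 0, .ofNat 0, .ofNat 0, .ofNat 0, .ofNat 0, .ofNat 0,
  .ofNat 0, .negSucc 0, .ofNat 0, .ofNat 0, .ofNat 0, .ofNat 0, .ofNat 0, .negSucc 1, .ofNat 1, .ofNat 0,
  .ofNat 0, .ofNat 0, .ofNat 0, .ofNat 0, .ofNat 0, .ofNat 0, .ofNat 0, .ofNat 1, .ofNat 0, .ofNat 0,
  .ofNat 2, .ofNat 2, .ofNat 0, .ofNat 0, .ofNat 0, .ofNat 0, .ofNat 2, .ofNat 0, .ofNat 0, .ofNat 0,
  .ofNat 2, .ofNat 0, .negSucc 1, .ofNat 0]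

/-- the values at the type 76 -/
def cT76 : List ℤ :=
  [.ofNat 1, .ofNat 0, .ofNat 0, .ofNat 1, .ofNat 0, .negSucc 0, .ofNat 0, .ofNat 0, .ofNat 0, .ofNat 0,
  .ofNat 1, .ofNat 0, .ofNat 0, .ofNat 0, .ofNat 0, .ofNat 0, .ofNat 0, .ofNat 0, .ofNat 0, .ofNat 0,
  .ofNat 0, .negSucc 0, .ofNat 0, .ofNat 0, .negSucc 0, .ofNat 0, .ofNat 0, .ofNat 0, .ofNat 0, .ofNat 0,
  .ofNat 1, .ofNat 0, .ofNat 1, .ofNat 0, .ofNat 0, .ofNat 0, .ofNat 0, .ofNat 0, .ofNat 0, .ofNat 0,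
  .ofNat 0, .ofNat 0, .ofNat 0, .ofNat 0, .negSucc 0, .ofNat 0, .ofNat 0, .ofNat 0, .ofNat 0, .ofNat 0,
  .ofNat 1, .ofNat 0, .ofNat 0, .ofNat 0, .ofNat 0, .ofNat 0, .ofNat 0, .ofNat 0, .ofNat 0, .ofNat 0,
  .ofNat 0, .ofNat 1, .negSucc 0, .ofNat 0, .ofNat 0, .ofNat 0, .ofNat 0, .ofNat 0, .ofNat 0, .ofNat 0,
  .ofNat 0, .ofNat 0, .ofNat 0, .ofNat 0, .ofNat 0, .ofNat 0, .ofNat 0, .ofNat 0, .ofNat 0, .ofNat 0,
  .ofNat 2, .negSucc 1, .negSucc 1, .negSucc 1, .ofNat 0, .ofNat 2, .ofNat 0, .ofNat 0, .ofNat 0, .ofNat 0,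
  .ofNat 2, .ofNat 0, .ofNat 0, .negSucc 1]

/-- the values at the type 77 -/
def cT77 : List ℤ :=
  [.ofNat 1, .ofNat 1, .ofNat 0, .ofNat 2, .negSucc 0, .ofNat 0, .ofNat 0, .negSucc 0, .ofNat 0, .ofNat 1,
  .negSucc 0, .negSucc 1, .ofNat 0, .ofNat 1, .negSucc 0, .ofNat 1, .negSucc 0, .ofNat 1, .ofNat 2,
  .negSucc 0, .ofNat 0, .ofNat 0, .ofNat 0, .ofNat 1, .ofNat 0, .ofNat 0, .ofNat 0, .ofNat 1, .ofNat 1,
  .ofNat 0, .ofNat 0, .ofNat 0, .ofNat 2, .negSucc 0, .negSucc 1, .ofNat 1, .ofNat 0, .ofNat 0, .ofNat 0,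
  .ofNat 0, .ofNat 2, .ofNat 0, .negSucc 1, .ofNat 0, .ofNat 0, .negSucc 0, .ofNat 0, .negSucc 0, .ofNat 0,
  .ofNat 0, .ofNat 0, .negSucc 1, .ofNat 0, .ofNat 0, .negSucc 0, .ofNat 0, .ofNat 0, .ofNat 1, .ofNat 0,
  .ofNat 2, .negSucc 0, .ofNat 0, .negSucc 1, .ofNat 0, .ofNat 1, .negSucc 0, .ofNat 0, .ofNat 0, .ofNat 0,
  .ofNat 2, .ofNat 0, .ofNat 0, .ofNat 0, .ofNat 0, .ofNat 0, .negSucc 0, .ofNat 0, .ofNat 0, .ofNat 0,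
  .ofNat 0, .negSucc 3, .ofNat 0, .ofNat 0, .ofNat 0, .ofNat 0, .negSucc 1, .ofNat 0, .ofNat 0, .ofNat 0,
  .ofNat 0, .ofNat 0, .ofNat 2, .ofNat 0, .ofNat 0]

/-- the values at the type 78 -/
def cT78 : List ℤ :=
  [.ofNat 1, .ofNat 1, .ofNat 0, .negSucc 0, .negSucc 0, .ofNat 0, .ofNat 0, .negSucc 0, .ofNat 0, .ofNat 1,
  .negSucc 0, .ofNat 1, .ofNat 0, .ofNat 1, .negSucc 0, .ofNat 1, .negSucc 0, .ofNat 1, .negSucc 0,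
  .negSucc 0, .ofNat 0, .ofNat 0, .ofNat 0, .ofNat 1, .ofNat 0, .ofNat 0, .ofNat 0, .ofNat 1, .ofNat 1,
  .ofNat 0, .ofNat 0, .ofNat 0, .negSucc 0, .negSucc 0, .ofNat 1, .ofNat 1, .ofNat 0, .ofNat 0, .ofNat 0,
  .ofNat 0, .negSucc 0, .ofNat 0, .ofNat 1, .ofNat 0, .ofNat 0, .negSucc 0, .ofNat 0, .negSucc 0, .ofNat 0,
  .ofNat 0, .ofNat 0, .ofNat 1, .ofNat 0, .ofNat 0, .negSucc 0, .ofNat 0, .ofNat 0, .ofNat 1, .ofNat 0,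
  .negSucc 0, .negSucc 0, .ofNat 0, .ofNat 1, .ofNat 0, .ofNat 1, .negSucc 0, .ofNat 0, .ofNat 0, .ofNat 0,
  .negSucc 0, .ofNat 0, .ofNat 0, .ofNat 0, .ofNat 0, .ofNat 0, .negSucc 0, .ofNat 0, .ofNat 0, .ofNat 0,
  .ofNat 0, .ofNat 2, .ofNat 0, .ofNat 0, .ofNat 0, .ofNat 0, .ofNat 1, .ofNat 0, .ofNat 0, .ofNat 0,
  .ofNat 0, .ofNat 0, .ofNat 2, .ofNat 0, .ofNat 0]

/-- the values at the type 79 -/
def cT79 : List ℤ :=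
  [.ofNat 1, .negSucc 0, .ofNat 0, .ofNat 0, .negSucc 0, .ofNat 0, .ofNat 1, .ofNat 0, .ofNat 0, .ofNat 1,
  .ofNat 1, .ofNat 0, .ofNat 0, .ofNat 1, .ofNat 0, .ofNat 0, .ofNat 0, .ofNat 0, .ofNat 0, .ofNat 0,
  .ofNat 0, .ofNat 0, .negSucc 0, .negSucc 0, .ofNat 0, .negSucc 0, .ofNat 0, .ofNat 0, .ofNat 0, .ofNat 1,
  .ofNat 0, .ofNat 0, .ofNat 0, .ofNat 1, .ofNat 0, .ofNat 0, .negSucc 0, .ofNat 0, .ofNat 0, .ofNat 0,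
  .ofNat 0, .ofNat 0, .ofNat 0, .ofNat 0, .ofNat 0, .ofNat 1, .ofNat 0, .ofNat 0, .ofNat 0, .ofNat 0,
  .negSucc 0, .ofNat 0, .ofNat 0, .ofNat 0, .ofNat 0, .ofNat 1, .negSucc 0, .ofNat 0, .ofNat 0, .ofNat 0,
  .ofNat 0, .negSucc 0, .ofNat 0, .negSucc 0, .ofNat 0, .negSucc 0, .ofNat 0, .ofNat 0, .ofNat 0, .ofNat 0,
  .ofNat 0, .ofNat 1, .ofNat 1, .ofNat 1, .ofNat 1, .ofNat 0, .ofNat 0, .ofNat 0, .ofNat 0, .ofNat 0,
  .ofNat 0, .negSucc 1, .ofNat 0, .ofNat 0, .ofNat 0, .ofNat 0, .ofNat 0, .ofNat 0, .ofNat 0, .ofNat 0,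
  .negSucc 1, .ofNat 0, .ofNat 0, .ofNat 0]

/-- the values at the type 80 -/
def cT80 : List ℤ :=
  [.ofNat 1, .ofNat 0, .negSucc 0, .ofNat 0, .ofNat 0, .ofNat 0, .ofNat 0, .ofNat 0, .ofNat 0, .ofNat 0,
  .ofNat 0, .ofNat 0, .ofNat 0, .ofNat 1, .ofNat 0, .ofNat 0, .ofNat 0, .ofNat 0, .ofNat 0, .ofNat 0,
  .ofNat 0, .ofNat 0, .ofNat 0, .ofNat 0, .ofNat 0, .ofNat 0, .ofNat 0, .ofNat 0, .ofNat 0, .ofNat 0,
  .ofNat 0, .ofNat 0, .negSucc 0, .ofNat 0, .ofNat 0, .ofNat 0, .ofNat 0, .ofNat 0, .ofNat 0, .ofNat 0,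
  .ofNat 0, .ofNat 0, .ofNat 0, .ofNat 0, .ofNat 0, .ofNat 0, .ofNat 0, .ofNat 0, .ofNat 0, .ofNat 1,
  .ofNat 0, .ofNat 0, .ofNat 0, .negSucc 0, .ofNat 0, .ofNat 0, .ofNat 0, .ofNat 0, .ofNat 0, .ofNat 0,
  .ofNat 0, .ofNat 1, .ofNat 0, .ofNat 0, .ofNat 0, .ofNat 0, .ofNat 0, .ofNat 0, .ofNat 0, .negSucc 0,
  .ofNat 0, .ofNat 0, .ofNat 0, .ofNat 0, .ofNat 0, .ofNat 0, .ofNat 0, .ofNat 0, .ofNat 0, .ofNat 0,
  .negSucc 1, .ofNat 0, .ofNat 0, .ofNat 0, .ofNat 0, .ofNat 0, .ofNat 0, .ofNat 0, .ofNat 0, .ofNat 2,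
  .ofNat 1, .negSucc 1, .ofNat 0, .ofNat 0]

/-- the values at the type 81 -/
def cT81 : List ℤ :=
  [.ofNat 1, .ofNat 0, .ofNat 0, .ofNat 0, .negSucc 0, .ofNat 0, .ofNat 0, .ofNat 0, .negSucc 0, .ofNat 0,
  .ofNat 0, .ofNat 0, .ofNat 0, .ofNat 1, .ofNat 0, .ofNat 0, .negSucc 0, .ofNat 0, .ofNat 1, .ofNat 0,
  .ofNat 0, .ofNat 1, .ofNat 0, .negSucc 0, .ofNat 0, .ofNat 0, .negSucc 0, .ofNat 1, .negSucc 0, .negSucc 0,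
  .ofNat 0, .ofNat 1, .ofNat 0, .ofNat 0, .ofNat 0, .ofNat 0, .ofNat 1, .negSucc 0, .ofNat 1, .ofNat 0,
  .ofNat 0, .ofNat 0, .ofNat 1, .ofNat 0, .ofNat 0, .ofNat 0, .negSucc 0, .ofNat 1, .negSucc 0, .negSucc 0,
  .ofNat 0, .ofNat 0, .ofNat 1, .ofNat 1, .ofNat 1, .negSucc 0, .ofNat 0, .ofNat 0, .ofNat 0, .ofNat 0,
  .ofNat 0, .ofNat 0, .ofNat 0, .ofNat 0, .negSucc 0, .ofNat 0, .ofNat 1, .ofNat 0, .ofNat 0, .ofNat 0,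
  .negSucc 0, .ofNat 0, .ofNat 0, .ofNat 0, .negSucc 0, .ofNat 0, .ofNat 0, .ofNat 0, .ofNat 1, .ofNat 0,
  .ofNat 0, .ofNat 0, .ofNat 0, .ofNat 0, .ofNat 0, .ofNat 0, .ofNat 0, .ofNat 0, .ofNat 0, .ofNat 0,
  .ofNat 0, .ofNat 0, .ofNat 0, .ofNat 0]

/-- the values at the type 82 -/
def cT82 : List ℤ :=
  [.ofNat 1, .ofNat 1, .ofNat 1, .ofNat 1, .negSucc 0, .negSucc 2, .negSucc 0, .ofNat 2, .ofNat 0, .ofNat 0,
  .ofNat 1, .ofNat 2, .ofNat 1, .negSucc 0, .negSucc 1, .ofNat 0, .negSucc 0, .ofNat 0, .ofNat 2, .ofNat 0,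
  .negSucc 0, .ofNat 0, .ofNat 1, .ofNat 0, .ofNat 0, .ofNat 0, .negSucc 0, .ofNat 0, .negSucc 1, .ofNat 1,
  .negSucc 1, .negSucc 0, .ofNat 0, .ofNat 3, .ofNat 0, .ofNat 0, .ofNat 0, .ofNat 0, .negSucc 0, .ofNat 2,
  .ofNat 0, .ofNat 0, .ofNat 1, .negSucc 0, .ofNat 0, .ofNat 1, .ofNat 0, .negSucc 0, .ofNat 2, .ofNat 1,
  .negSucc 0, .ofNat 0, .ofNat 0, .ofNat 0, .ofNat 0, .negSucc 0, .ofNat 1, .ofNat 0, .ofNat 0, .ofNat 0,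
  .ofNat 0, .negSucc 0, .ofNat 2, .ofNat 0, .ofNat 2, .ofNat 1, .ofNat 0, .ofNat 1, .negSucc 1, .ofNat 0,
  .ofNat 1, .ofNat 0, .ofNat 1, .ofNat 0, .negSucc 1, .negSucc 1, .negSucc 1, .ofNat 0, .negSucc 0, .ofNat 0,
  .ofNat 0, .ofNat 0, .ofNat 0, .negSucc 1, .ofNat 0, .negSucc 3, .ofNat 0, .ofNat 2, .ofNat 0, .ofNat 0,
  .ofNat 2, .ofNat 0, .ofNat 2, .ofNat 0]

/-- the values at the type 83 -/
def cT83 : List ℤ :=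
  [.ofNat 1, .ofNat 0, .negSucc 0, .ofNat 0, .ofNat 1, .ofNat 0, .ofNat 0, .ofNat 0, .ofNat 0, .ofNat 0,
  .ofNat 0, .ofNat 0, .ofNat 0, .negSucc 0, .negSucc 0, .ofNat 0, .ofNat 0, .ofNat 0, .ofNat 0, .ofNat 1,
  .ofNat 1, .ofNat 0, .ofNat 0, .ofNat 0, .ofNat 0, .ofNat 0, .ofNat 0, .ofNat 0, .negSucc 0, .ofNat 0,
  .ofNat 0, .ofNat 1, .ofNat 0, .ofNat 0, .ofNat 0, .ofNat 0, .ofNat 0, .ofNat 0, .ofNat 0, .ofNat 0,
  .ofNat 0, .ofNat 0, .ofNat 0, .ofNat 1, .ofNat 1, .negSucc 0, .ofNat 0, .ofNat 0, .ofNat 0, .ofNat 0,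
  .ofNat 0, .ofNat 0, .ofNat 0, .ofNat 0, .ofNat 0, .ofNat 1, .negSucc 0, .ofNat 0, .ofNat 0, .ofNat 0,
  .ofNat 0, .ofNat 0, .ofNat 0, .ofNat 0, .ofNat 0, .ofNat 0, .ofNat 0, .ofNat 0, .ofNat 0, .ofNat 0,
  .ofNat 0, .ofNat 0, .ofNat 0, .ofNat 0, .ofNat 0, .negSucc 0, .ofNat 0, .ofNat 0, .ofNat 0, .ofNat 1,
  .ofNat 0, .ofNat 0, .ofNat 0, .ofNat 0, .ofNat 0, .ofNat 0, .ofNat 0, .ofNat 0, .ofNat 0, .negSucc 0,
  .ofNat 0, .ofNat 0, .ofNat 0, .ofNat 0]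

/-- the values at the type 84 -/
def cT84 : List ℤ :=
  [.ofNat 1, .ofNat 0, .negSucc 0, .ofNat 1, .ofNat 1, .negSucc 0, .ofNat 0, .ofNat 0, .ofNat 1, .ofNat 0,
  .ofNat 0, .negSucc 0, .negSucc 0, .ofNat 0, .ofNat 0, .ofNat 1, .negSucc 0, .ofNat 0, .ofNat 0, .ofNat 0,
  .ofNat 0, .ofNat 0, .ofNat 0, .ofNat 1, .ofNat 0, .ofNat 0, .ofNat 0, .negSucc 0, .ofNat 0, .ofNat 0,
  .negSucc 0, .ofNat 0, .ofNat 0, .negSucc 0, .ofNat 0, .ofNat 0, .negSucc 0, .ofNat 1, .ofNat 1, .ofNat 0,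
  .ofNat 0, .ofNat 0, .ofNat 0, .ofNat 0, .ofNat 0, .ofNat 1, .ofNat 0, .ofNat 0, .ofNat 0, .ofNat 0,
  .negSucc 0, .ofNat 0, .ofNat 1, .ofNat 1, .ofNat 0, .negSucc 0, .ofNat 0, .ofNat 0, .ofNat 0, .ofNat 0,
  .ofNat 0, .ofNat 0, .ofNat 1, .ofNat 1, .ofNat 0, .ofNat 1, .negSucc 0, .negSucc 0, .negSucc 0, .ofNat 0,
  .ofNat 0, .ofNat 1, .ofNat 0, .ofNat 0, .negSucc 0, .ofNat 1, .ofNat 0, .ofNat 0, .ofNat 0, .ofNat 0,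
  .ofNat 0, .ofNat 0, .ofNat 0, .ofNat 0, .ofNat 0, .ofNat 2, .ofNat 0, .ofNat 0, .ofNat 0, .ofNat 0,
  .negSucc 1, .ofNat 0, .ofNat 0, .ofNat 0]

/-- the values at the type 85 -/
def cT85 : List ℤ :=
  [.ofNat 1, .negSucc 1, .ofNat 0, .ofNat 2, .negSucc 0, .ofNat 2, .ofNat 1, .ofNat 3, .negSucc 0,
  .negSucc 1, .ofNat 0, .ofNat 0, .negSucc 1, .negSucc 0, .negSucc 0, .negSucc 2, .ofNat 0, .ofNat 0,
  .negSucc 0, .ofNat 1, .ofNat 0, .negSucc 0, .negSucc 0, .ofNat 1, .ofNat 1, .ofNat 0, .negSucc 2, .ofNat 0,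
  .ofNat 2, .ofNat 0, .ofNat 0, .ofNat 1, .ofNat 2, .ofNat 0, .ofNat 2, .ofNat 1, .ofNat 0, .ofNat 0,
  .ofNat 1, .negSucc 0, .negSucc 1, .ofNat 2, .ofNat 0, .ofNat 0, .negSucc 0, .ofNat 0, .ofNat 0, .ofNat 0,
  .ofNat 0, .ofNat 0, .ofNat 0, .ofNat 0, .ofNat 0, .ofNat 0, .negSucc 0, .ofNat 0, .ofNat 0, .ofNat 2,
  .ofNat 0, .negSucc 0, .negSucc 0, .ofNat 0, .ofNat 0, .ofNat 0, .ofNat 1, .ofNat 0, .ofNat 0, .ofNat 0,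
  .ofNat 0, .ofNat 0, .ofNat 0, .ofNat 0, .ofNat 0, .ofNat 0, .ofNat 0, .ofNat 0, .ofNat 0, .negSucc 0,
  .ofNat 0, .negSucc 0, .negSucc 1, .ofNat 2, .ofNat 2, .negSucc 1, .negSucc 1, .ofNat 0, .ofNat 0, .ofNat 0,
  .ofNat 2, .ofNat 0, .ofNat 0, .ofNat 0, .ofNat 2, .ofNat 0]

/-- the values at the type 86 -/
def cT86 : List ℤ :=
  [.ofNat 1, .negSucc 0, .ofNat 0, .ofNat 0, .ofNat 0, .ofNat 1, .negSucc 0, .ofNat 1, .ofNat 0, .ofNat 1,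
  .negSucc 0, .negSucc 0, .ofNat 0, .ofNat 1, .ofNat 0, .ofNat 0, .ofNat 0, .ofNat 0, .ofNat 0, .ofNat 0,
  .negSucc 0, .ofNat 1, .negSucc 0, .ofNat 0, .ofNat 0, .ofNat 0, .ofNat 1, .ofNat 0, .ofNat 0, .ofNat 1,
  .ofNat 0, .ofNat 0, .ofNat 0, .ofNat 1, .negSucc 0, .ofNat 0, .ofNat 0, .ofNat 0, .ofNat 0, .ofNat 0,
  .ofNat 0, .ofNat 0, .negSucc 0, .ofNat 0, .ofNat 0, .negSucc 0, .negSucc 0, .ofNat 0, .ofNat 0, .ofNat 0,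
  .ofNat 0, .ofNat 0, .ofNat 0, .ofNat 0, .ofNat 0, .ofNat 1, .ofNat 1, .ofNat 0, .ofNat 0, .negSucc 0,
  .ofNat 1, .ofNat 0, .ofNat 0, .ofNat 0, .ofNat 0, .ofNat 1, .ofNat 0, .ofNat 0, .ofNat 0, .ofNat 0,
  .ofNat 1, .ofNat 0, .negSucc 0, .negSucc 0, .negSucc 0, .ofNat 0, .ofNat 1, .negSucc 0, .ofNat 0, .ofNat 0,
  .ofNat 2, .ofNat 0, .ofNat 0, .ofNat 0, .ofNat 0, .ofNat 0, .negSucc 1, .ofNat 0, .ofNat 0, .ofNat 0,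
  .ofNat 0, .ofNat 0, .ofNat 2, .ofNat 0]

/-- the values at the type 87 -/
def cT87 : List ℤ :=
  [.ofNat 1, .ofNat 1, .ofNat 0, .negSucc 0, .negSucc 0, .negSucc 3, .ofNat 1, .ofNat 0, .ofNat 2,
  .negSucc 1, .ofNat 3, .ofNat 3, .ofNat 1, .negSucc 0, .ofNat 2, .ofNat 0, .ofNat 0, .ofNat 0, .negSucc 0,
  .negSucc 1, .negSucc 2, .negSucc 0, .negSucc 0, .negSucc 1, .ofNat 4, .negSucc 2, .ofNat 3, .ofNat 0,
  .ofNat 2, .ofNat 0, .ofNat 0, .ofNat 1, .ofNat 2, .negSucc 2, .negSucc 0, .ofNat 1, .ofNat 0, .ofNat 0,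
  .negSucc 1, .negSucc 0, .ofNat 1, .negSucc 0, .ofNat 0, .ofNat 0, .ofNat 2, .ofNat 0, .ofNat 0, .ofNat 0,
  .negSucc 2, .ofNat 0, .ofNat 0, .ofNat 0, .ofNat 0, .ofNat 0, .ofNat 2, .ofNat 3, .ofNat 0, .ofNat 2,
  .ofNat 3, .negSucc 0, .negSucc 0, .ofNat 0, .ofNat 0, .ofNat 0, .negSucc 1, .ofNat 0, .ofNat 0, .ofNat 0,
  .ofNat 0, .ofNat 0, .ofNat 0, .ofNat 0, .ofNat 0, .negSucc 2, .negSucc 2, .ofNat 0, .ofNat 0, .negSucc 0,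
  .ofNat 0, .ofNat 2, .negSucc 1, .ofNat 2, .ofNat 2, .negSucc 1, .negSucc 1, .ofNat 0, .ofNat 0, .ofNat 0,
  .ofNat 2, .ofNat 0, .ofNat 0, .ofNat 0, .ofNat 2, .ofNat 0]

/-- the values at the type 88 -/
def cT88 : List ℤ :=
  [.ofNat 1, .ofNat 0, .ofNat 1, .ofNat 1, .negSucc 1, .negSucc 0, .ofNat 0, .ofNat 0, .negSucc 0, .ofNat 0,
  .ofNat 1, .ofNat 0, .ofNat 0, .ofNat 0, .ofNat 0, .ofNat 0, .ofNat 0, .ofNat 1, .ofNat 0, .ofNat 0,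
  .ofNat 0, .negSucc 0, .ofNat 2, .ofNat 0, .negSucc 0, .ofNat 0, .ofNat 0, .ofNat 0, .ofNat 0, .ofNat 0,
  .ofNat 1, .ofNat 0, .negSucc 0, .ofNat 0, .ofNat 0, .ofNat 0, .ofNat 0, .ofNat 1, .ofNat 0, .ofNat 0,
  .ofNat 0, .ofNat 0, .ofNat 0, .ofNat 0, .negSucc 0, .ofNat 0, .ofNat 0, .ofNat 0, .ofNat 0, .ofNat 0,
  .ofNat 1, .ofNat 0, .ofNat 0, .ofNat 0, .ofNat 0, .ofNat 0, .negSucc 1, .ofNat 0, .ofNat 0, .ofNat 0,
  .ofNat 0, .ofNat 1, .negSucc 0, .ofNat 0, .ofNat 0, .ofNat 2, .negSucc 1, .negSucc 0, .ofNat 2, .ofNat 0,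
  .ofNat 0, .ofNat 0, .ofNat 0, .ofNat 0, .ofNat 0, .ofNat 0, .ofNat 0, .ofNat 0, .ofNat 0, .ofNat 1,
  .ofNat 2, .ofNat 2, .ofNat 2, .ofNat 2, .ofNat 0, .negSucc 1, .negSucc 1, .ofNat 0, .ofNat 0, .ofNat 0,
  .negSucc 1, .negSucc 0, .ofNat 0, .ofNat 2]

/-- the values at the type 89 -/
def cT89 : List ℤ :=
  [.ofNat 1, .ofNat 0, .negSucc 1, .ofNat 1, .ofNat 1, .negSucc 0, .ofNat 0, .ofNat 0, .ofNat 2, .ofNat 0,
  .ofNat 1, .ofNat 0, .ofNat 0, .ofNat 0, .ofNat 0, .ofNat 0, .ofNat 0, .negSucc 1, .ofNat 0, .ofNat 0,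
  .ofNat 0, .negSucc 0, .negSucc 0, .ofNat 0, .negSucc 0, .ofNat 0, .ofNat 0, .ofNat 0, .ofNat 0, .ofNat 0,
  .ofNat 1, .ofNat 0, .negSucc 0, .ofNat 0, .ofNat 0, .ofNat 0, .ofNat 0, .negSucc 1, .ofNat 0, .ofNat 0,
  .ofNat 0, .ofNat 0, .ofNat 0, .ofNat 0, .negSucc 0, .ofNat 0, .ofNat 0, .ofNat 0, .ofNat 0, .ofNat 0,
  .ofNat 1, .ofNat 0, .ofNat 0, .ofNat 0, .ofNat 0, .ofNat 0, .ofNat 1, .ofNat 0, .ofNat 0, .ofNat 0,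
  .ofNat 0, .ofNat 1, .negSucc 0, .ofNat 0, .ofNat 0, .negSucc 0, .ofNat 1, .ofNat 2, .negSucc 0, .ofNat 0,
  .ofNat 0, .ofNat 0, .ofNat 0, .ofNat 0, .ofNat 0, .ofNat 0, .ofNat 0, .ofNat 0, .ofNat 0, .negSucc 1,
  .ofNat 2, .ofNat 2, .ofNat 2, .ofNat 2, .ofNat 0, .negSucc 1, .ofNat 1, .ofNat 0, .ofNat 0, .ofNat 0,
  .negSucc 1, .ofNat 2, .ofNat 0, .ofNat 2]

/-- the values at the type 90 -/
def cT90 : List ℤ :=
  [.ofNat 1, .negSucc 1, .ofNat 2, .negSucc 0, .ofNat 1, .negSucc 0, .ofNat 3, .ofNat 0, .ofNat 1, .ofNat 2,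
  .negSucc 0, .negSucc 0, .negSucc 0, .negSucc 0, .ofNat 0, .ofNat 0, .ofNat 2, .ofNat 0, .ofNat 0, .ofNat 0,
  .ofNat 0, .ofNat 0, .ofNat 1, .ofNat 1, .ofNat 0, .negSucc 0, .ofNat 0, .ofNat 0, .ofNat 0, .negSucc 0,
  .negSucc 0, .ofNat 0, .ofNat 0, .negSucc 0, .ofNat 0, .ofNat 0, .ofNat 0, .negSucc 1, .ofNat 1, .ofNat 0,
  .ofNat 0, .ofNat 0, .ofNat 0, .ofNat 0, .ofNat 0, .ofNat 1, .ofNat 0, .ofNat 0, .ofNat 0, .ofNat 0,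
  .ofNat 1, .ofNat 0, .negSucc 0, .negSucc 1, .ofNat 0, .negSucc 0, .ofNat 1, .ofNat 0, .ofNat 0, .ofNat 0,
  .ofNat 0, .ofNat 1, .ofNat 1, .ofNat 1, .ofNat 0, .ofNat 1, .ofNat 2, .negSucc 0, .ofNat 2, .ofNat 0,
  .ofNat 0, .ofNat 0, .ofNat 1, .negSucc 0, .negSucc 0, .negSucc 1, .ofNat 0, .ofNat 0, .ofNat 0, .ofNat 0,
  .ofNat 0, .negSucc 1, .negSucc 1, .ofNat 0, .ofNat 0, .negSucc 1, .ofNat 0, .ofNat 0, .ofNat 2, .ofNat 0,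
  .negSucc 1, .ofNat 0, .ofNat 0, .ofNat 0]

/-- the values at the type 91 -/
def cT91 : List ℤ :=
  [.ofNat 1, .negSucc 0, .ofNat 0, .negSucc 0, .ofNat 0, .ofNat 0, .ofNat 1, .ofNat 0, .ofNat 0, .negSucc 1,
  .ofNat 0, .ofNat 0, .ofNat 0, .ofNat 0, .ofNat 0, .ofNat 1, .ofNat 0, .ofNat 0, .ofNat 0, .ofNat 0,
  .negSucc 0, .ofNat 0, .ofNat 0, .ofNat 0, .ofNat 0, .ofNat 2, .ofNat 0, .ofNat 1, .ofNat 0, .ofNat 0,
  .ofNat 0, .ofNat 0, .ofNat 0, .ofNat 0, .ofNat 0, .ofNat 0, .negSucc 0, .ofNat 0, .ofNat 0, .ofNat 0,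
  .ofNat 0, .ofNat 0, .ofNat 0, .ofNat 0, .ofNat 0, .ofNat 0, .ofNat 0, .ofNat 0, .ofNat 0, .ofNat 0,
  .ofNat 0, .ofNat 0, .negSucc 0, .ofNat 0, .ofNat 0, .ofNat 0, .ofNat 0, .ofNat 0, .ofNat 0, .ofNat 0,
  .ofNat 0, .ofNat 0, .ofNat 0, .ofNat 0, .ofNat 0, .ofNat 0, .ofNat 0, .ofNat 0, .ofNat 0, .ofNat 1,
  .ofNat 0, .ofNat 0, .ofNat 0, .ofNat 0, .ofNat 0, .ofNat 0, .ofNat 0, .ofNat 0, .ofNat 0, .ofNat 0,
  .ofNat 0, .ofNat 0, .ofNat 0, .ofNat 0, .ofNat 1, .ofNat 0, .ofNat 0, .ofNat 1, .negSucc 1, .ofNat 0,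
  .ofNat 0, .ofNat 0, .ofNat 0, .ofNat 0]

/-- the values at the type 92 -/
def cT92 : List ℤ :=
  [.ofNat 1, .ofNat 0, .ofNat 0, .negSucc 0, .ofNat 0, .negSucc 0, .negSucc 0, .ofNat 1, .ofNat 0, .ofNat 0,
  .ofNat 0, .ofNat 0, .ofNat 0, .ofNat 0, .ofNat 1, .ofNat 0, .ofNat 1, .ofNat 0, .negSucc 0, .ofNat 0,
  .ofNat 1, .ofNat 1, .ofNat 0, .ofNat 0, .ofNat 0, .ofNat 0, .ofNat 0, .ofNat 0, .ofNat 1, .ofNat 0,
  .negSucc 0, .ofNat 0, .ofNat 0, .ofNat 0, .ofNat 0, .ofNat 0, .ofNat 0, .ofNat 0, .ofNat 0, .ofNat 1,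
  .ofNat 0, .ofNat 0, .negSucc 0, .ofNat 0, .ofNat 0, .negSucc 0, .ofNat 0, .ofNat 0, .ofNat 0, .ofNat 0,
  .ofNat 0, .ofNat 0, .ofNat 0, .ofNat 1, .ofNat 0, .negSucc 0, .ofNat 0, .ofNat 0, .ofNat 0, .ofNat 0,
  .ofNat 0, .ofNat 0, .negSucc 0, .ofNat 0, .ofNat 0, .ofNat 0, .ofNat 0, .ofNat 0, .ofNat 0, .ofNat 0,
  .negSucc 0, .ofNat 0, .ofNat 1, .ofNat 0, .ofNat 1, .ofNat 0, .negSucc 0, .ofNat 0, .ofNat 0, .ofNat 0,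
  .ofNat 0, .ofNat 0, .ofNat 0, .ofNat 0, .ofNat 0, .ofNat 0, .ofNat 0, .ofNat 0, .ofNat 0, .ofNat 0,
  .ofNat 0, .ofNat 0, .ofNat 1, .ofNat 0]

/-- the values at the type 93 -/
def cT93 : List ℤ :=
  [.ofNat 1, .negSucc 0, .ofNat 1, .negSucc 0, .negSucc 0, .negSucc 0, .ofNat 1, .ofNat 0, .ofNat 0,
  .ofNat 0, .ofNat 1, .ofNat 0, .ofNat 1, .negSucc 0, .ofNat 0, .ofNat 0, .ofNat 1, .ofNat 0, .ofNat 0,
  .ofNat 0, .ofNat 1, .ofNat 0, .ofNat 1, .ofNat 0, .ofNat 0, .ofNat 0, .negSucc 0, .ofNat 0, .ofNat 0,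
  .ofNat 1, .ofNat 0, .negSucc 0, .ofNat 0, .negSucc 0, .ofNat 0, .ofNat 0, .ofNat 0, .ofNat 0, .ofNat 1,
  .negSucc 1, .ofNat 0, .ofNat 0, .negSucc 0, .ofNat 1, .ofNat 0, .negSucc 0, .ofNat 0, .negSucc 0, .ofNat 0,
  .ofNat 1, .negSucc 0, .ofNat 0, .ofNat 2, .ofNat 0, .ofNat 0, .negSucc 0, .ofNat 1, .ofNat 0, .ofNat 0,
  .ofNat 0, .ofNat 0, .negSucc 0, .ofNat 0, .negSucc 1, .ofNat 0, .ofNat 1, .ofNat 0, .ofNat 1, .negSucc 1,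
  .ofNat 0, .ofNat 1, .ofNat 0, .negSucc 0, .ofNat 0, .ofNat 0, .ofNat 0, .ofNat 2, .ofNat 0, .ofNat 1,
  .ofNat 0, .ofNat 0, .ofNat 0, .ofNat 0, .ofNat 2, .ofNat 0, .ofNat 0, .ofNat 0, .negSucc 1, .ofNat 0,
  .ofNat 0, .ofNat 2, .ofNat 0, .negSucc 1, .ofNat 0]

/-- the columns -/
def colsT : List (List ℤ) :=
  [cT0, cT1, cT2, cT3, cT4, cT5, cT6, cT7, cT8, cT9, cT10, cT11, cT12, cT13, cT14, cT15, cT16, cT17, cT18,
  cT19, cT20, cT21, cT22, cT23, cT24, cT25, cT26, cT27, cT28, cT29, cT30, cT31, cT32, cT33, cT34, cT35, cT36,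
  cT37, cT38, cT39, cT40, cT41, cT42, cT43, cT44, cT45, cT46, cT47, cT48, cT49, cT50, cT51, cT52, cT53, cT54,
  cT55, cT56, cT57, cT58, cT59, cT60, cT61, cT62, cT63, cT64, cT65, cT66, cT67, cT68, cT69, cT70, cT71, cT72,
  cT73, cT74, cT75, cT76, cT77, cT78, cT79, cT80, cT81, cT82, cT83, cT84, cT85, cT86, cT87, cT88, cT89, cT90,
  cT91, cT92, cT93]

/-- the norms -/
def nmT : List ℕ :=
  [1, 1, 1, 1, 1, 1, 1, 1, 1, 1, 1, 1, 1, 1, 1, 1, 1, 1, 1, 1, 1, 1, 1, 1, 1, 1, 1, 1, 1, 1, 1, 1, 1, 1, 1,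
  1, 1, 1, 1, 1, 1, 1, 1, 1, 1, 1, 1, 1, 1, 1, 1, 1, 1, 1, 1, 1, 1, 1, 1, 1, 1, 1, 1, 1, 1, 1, 1, 1, 1, 1, 1,
  1, 1, 1, 1, 1, 1, 1, 1, 1, 2, 2, 2, 2, 2, 2, 2, 2, 2, 2, 2, 2, 2, 2]

/-- the coefficients of the regular character -/
def regT : List ℤ :=
  [.ofNat 1, .ofNat 8671, .ofNat 57477, .ofNat 249458, .ofNat 555611, .ofNat 1666833, .ofNat 4864431,
  .ofNat 32715683, .ofNat 35873145, .ofNat 40536925, .ofNat 48893768, .ofNat 79452373, .ofNat 112168056,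
  .ofNat 159402880, .ofNat 281380736, .ofNat 415098112, .ofNat 635618984, .ofNat 1069551175,
  .ofNat 1112333222, .ofNat 1264015025, .ofNat 1337276304, .ofNat 1540153692, .ofNat 2346900864,
  .ofNat 3178094920, .ofNat 3208653525, .ofNat 3283490925, .ofNat 5005499499, .ofNat 5775278080,
  .ofNat 6471756928, .ofNat 7150713570, .ofNat 8529641472, .ofNat 9100908180, .ofNat 9441555200,
  .ofNat 10169903744, .ofNat 13904165275, .ofNat 13904165275, .ofNat 14507059905, .ofNat 17068369920,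
  .ofNat 17161712568, .ofNat 25027497495, .ofNat 27808330550, .ofNat 29444114700, .ofNat 35594663104,
  .ofNat 36858678129, .ofNat 37337059200, .ofNat 38641860608, .ofNat 40043995992, .ofNat 44493328880,
  .ofNat 45049495491, .ofNat 46602926370, .ofNat 54234085491, .ofNat 55616661100, .ofNat 63831063582,
  .ofNat 67331776512, .ofNat 71189326208, .ofNat 74887473024, .ofNat 77108871168, .ofNat 77379702400,
  .ofNat 102385217025, .ofNat 111233322200, .ofNat 111233322200, .ofNat 118588933386, .ofNat 139317477376,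
  .ofNat 142169187069, .ofNat 142378652416, .ofNat 145650089984, .ofNat 150201655296, .ofNat 156321775827,
  .ofNat 156321775827, .ofNat 160313753600, .ofNat 169598100672, .ofNat 178514751987, .ofNat 184117100544,
  .ofNat 190685695200, .ofNat 205940550816, .ofNat 222758961152, .ofNat 225247477455, .ofNat 250274974950,
  .ofNat 282049015248, .ofNat 336033532800, .ofNat 1603525, .ofNat 74837400, .ofNat 10776585600,
  .ofNat 18481844304, .ofNat 54481627200, .ofNat 65393917952, .ofNat 77007684600, .ofNat 132390354096,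
  .ofNat 140095612800, .ofNat 151397207325, .ofNat 164572397352, .ofNat 197813862400, .ofNat 200219979960,
  .ofNat 205353825600]

/-- the row of each character -/
def blkT : List (ℕ × ℤ) :=
  [(0, 1), (1, 1), (2, 1), (3, 1), (4, 1), (80, 1), (80, 1), (5, 1), (6, 1), (7, 1), (8, 1), (9, 1), (10, 1),
  (81, 1), (81, 1), (11, 1), (12, 1), (13, 1), (14, 1), (15, 1), (16, 1), (17, 1), (18, 1), (19, 1), (20, 1),
  (21, 1), (22, 1), (23, 1), (24, 1), (25, 1), (26, 1), (27, 1), (28, 1), (29, 1), (30, 1), (31, 1), (32, 1),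
  (33, 1), (82, 1), (82, 1), (34, 1), (35, 1), (36, 1), (37, 1), (38, 1), (83, 1), (83, 1), (39, 1), (40, 1),
  (41, 1), (42, 1), (43, 1), (44, 1), (45, 1), (46, 1), (47, 1), (48, 1), (49, 1), (50, 1), (84, 1), (84, 1),
  (51, 1), (52, 1), (85, 1), (85, 1), (53, 1), (54, 1), (55, 1), (86, 1), (86, 1), (56, 1), (57, 1), (58, 1),
  (59, 1), (60, 1), (61, 1), (87, 1), (87, 1), (62, 1), (88, 1), (88, 1), (63, 1), (64, 1), (65, 1), (66, 1),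
  (89, 1), (89, 1), (67, 1), (68, 1), (69, 1), (90, 1), (90, 1), (70, 1), (71, 1), (72, 1), (73, 1), (91, 1),
  (91, 1), (92, 1), (92, 1), (93, 1), (93, 1), (74, 1), (75, 1), (76, 1), (77, 1), (78, 1), (79, 1)]

/-- the degrees -/
def degs : List ℕ :=
  [1, 8671, 57477, 249458, 555611, 1603525, 1603525, 1666833, 4864431, 32715683, 35873145, 40536925,
  48893768, 74837400, 74837400, 79452373, 112168056, 159402880, 281380736, 415098112, 635618984, 1069551175,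
  1112333222, 1264015025, 1337276304, 1540153692, 2346900864, 3178094920, 3208653525, 3283490925, 5005499499,
  5775278080, 6471756928, 7150713570, 8529641472, 9100908180, 9441555200, 10169903744, 10776585600,
  10776585600, 13904165275, 13904165275, 14507059905, 17068369920, 17161712568, 18481844304, 18481844304,
  25027497495, 27808330550, 29444114700, 35594663104, 36858678129, 37337059200, 38641860608, 40043995992,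
  44493328880, 45049495491, 46602926370, 54234085491, 54481627200, 54481627200, 55616661100, 63831063582,
  65393917952, 65393917952, 67331776512, 71189326208, 74887473024, 77007684600, 77007684600, 77108871168,
  77379702400, 102385217025, 111233322200, 111233322200, 118588933386, 132390354096, 132390354096,
  139317477376, 140095612800, 140095612800, 142169187069, 142378652416, 145650089984, 150201655296,
  151397207325, 151397207325, 156321775827, 156321775827, 160313753600, 164572397352, 164572397352,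
  169598100672, 178514751987, 184117100544, 190685695200, 197813862400, 197813862400, 200219979960,
  200219979960, 205353825600, 205353825600, 205940550816, 222758961152, 225247477455, 250274974950,
  282049015248, 336033532800]

/-- the constituents of the rows -/
def consT : List (List (ℕ × ℤ)) :=
  [[(0, 1)], [(1, 1)], [(2, 1)], [(3, 1)], [(4, 1)], [(7, 1)], [(8, 1)], [(9, 1)], [(10, 1)], [(11, 1)],
  [(12, 1)], [(15, 1)], [(16, 1)], [(17, 1)], [(18, 1)], [(19, 1)], [(20, 1)], [(21, 1)], [(22, 1)],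
  [(23, 1)], [(24, 1)], [(25, 1)], [(26, 1)], [(27, 1)], [(28, 1)], [(29, 1)], [(30, 1)], [(31, 1)],
  [(32, 1)], [(33, 1)], [(34, 1)], [(35, 1)], [(36, 1)], [(37, 1)], [(40, 1)], [(41, 1)], [(42, 1)],
  [(43, 1)], [(44, 1)], [(47, 1)], [(48, 1)], [(49, 1)], [(50, 1)], [(51, 1)], [(52, 1)], [(53, 1)],
  [(54, 1)], [(55, 1)], [(56, 1)], [(57, 1)], [(58, 1)], [(61, 1)], [(62, 1)], [(65, 1)], [(66, 1)],
  [(67, 1)], [(70, 1)], [(71, 1)], [(72, 1)], [(73, 1)], [(74, 1)], [(75, 1)], [(78, 1)], [(81, 1)],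
  [(82, 1)], [(83, 1)], [(84, 1)], [(87, 1)], [(88, 1)], [(89, 1)], [(92, 1)], [(93, 1)], [(94, 1)],
  [(95, 1)], [(102, 1)], [(103, 1)], [(104, 1)], [(105, 1)], [(106, 1)], [(107, 1)], [(5, 1), (6, 1)],
  [(13, 1), (14, 1)], [(38, 1), (39, 1)], [(45, 1), (46, 1)], [(59, 1), (60, 1)], [(63, 1), (64, 1)],
  [(68, 1), (69, 1)], [(76, 1), (77, 1)], [(79, 1), (80, 1)], [(85, 1), (86, 1)], [(90, 1), (91, 1)],
  [(96, 1), (97, 1)], [(98, 1), (99, 1)], [(100, 1), (101, 1)]]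

theorem okLenT : DT.okLen := ⟨by decide +kernel, by decide +kernel, by decide +kernel⟩

theorem takeT : colsT.map (List.take nmT.length) = colsT := by decide +kernel

theorem gramT : chkG DT colsT (nmT.map fun n => (n, 0)) 2 (3 ^ 55) = true := by decide +kernel

theorem finT : okFin0 DT colsT (nmT.map fun n => (n, 0)) regT blkT degs consT = true := by decide +kernel

end Cfsg.Agent.TAB.F24
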