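import Cfsg.Agent.TAB.F24.TabT

/-!
# Faithful characters of `3.Fi₂₄'` : data

49 orthogonal rows, and 17 differences of rows (helper16, TAB)
-/

set_option autoImplicit false
set_option maxRecDepth 100000

namespace Cfsg.Agent.TAB.F24

open Cfsg.Agent.TAB.Eng Cfsg.Agent.TAB.Glue Cfsg.Agent.TAB.Cov

/-- the values at the type 0 -/
def cX0 : List ℤ :=
  [.ofNat 129168, .ofNat 612306, .ofNat 13449618, .ofNat 38069460, .ofNat 87559758, .ofNat 407687742,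
  .ofNat 2101434192, .ofNat 3106861758, .ofNat 3637097640, .ofNat 4800479040, .ofNat 8580856284,
  .ofNat 9240922152, .ofNat 18912907728, .ofNat 21452140710, .ofNat 24516732240, .ofNat 29014119810,
  .ofNat 30032996994, .ofNat 42028683840, .ofNat 42244215552, .ofNat 68256811350, .ofNat 83570078592,
  .ofNat 127662127164, .ofNat 156693897360, .ofNat 160512344064, .ofNat 160512344064, .ofNat 168114735360,
  .ofNat 207124117200, .ofNat 271210512384, .ofNat 271210512384, .ofNat 284338374138, .ofNat 300329969940,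
  .ofNat 308910826224, .ofNat 320510244600, .ofNat 357029503974, .ofNat 370322668800, .ofNat 407550873600,
  .ofNat 421111722636, .ofNat 431722856448, .ofNat 513933638400, .ofNat 519801871050, .ofNat 549821418426,
  .ofNat 810890918838, .ofNat 864618300, .ofNat 4608644040, .ofNat 5022240300, .ofNat 5398348032,
  .ofNat 33002486100, .ofNat 35975639700, .ofNat 605588829300, .ofNat 613872, .ofNat 50711778,
  .ofNat 390037356, .ofNat 390040488, .ofNat 660067434, .ofNat 5603822946, .ofNat 6528913956,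
  .ofNat 8833235976, .ofNat 42193500642, .ofNat 43684357698, .ofNat 68256809784, .ofNat 231023055366,
  .ofNat 240263977518, .ofNat 549174803742, .ofNat 591419019294, .ofNat 717289535970, .ofNat 750824923284]

/-- the values at the type 1 -/
def cX1 : List ℤ :=
  [.negSucc 64583, .negSucc 306152, .negSucc 6724808, .negSucc 19034729, .negSucc 43779878,
  .negSucc 203843870, .negSucc 1050717095, .negSucc 1553430878, .negSucc 1818548819, .negSucc 2400239519,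
  .negSucc 4290428141, .negSucc 4620461075, .negSucc 9456453863, .negSucc 10726070354, .negSucc 12258366119,
  .negSucc 14507059904, .negSucc 15016498496, .negSucc 21014341919, .negSucc 21122107775,
  .negSucc 34128405674, .negSucc 41785039295, .negSucc 63831063581, .negSucc 78346948679,
  .negSucc 80256172031, .negSucc 80256172031, .negSucc 84057367679, .negSucc 103562058599,
  .negSucc 135605256191, .negSucc 135605256191, .negSucc 142169187068, .negSucc 150164984969,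
  .negSucc 154455413111, .negSucc 160255122299, .negSucc 178514751986, .negSucc 185161334399,
  .negSucc 203775436799, .negSucc 210555861317, .negSucc 215861428223, .negSucc 256966819199,
  .negSucc 259900935524, .negSucc 274910709212, .negSucc 405445459418, .negSucc 432309149,
  .negSucc 2304322019, .negSucc 2511120149, .negSucc 2699174015, .negSucc 16501243049, .negSucc 17987819849,
  .negSucc 302794414649, .negSucc 306935, .negSucc 25355888, .negSucc 195018677, .negSucc 195020243,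
  .negSucc 330033716, .negSucc 2801911472, .negSucc 3264456977, .negSucc 4416617987, .negSucc 21096750320,
  .negSucc 21842178848, .negSucc 34128404891, .negSucc 115511527682, .negSucc 120131988758,
  .negSucc 274587401870, .negSucc 295709509646, .negSucc 358644767984, .negSucc 375412461641]

/-- the values at the type 2 -/
def cX2 : List ℤ :=
  [.ofNat 144, .negSucc 557, .negSucc 1133, .ofNat 2772, .ofNat 3150, .ofNat 4158, .ofNat 1872,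
  .negSucc 36161, .ofNat 58536, .ofNat 12096, .negSucc 46115, .ofNat 29736, .ofNat 99792, .ofNat 94374,
  .ofNat 80208, .negSucc 23165, .ofNat 48258, .ofNat 576, .negSucc 48383, .negSucc 110249, .negSucc 56447,
  .ofNat 72252, .ofNat 119952, .ofNat 0, .ofNat 0, .negSucc 108287, .negSucc 45359, .ofNat 0, .ofNat 0,
  .ofNat 121338, .negSucc 65771, .negSucc 240911, .ofNat 113400, .ofNat 249318, .negSucc 172799,
  .ofNat 184320, .ofNat 265356, .ofNat 0, .ofNat 80640, .negSucc 343349, .negSucc 132677, .negSucc 148553,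
  .ofNat 19260, .negSucc 28727, .negSucc 18899, .negSucc 16127, .negSucc 102059, .ofNat 62100, .ofNat 170100,
  .ofNat 1008, .ofNat 738, .negSucc 11411, .ofNat 10152, .negSucc 10133, .ofNat 66402, .negSucc 13787,
  .negSucc 28151, .ofNat 49122, .ofNat 144450, .negSucc 56519, .ofNat 205830, .negSucc 22481, .ofNat 59166,
  .ofNat 10782, .ofNat 49122, .negSucc 30059]

/-- the values at the type 3 -/
def cX3 : List ℤ :=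
  [.negSucc 71, .ofNat 279, .ofNat 567, .negSucc 1385, .negSucc 1574, .negSucc 2078, .negSucc 935,
  .ofNat 18081, .negSucc 29267, .negSucc 6047, .ofNat 23058, .negSucc 14867, .negSucc 49895, .negSucc 47186,
  .negSucc 40103, .ofNat 11583, .negSucc 24128, .negSucc 287, .ofNat 24192, .ofNat 55125, .ofNat 28224,
  .negSucc 36125, .negSucc 59975, .ofNat 0, .ofNat 0, .ofNat 54144, .ofNat 22680, .ofNat 0, .ofNat 0,
  .negSucc 60668, .ofNat 32886, .ofNat 120456, .negSucc 56699, .negSucc 124658, .ofNat 86400, .negSucc 92159,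
  .negSucc 132677, .ofNat 0, .negSucc 40319, .ofNat 171675, .ofNat 66339, .ofNat 74277, .negSucc 9629,
  .ofNat 14364, .ofNat 9450, .ofNat 8064, .ofNat 51030, .negSucc 31049, .negSucc 85049, .negSucc 503,
  .negSucc 368, .ofNat 5706, .negSucc 5075, .ofNat 5067, .negSucc 33200, .ofNat 6894, .ofNat 14076,
  .negSucc 24560, .negSucc 72224, .ofNat 28260, .negSucc 102914, .ofNat 11241, .negSucc 29582, .negSucc 5390,
  .negSucc 24560, .ofNat 15030]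

/-- the values at the type 4 -/
def cX4 : List ℤ :=
  [.ofNat 2704, .ofNat 5458, .ofNat 52754, .ofNat 88660, .ofNat 158158, .ofNat 388542, .ofNat 1160016,
  .ofNat 1039038, .ofNat 1247400, .ofNat 1313600, .ofNat 215644, .ofNat 1651496, .negSucc 432431,
  .ofNat 2781350, .negSucc 560559, .ofNat 3211650, .ofNat 5047042, .ofNat 3432000, .ofNat 3596032,
  .ofNat 3025750, .ofNat 896896, .ofNat 787644, .negSucc 240239, .ofNat 2228224, .ofNat 7995392,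
  .ofNat 7138560, .ofNat 5205200, .ofNat 2228224, .ofNat 7995392, .ofNat 4786938, .ofNat 7547540,
  .negSucc 803087, .negSucc 8353799, .negSucc 5629337, .ofNat 1209600, .ofNat 1331200, .ofNat 2598156,
  .negSucc 10223615, .negSucc 4076799, .ofNat 5301450, .negSucc 5078213, .negSucc 5567561, .negSucc 245699,
  .negSucc 120119, .ofNat 608300, .negSucc 532223, .negSucc 1968299, .negSucc 2702699, .ofNat 11056500,
  .ofNat 7024, .ofNat 81506, .ofNat 255084, .ofNat 365224, .ofNat 410986, .ofNat 896738, .ofNat 1431588,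
  .ofNat 1371528, .ofNat 4685666, .ofNat 2448834, .ofNat 6228792, .ofNat 9255558, .negSucc 368209,
  .ofNat 5747614, .negSucc 7056737, .negSucc 4685981, .ofNat 1251092]

/-- the values at the type 5 -/
def cX5 : List ℤ :=
  [.negSucc 1351, .negSucc 2728, .negSucc 26376, .negSucc 44329, .negSucc 79078, .negSucc 194270,
  .negSucc 580007, .negSucc 519518, .negSucc 623699, .negSucc 656799, .negSucc 107821, .negSucc 825747,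
  .ofNat 216216, .negSucc 1390674, .ofNat 280280, .negSucc 1605824, .negSucc 2523520, .negSucc 1715999,
  .negSucc 1798015, .negSucc 1512874, .negSucc 448447, .negSucc 393821, .ofNat 120120, .negSucc 1114111,
  .negSucc 3997695, .negSucc 3569279, .negSucc 2602599, .negSucc 1114111, .negSucc 3997695, .negSucc 2393468,
  .negSucc 3773769, .ofNat 401544, .ofNat 4176900, .ofNat 2814669, .negSucc 604799, .negSucc 665599,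
  .negSucc 1299077, .ofNat 5111808, .ofNat 2038400, .negSucc 2650724, .ofNat 2539107, .ofNat 2783781,
  .ofNat 122850, .ofNat 60060, .negSucc 304149, .ofNat 266112, .ofNat 984150, .ofNat 1351350,
  .negSucc 5528249, .negSucc 3511, .negSucc 40752, .negSucc 127541, .negSucc 182611, .negSucc 205492,
  .negSucc 448368, .negSucc 715793, .negSucc 685763, .negSucc 2342832, .negSucc 1224416, .negSucc 3114395,
  .negSucc 4627778, .ofNat 184105, .negSucc 2873806, .ofNat 3528369, .ofNat 2342991, .negSucc 625545]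

/-- the values at the type 6 -/
def cX6 : List ℤ :=
  [.ofNat 0, .ofNat 0, .ofNat 0, .ofNat 0, .ofNat 0, .ofNat 0, .ofNat 0, .ofNat 0, .ofNat 0, .ofNat 0,
  .ofNat 0, .ofNat 0, .ofNat 0, .ofNat 0, .ofNat 0, .ofNat 0, .ofNat 0, .ofNat 0, .ofNat 0, .ofNat 0,
  .ofNat 0, .ofNat 0, .ofNat 0, .ofNat 0, .ofNat 0, .ofNat 0, .ofNat 0, .ofNat 0, .ofNat 0, .ofNat 0,
  .ofNat 0, .ofNat 0, .ofNat 0, .ofNat 0, .ofNat 0, .ofNat 0, .ofNat 0, .ofNat 0, .ofNat 0, .ofNat 0,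
  .ofNat 0, .ofNat 0, .ofNat 0, .ofNat 0, .ofNat 0, .ofNat 0, .ofNat 0, .ofNat 0, .ofNat 0, .ofNat 0,
  .ofNat 0, .ofNat 0, .ofNat 0, .ofNat 0, .ofNat 0, .ofNat 0, .ofNat 0, .ofNat 0, .ofNat 0, .ofNat 0,
  .ofNat 0, .ofNat 0, .ofNat 0, .ofNat 0, .ofNat 0, .ofNat 0]

/-- the values at the type 7 -/
def cX7 : List ℤ :=
  [.ofNat 432, .ofNat 702, .ofNat 4158, .ofNat 4914, .ofNat 7074, .ofNat 14742, .ofNat 26892, .ofNat 21546,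
  .ofNat 18954, .ofNat 33264, .ofNat 19656, .ofNat 31374, .ofNat 10206, .ofNat 8316, .ofNat 22626,
  .ofNat 39366, .ofNat 38178, .negSucc 4535, .ofNat 55944, .ofNat 26460, .ofNat 21924, .ofNat 39366,
  .negSucc 32885, .ofNat 60480, .ofNat 60480, .ofNat 34344, .negSucc 60479, .ofNat 12096, .ofNat 12096,
  .ofNat 0, .negSucc 16253, .ofNat 34020, .ofNat 51030, .ofNat 0, .ofNat 29160, .negSucc 8639, .ofNat 0,
  .ofNat 72576, .negSucc 52919, .negSucc 34019, .ofNat 0, .negSucc 40823, .ofNat 4860, .negSucc 9071,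
  .negSucc 15119, .ofNat 13608, .ofNat 0, .ofNat 29160, .ofNat 0, .ofNat 756, .ofNat 4914, .ofNat 8262,
  .ofNat 8370, .ofNat 11772, .ofNat 12366, .ofNat 21222, .ofNat 16686, .ofNat 50922, .negSucc 7613,
  .ofNat 26406, .negSucc 32075, .negSucc 10907, .negSucc 7505, .ofNat 48438, .ofNat 26730, .negSucc 66203]

/-- the values at the type 8 -/
def cX8 : List ℤ :=
  [.negSucc 215, .negSucc 350, .negSucc 2078, .negSucc 2456, .negSucc 3536, .negSucc 7370, .negSucc 13445,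
  .negSucc 10772, .negSucc 9476, .negSucc 16631, .negSucc 9827, .negSucc 15686, .negSucc 5102, .negSucc 4157,
  .negSucc 11312, .negSucc 19682, .negSucc 19088, .ofNat 2268, .negSucc 27971, .negSucc 13229,
  .negSucc 10961, .negSucc 19682, .ofNat 16443, .negSucc 30239, .negSucc 30239, .negSucc 17171, .ofNat 30240,
  .negSucc 6047, .negSucc 6047, .ofNat 0, .ofNat 8127, .negSucc 17009, .negSucc 25514, .ofNat 0,
  .negSucc 14579, .ofNat 4320, .ofNat 0, .negSucc 36287, .ofNat 26460, .ofNat 17010, .ofNat 0, .ofNat 20412,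
  .negSucc 2429, .ofNat 4536, .ofNat 7560, .negSucc 6803, .ofNat 0, .negSucc 14579, .ofNat 0, .negSucc 377,
  .negSucc 2456, .negSucc 4130, .negSucc 4184, .negSucc 5885, .negSucc 6182, .negSucc 10610, .negSucc 8342,
  .negSucc 25460, .ofNat 3807, .negSucc 13202, .ofNat 16038, .ofNat 5454, .ofNat 3753, .negSucc 24218,
  .negSucc 13364, .ofNat 33102]

/-- the values at the type 9 -/
def cX9 : List ℤ :=
  [.ofNat 0, .ofNat 0, .ofNat 0, .ofNat 0, .ofNat 0, .ofNat 0, .ofNat 0, .ofNat 0, .ofNat 0, .ofNat 0,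
  .ofNat 0, .ofNat 0, .ofNat 0, .ofNat 0, .ofNat 0, .ofNat 0, .ofNat 0, .ofNat 0, .ofNat 0, .ofNat 0,
  .ofNat 0, .ofNat 0, .ofNat 0, .ofNat 0, .ofNat 0, .ofNat 0, .ofNat 0, .ofNat 0, .ofNat 0, .ofNat 0,
  .ofNat 0, .ofNat 0, .ofNat 0, .ofNat 0, .ofNat 0, .ofNat 0, .ofNat 0, .ofNat 0, .ofNat 0, .ofNat 0,
  .ofNat 0, .ofNat 0, .ofNat 0, .ofNat 0, .ofNat 0, .ofNat 0, .ofNat 0, .ofNat 0, .ofNat 0, .ofNat 0,
  .ofNat 0, .ofNat 0, .ofNat 0, .ofNat 0, .ofNat 0, .ofNat 0, .ofNat 0, .ofNat 0, .ofNat 0, .ofNat 0,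
  .ofNat 0, .ofNat 0, .ofNat 0, .ofNat 0, .ofNat 0, .ofNat 0]

/-- the values at the type 10 -/
def cX10 : List ℤ :=
  [.negSucc 593, .ofNat 2862, .negSucc 7721, .ofNat 27324, .negSucc 23759, .negSucc 30293, .negSucc 137213,
  .negSucc 51677, .ofNat 112266, .negSucc 158003, .ofNat 269676, .ofNat 323730, .ofNat 64152, .ofNat 241164,
  .ofNat 275616, .negSucc 433025, .negSucc 355211, .negSucc 146123, .negSucc 4751, .ofNat 767340,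
  .ofNat 743688, .ofNat 433026, .negSucc 121175, .negSucc 532223, .negSucc 532223, .negSucc 584495,
  .ofNat 163350, .ofNat 490752, .ofNat 490752, .ofNat 433026, .negSucc 953963, .ofNat 614790, .ofNat 342630,
  .ofNat 0, .negSucc 379079, .negSucc 367199, .ofNat 0, .negSucc 41471, .ofNat 914760, .ofNat 347490,
  .ofNat 0, .negSucc 497177, .ofNat 9720, .negSucc 3563, .negSucc 59399, .negSucc 42767, .ofNat 0,
  .negSucc 160379, .ofNat 1180980, .ofNat 2970, .ofNat 33156, .ofNat 90882, .ofNat 91098, .ofNat 54162,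
  .ofNat 211356, .ofNat 355914, .ofNat 354132, .negSucc 38123, .ofNat 585468, .ofNat 767232, .negSucc 567161,
  .ofNat 622620, .negSucc 61667, .negSucc 66419, .negSucc 646379, .negSucc 219887]

/-- the values at the type 11 -/
def cX11 : List ℤ :=
  [.ofNat 297, .negSucc 1430, .ofNat 3861, .negSucc 13661, .ofNat 11880, .ofNat 15147, .ofNat 68607,
  .ofNat 25839, .negSucc 56132, .ofNat 79002, .negSucc 134837, .negSucc 161864, .negSucc 32075,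
  .negSucc 120581, .negSucc 137807, .ofNat 216513, .ofNat 177606, .ofNat 73062, .ofNat 2376, .negSucc 383669,
  .negSucc 371843, .negSucc 216512, .ofNat 60588, .ofNat 266112, .ofNat 266112, .ofNat 292248,
  .negSucc 81674, .negSucc 245375, .negSucc 245375, .negSucc 216512, .ofNat 476982, .negSucc 307394,
  .negSucc 171314, .ofNat 0, .ofNat 189540, .ofNat 183600, .ofNat 0, .ofNat 20736, .negSucc 457379,
  .negSucc 173744, .ofNat 0, .ofNat 248589, .negSucc 4859, .ofNat 1782, .ofNat 29700, .ofNat 21384, .ofNat 0,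
  .ofNat 80190, .negSucc 590489, .negSucc 1484, .negSucc 16577, .negSucc 45440, .negSucc 45548,
  .negSucc 27080, .negSucc 105677, .negSucc 177956, .negSucc 177065, .ofNat 19062, .negSucc 292733,
  .negSucc 383615, .ofNat 283581, .negSucc 311309, .ofNat 30834, .ofNat 33210, .ofNat 323190, .ofNat 109944]

/-- the values at the type 12 -/
def cX12 : List ℤ :=
  [.ofNat 0, .ofNat 0, .ofNat 0, .ofNat 0, .ofNat 0, .ofNat 0, .ofNat 0, .ofNat 0, .ofNat 0, .ofNat 0,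
  .ofNat 0, .ofNat 0, .ofNat 0, .ofNat 0, .ofNat 0, .ofNat 0, .ofNat 0, .ofNat 0, .ofNat 0, .ofNat 0,
  .ofNat 0, .ofNat 0, .ofNat 0, .ofNat 0, .ofNat 0, .ofNat 0, .ofNat 0, .ofNat 0, .ofNat 0, .ofNat 0,
  .ofNat 0, .ofNat 0, .ofNat 0, .ofNat 0, .ofNat 0, .ofNat 0, .ofNat 0, .ofNat 0, .ofNat 0, .ofNat 0,
  .ofNat 0, .ofNat 0, .ofNat 0, .ofNat 0, .ofNat 0, .ofNat 0, .ofNat 0, .ofNat 0, .ofNat 0, .ofNat 0,
  .ofNat 0, .ofNat 0, .ofNat 0, .ofNat 0, .ofNat 0, .ofNat 0, .ofNat 0, .ofNat 0, .ofNat 0, .ofNat 0,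
  .ofNat 0, .ofNat 0, .ofNat 0, .ofNat 0, .ofNat 0, .ofNat 0]

/-- the values at the type 13 -/
def cX13 : List ℤ :=
  [.ofNat 16, .negSucc 13, .negSucc 13, .negSucc 11, .negSucc 17, .negSucc 33, .ofNat 80, .negSucc 65,
  .ofNat 168, .ofNat 64, .ofNat 60, .negSucc 151, .negSucc 111, .ofNat 166, .negSucc 239, .negSucc 125,
  .negSucc 29, .negSucc 191, .ofNat 0, .ofNat 214, .ofNat 128, .ofNat 156, .ofNat 80, .ofNat 0, .ofNat 0,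
  .ofNat 0, .ofNat 336, .ofNat 0, .ofNat 0, .ofNat 186, .ofNat 308, .negSucc 15, .ofNat 184, .ofNat 198,
  .negSucc 255, .ofNat 0, .ofNat 108, .ofNat 0, .negSucc 255, .ofNat 74, .ofNat 90, .negSucc 73, .negSucc 3,
  .ofNat 264, .negSucc 83, .ofNat 256, .ofNat 468, .negSucc 363, .negSucc 203, .ofNat 16, .ofNat 2,
  .ofNat 44, .negSucc 23, .ofNat 42, .ofNat 130, .negSucc 91, .ofNat 40, .ofNat 2, .negSucc 29, .negSucc 199,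
  .negSucc 153, .negSucc 49, .negSucc 1, .negSucc 1, .ofNat 2, .negSucc 139]

/-- the values at the type 14 -/
def cX14 : List ℤ :=
  [.negSucc 7, .ofNat 7, .ofNat 7, .ofNat 6, .ofNat 9, .ofNat 17, .negSucc 39, .ofNat 33, .negSucc 83,
  .negSucc 31, .negSucc 29, .ofNat 76, .ofNat 56, .negSucc 82, .ofNat 120, .ofNat 63, .ofNat 15, .ofNat 96,
  .ofNat 0, .negSucc 106, .negSucc 63, .negSucc 77, .negSucc 39, .ofNat 0, .ofNat 0, .ofNat 0, .negSucc 167,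
  .ofNat 0, .ofNat 0, .negSucc 92, .negSucc 153, .ofNat 8, .negSucc 91, .negSucc 98, .ofNat 128, .ofNat 0,
  .negSucc 53, .ofNat 0, .ofNat 128, .negSucc 36, .negSucc 44, .ofNat 37, .ofNat 2, .negSucc 131, .ofNat 42,
  .negSucc 127, .negSucc 233, .ofNat 182, .ofNat 102, .negSucc 7, .negSucc 0, .negSucc 21, .ofNat 12,
  .negSucc 20, .negSucc 64, .ofNat 46, .negSucc 19, .negSucc 0, .ofNat 15, .ofNat 100, .ofNat 77, .ofNat 25,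
  .ofNat 1, .ofNat 1, .negSucc 0, .ofNat 70]

/-- the values at the type 15 -/
def cX15 : List ℤ :=
  [.ofNat 16, .negSucc 29, .negSucc 29, .ofNat 68, .ofNat 126, .ofNat 238, .ofNat 336, .negSucc 545,
  .ofNat 840, .negSucc 319, .ofNat 12, .ofNat 616, .negSucc 335, .ofNat 870, .ofNat 112, .negSucc 29,
  .ofNat 210, .ofNat 320, .negSucc 127, .negSucc 489, .negSucc 895, .ofNat 588, .negSucc 1231, .negSucc 1023,
  .ofNat 1024, .ofNat 128, .negSucc 559, .ofNat 1024, .negSucc 1023, .ofNat 1146, .negSucc 1147, .ofNat 240,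
  .negSucc 839, .negSucc 809, .ofNat 0, .ofNat 0, .negSucc 323, .ofNat 0, .ofNat 0, .negSucc 629, .ofNat 810,
  .ofNat 630, .negSucc 419, .ofNat 616, .negSucc 979, .ofNat 0, .ofNat 1620, .negSucc 1259, .negSucc 1259,
  .ofNat 128, .ofNat 114, .negSucc 403, .ofNat 488, .negSucc 277, .ofNat 882, .negSucc 699, .negSucc 391,
  .negSucc 13, .ofNat 210, .ofNat 56, .ofNat 854, .ofNat 1022, .ofNat 142, .ofNat 14, .negSucc 13,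
  .ofNat 196]

/-- the values at the type 16 -/
def cX16 : List ℤ :=
  [.negSucc 7, .ofNat 15, .ofNat 15, .negSucc 33, .negSucc 62, .negSucc 118, .negSucc 167, .ofNat 273,
  .negSucc 419, .ofNat 160, .negSucc 5, .negSucc 307, .ofNat 168, .negSucc 434, .negSucc 55, .ofNat 15,
  .negSucc 104, .negSucc 159, .ofNat 64, .ofNat 245, .ofNat 448, .negSucc 293, .ofNat 616, .ofNat 512,
  .negSucc 511, .negSucc 63, .ofNat 280, .negSucc 511, .ofNat 512, .negSucc 572, .ofNat 574, .negSucc 119,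
  .ofNat 420, .ofNat 405, .ofNat 0, .ofNat 0, .ofNat 162, .ofNat 0, .ofNat 0, .ofNat 315, .negSucc 404,
  .negSucc 314, .ofNat 210, .negSucc 307, .ofNat 490, .ofNat 0, .negSucc 809, .ofNat 630, .ofNat 630,
  .negSucc 63, .negSucc 56, .ofNat 202, .negSucc 243, .ofNat 139, .negSucc 440, .ofNat 350, .ofNat 196,
  .ofNat 7, .negSucc 104, .negSucc 27, .negSucc 426, .negSucc 510, .negSucc 70, .negSucc 6, .ofNat 7,
  .negSucc 97]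

/-- the values at the type 17 -/
def cX17 : List ℤ :=
  [.ofNat 144, .ofNat 210, .ofNat 786, .ofNat 852, .ofNat 1230, .ofNat 1470, .ofNat 2640, .ofNat 1854,
  .ofNat 1320, .ofNat 2880, .ofNat 732, .ofNat 936, .negSucc 47, .negSucc 89, .negSucc 431, .ofNat 3330,
  .ofNat 3330, .negSucc 959, .ofNat 768, .ofNat 1110, .ofNat 384, .negSucc 2627, .ofNat 912, .ofNat 0,
  .ofNat 0, .negSucc 767, .ofNat 720, .ofNat 0, .ofNat 0, .negSucc 1925, .ofNat 1428, .negSucc 2063,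
  .ofNat 120, .ofNat 486, .negSucc 3839, .ofNat 0, .negSucc 4211, .ofNat 0, .ofNat 3840, .negSucc 1589,
  .ofNat 2106, .ofNat 1974, .ofNat 60, .ofNat 456, .ofNat 300, .negSucc 767, .ofNat 1620, .ofNat 660,
  .negSucc 2699, .ofNat 240, .ofNat 738, .ofNat 1260, .ofNat 1320, .ofNat 1002, .ofNat 354, .ofNat 1956,
  .ofNat 2184, .negSucc 29, .ofNat 2370, .ofNat 1080, .ofNat 390, .ofNat 558, .ofNat 798, .negSucc 1505,
  .negSucc 29, .ofNat 660]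

/-- the values at the type 18 -/
def cX18 : List ℤ :=
  [.negSucc 71, .negSucc 104, .negSucc 392, .negSucc 425, .negSucc 614, .negSucc 734, .negSucc 1319,
  .negSucc 926, .negSucc 659, .negSucc 1439, .negSucc 365, .negSucc 467, .ofNat 24, .ofNat 45, .ofNat 216,
  .negSucc 1664, .negSucc 1664, .ofNat 480, .negSucc 383, .negSucc 554, .negSucc 191, .ofNat 1314,
  .negSucc 455, .ofNat 0, .ofNat 0, .ofNat 384, .negSucc 359, .ofNat 0, .ofNat 0, .ofNat 963, .negSucc 713,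
  .ofNat 1032, .negSucc 59, .negSucc 242, .ofNat 1920, .ofNat 0, .ofNat 2106, .ofNat 0, .negSucc 1919,
  .ofNat 795, .negSucc 1052, .negSucc 986, .negSucc 29, .negSucc 227, .negSucc 149, .ofNat 384, .negSucc 809,
  .negSucc 329, .ofNat 1350, .negSucc 119, .negSucc 368, .negSucc 629, .negSucc 659, .negSucc 500,
  .negSucc 176, .negSucc 977, .negSucc 1091, .ofNat 15, .negSucc 1184, .negSucc 539, .negSucc 194,
  .negSucc 278, .negSucc 398, .ofNat 753, .ofNat 15, .negSucc 329]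

/-- the values at the type 19 -/
def cX19 : List ℤ :=
  [.ofNat 68, .ofNat 56, .ofNat 268, .ofNat 210, .ofNat 208, .ofNat 392, .ofNat 392, .ofNat 308, .ofNat 240,
  .ofNat 240, .negSucc 165, .ofNat 252, .negSucc 221, .negSucc 239, .negSucc 209, .negSucc 239, .negSucc 55,
  .ofNat 240, .ofNat 502, .ofNat 0, .negSucc 307, .ofNat 114, .ofNat 210, .negSucc 335, .negSucc 335,
  .ofNat 210, .ofNat 0, .negSucc 15, .negSucc 15, .negSucc 11, .negSucc 209, .ofNat 324, .ofNat 0,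
  .ofNat 324, .ofNat 0, .ofNat 0, .ofNat 486, .negSucc 351, .ofNat 0, .ofNat 0, .negSucc 323, .ofNat 588,
  .ofNat 0, .ofNat 140, .ofNat 0, .negSucc 167, .ofNat 0, .ofNat 0, .ofNat 0, .ofNat 72, .ofNat 78,
  .ofNat 56, .ofNat 88, .ofNat 434, .negSucc 3, .ofNat 156, .negSucc 123, .ofNat 392, .negSucc 351,
  .negSucc 15, .ofNat 16, .negSucc 81, .negSucc 457, .ofNat 44, .negSucc 279, .negSucc 15]

/-- the values at the type 20 -/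
def cX20 : List ℤ :=
  [.negSucc 33, .negSucc 27, .negSucc 133, .negSucc 104, .negSucc 103, .negSucc 195, .negSucc 195,
  .negSucc 153, .negSucc 119, .negSucc 119, .ofNat 83, .negSucc 125, .ofNat 111, .ofNat 120, .ofNat 105,
  .ofNat 120, .ofNat 28, .negSucc 119, .negSucc 250, .ofNat 0, .ofNat 154, .negSucc 56, .negSucc 104,
  .ofNat 168, .ofNat 168, .negSucc 104, .ofNat 0, .ofNat 8, .ofNat 8, .ofNat 6, .ofNat 105, .negSucc 161,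
  .ofNat 0, .negSucc 161, .ofNat 0, .ofNat 0, .negSucc 242, .ofNat 176, .ofNat 0, .ofNat 0, .ofNat 162,
  .negSucc 293, .ofNat 0, .negSucc 69, .ofNat 0, .ofNat 84, .ofNat 0, .ofNat 0, .ofNat 0, .negSucc 35,
  .negSucc 38, .negSucc 27, .negSucc 43, .negSucc 216, .ofNat 2, .negSucc 77, .ofNat 62, .negSucc 195,
  .ofNat 176, .ofNat 8, .negSucc 7, .ofNat 41, .ofNat 229, .negSucc 21, .ofNat 140, .ofNat 8]

/-- the values at the type 21 -/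
def cX21 : List ℤ :=
  [.ofNat 4, .ofNat 4, .negSucc 3, .negSucc 7, .negSucc 7, .ofNat 12, .negSucc 11, .ofNat 24, .ofNat 0,
  .negSucc 3, .negSucc 31, .ofNat 68, .ofNat 108, .negSucc 27, .negSucc 39, .ofNat 0, .ofNat 40, .negSucc 23,
  .ofNat 64, .ofNat 76, .negSucc 43, .ofNat 0, .ofNat 60, .negSucc 31, .negSucc 63, .negSucc 23, .ofNat 32,
  .negSucc 31, .negSucc 63, .ofNat 0, .ofNat 68, .ofNat 108, .negSucc 107, .ofNat 0, .ofNat 108, .negSucc 7,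
  .ofNat 0, .ofNat 96, .ofNat 92, .ofNat 0, .ofNat 0, .negSucc 107, .ofNat 216, .ofNat 192, .negSucc 63,
  .negSucc 215, .ofNat 0, .negSucc 215, .ofNat 0, .ofNat 4, .ofNat 20, .negSucc 11, .negSucc 31, .negSucc 7,
  .negSucc 39, .negSucc 59, .ofNat 36, .negSucc 75, .ofNat 96, .ofNat 0, .ofNat 120, .negSucc 91,
  .negSucc 91, .ofNat 36, .ofNat 84, .negSucc 87]

/-- the values at the type 22 -/
def cX22 : List ℤ :=
  [.negSucc 1, .negSucc 1, .ofNat 2, .ofNat 4, .ofNat 4, .negSucc 5, .ofNat 6, .negSucc 11, .ofNat 0,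
  .ofNat 2, .ofNat 16, .negSucc 33, .negSucc 53, .ofNat 14, .ofNat 20, .ofNat 0, .negSucc 19, .ofNat 12,
  .negSucc 31, .negSucc 37, .ofNat 22, .ofNat 0, .negSucc 29, .ofNat 16, .ofNat 32, .ofNat 12, .negSucc 15,
  .ofNat 16, .ofNat 32, .ofNat 0, .negSucc 33, .negSucc 53, .ofNat 54, .ofNat 0, .negSucc 53, .ofNat 4,
  .ofNat 0, .negSucc 47, .negSucc 45, .ofNat 0, .ofNat 0, .ofNat 54, .negSucc 107, .negSucc 95, .ofNat 32,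
  .ofNat 108, .ofNat 0, .ofNat 108, .ofNat 0, .negSucc 1, .negSucc 9, .ofNat 6, .ofNat 16, .ofNat 4,
  .ofNat 20, .ofNat 30, .negSucc 17, .ofNat 38, .negSucc 47, .ofNat 0, .negSucc 59, .ofNat 46, .ofNat 46,
  .negSucc 17, .negSucc 41, .ofNat 44]

/-- the values at the type 23 -/
def cX23 : List ℤ :=
  [.ofNat 0, .ofNat 0, .ofNat 0, .ofNat 0, .ofNat 0, .ofNat 0, .ofNat 0, .ofNat 0, .ofNat 0, .ofNat 0,
  .ofNat 0, .ofNat 0, .ofNat 0, .ofNat 0, .ofNat 0, .ofNat 0, .ofNat 0, .ofNat 0, .ofNat 0, .ofNat 0,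
  .ofNat 0, .ofNat 0, .ofNat 0, .ofNat 0, .ofNat 0, .ofNat 0, .ofNat 0, .ofNat 0, .ofNat 0, .ofNat 0,
  .ofNat 0, .ofNat 0, .ofNat 0, .ofNat 0, .ofNat 0, .ofNat 0, .ofNat 0, .ofNat 0, .ofNat 0, .ofNat 0,
  .ofNat 0, .ofNat 0, .ofNat 0, .ofNat 0, .ofNat 0, .ofNat 0, .ofNat 0, .ofNat 0, .ofNat 0, .ofNat 0,
  .ofNat 0, .ofNat 0, .ofNat 0, .ofNat 0, .ofNat 0, .ofNat 0, .ofNat 0, .ofNat 0, .ofNat 0, .ofNat 0,
  .ofNat 0, .ofNat 0, .ofNat 0, .ofNat 0, .ofNat 0, .ofNat 0]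

/-- the values at the type 24 -/
def cX24 : List ℤ :=
  [.negSucc 17, .negSucc 17, .negSucc 53, .negSucc 35, .negSucc 35, .negSucc 53, .negSucc 17, .negSucc 35,
  .ofNat 0, .negSucc 53, .ofNat 0, .negSucc 17, .negSucc 53, .negSucc 17, .negSucc 35, .ofNat 0, .ofNat 36,
  .ofNat 36, .ofNat 0, .ofNat 18, .negSucc 17, .ofNat 0, .ofNat 18, .ofNat 0, .ofNat 0, .ofNat 36, .ofNat 0,
  .ofNat 0, .ofNat 0, .ofNat 0, .ofNat 54, .ofNat 90, .ofNat 54, .ofNat 0, .negSucc 53, .negSucc 35,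
  .ofNat 0, .ofNat 0, .ofNat 18, .negSucc 71, .ofNat 0, .ofNat 54, .ofNat 36, .ofNat 0, .ofNat 0,
  .negSucc 35, .ofNat 0, .ofNat 108, .ofNat 0, .negSucc 17, .negSucc 17, .negSucc 17, .ofNat 0, .negSucc 35,
  .ofNat 36, .negSucc 17, .negSucc 17, .negSucc 17, .ofNat 0, .ofNat 72, .ofNat 36, .negSucc 17, .negSucc 17,
  .negSucc 17, .negSucc 17, .negSucc 35]

/-- the values at the type 25 -/
def cX25 : List ℤ :=
  [.ofNat 36, .ofNat 36, .ofNat 108, .ofNat 72, .ofNat 72, .ofNat 108, .ofNat 36, .ofNat 72, .ofNat 0,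
  .ofNat 108, .ofNat 0, .ofNat 36, .ofNat 108, .ofNat 36, .ofNat 72, .ofNat 0, .negSucc 71, .negSucc 71,
  .ofNat 0, .negSucc 35, .ofNat 36, .ofNat 0, .negSucc 35, .ofNat 0, .ofNat 0, .negSucc 71, .ofNat 0,
  .ofNat 0, .ofNat 0, .ofNat 0, .negSucc 107, .negSucc 179, .negSucc 107, .ofNat 0, .ofNat 108, .ofNat 72,
  .ofNat 0, .ofNat 0, .negSucc 35, .ofNat 144, .ofNat 0, .negSucc 107, .negSucc 71, .ofNat 0, .ofNat 0,
  .ofNat 72, .ofNat 0, .negSucc 215, .ofNat 0, .ofNat 36, .ofNat 36, .ofNat 36, .ofNat 0, .ofNat 72,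
  .negSucc 71, .ofNat 36, .ofNat 36, .ofNat 36, .ofNat 0, .negSucc 143, .negSucc 71, .ofNat 36, .ofNat 36,
  .ofNat 36, .ofNat 36, .ofNat 72]

/-- the values at the type 26 -/
def cX26 : List ℤ :=
  [.ofNat 0, .negSucc 17, .negSucc 17, .ofNat 18, .ofNat 18, .ofNat 54, .negSucc 35, .negSucc 53, .ofNat 90,
  .ofNat 0, .negSucc 71, .negSucc 17, .negSucc 17, .negSucc 35, .ofNat 18, .ofNat 54, .ofNat 18, .negSucc 71,
  .negSucc 71, .negSucc 35, .ofNat 36, .ofNat 54, .ofNat 90, .ofNat 0, .ofNat 0, .negSucc 71, .ofNat 0,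
  .ofNat 0, .ofNat 0, .ofNat 0, .ofNat 18, .ofNat 36, .negSucc 89, .ofNat 0, .ofNat 72, .ofNat 0, .ofNat 0,
  .ofNat 0, .ofNat 72, .ofNat 108, .ofNat 0, .ofNat 72, .negSucc 35, .negSucc 143, .ofNat 144, .ofNat 72,
  .ofNat 0, .ofNat 72, .ofNat 0, .ofNat 36, .ofNat 18, .negSucc 89, .ofNat 18, .negSucc 35, .ofNat 126,
  .ofNat 54, .negSucc 17, .ofNat 90, .ofNat 18, .negSucc 89, .ofNat 36, .ofNat 36, .negSucc 17, .negSucc 89,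
  .ofNat 90, .negSucc 251]

/-- the values at the type 27 -/
def cX27 : List ℤ :=
  [.ofNat 0, .ofNat 9, .ofNat 9, .negSucc 8, .negSucc 8, .negSucc 26, .ofNat 18, .ofNat 27, .negSucc 44,
  .ofNat 0, .ofNat 36, .ofNat 9, .ofNat 9, .ofNat 18, .negSucc 8, .negSucc 26, .negSucc 8, .ofNat 36,
  .ofNat 36, .ofNat 18, .negSucc 17, .negSucc 26, .negSucc 44, .ofNat 0, .ofNat 0, .ofNat 36, .ofNat 0,
  .ofNat 0, .ofNat 0, .ofNat 0, .negSucc 8, .negSucc 17, .ofNat 45, .ofNat 0, .negSucc 35, .ofNat 0,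
  .ofNat 0, .ofNat 0, .negSucc 35, .negSucc 53, .ofNat 0, .negSucc 35, .ofNat 18, .ofNat 72, .negSucc 71,
  .negSucc 35, .ofNat 0, .negSucc 35, .ofNat 0, .negSucc 17, .negSucc 8, .ofNat 45, .negSucc 8, .ofNat 18,
  .negSucc 62, .negSucc 26, .ofNat 9, .negSucc 44, .negSucc 8, .ofNat 45, .negSucc 17, .negSucc 17, .ofNat 9,
  .ofNat 45, .negSucc 44, .ofNat 126]

/-- the values at the type 28 -/
def cX28 : List ℤ :=
  [.ofNat 0, .ofNat 0, .ofNat 0, .ofNat 0, .ofNat 0, .ofNat 0, .ofNat 0, .ofNat 0, .ofNat 0, .ofNat 0,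
  .ofNat 0, .ofNat 0, .ofNat 0, .ofNat 0, .ofNat 0, .ofNat 0, .ofNat 0, .ofNat 0, .ofNat 0, .ofNat 0,
  .ofNat 0, .ofNat 0, .ofNat 0, .ofNat 0, .ofNat 0, .ofNat 0, .ofNat 0, .ofNat 0, .ofNat 0, .ofNat 0,
  .ofNat 0, .ofNat 0, .ofNat 0, .ofNat 0, .ofNat 0, .ofNat 0, .ofNat 0, .ofNat 0, .ofNat 0, .ofNat 0,
  .ofNat 0, .ofNat 0, .ofNat 0, .ofNat 0, .ofNat 0, .ofNat 0, .ofNat 0, .ofNat 0, .ofNat 0, .ofNat 0,
  .ofNat 0, .ofNat 0, .ofNat 0, .ofNat 0, .ofNat 0, .ofNat 0, .ofNat 0, .ofNat 0, .ofNat 0, .ofNat 0,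
  .ofNat 0, .ofNat 0, .ofNat 0, .ofNat 0, .ofNat 0, .ofNat 0]

/-- the values at the type 29 -/
def cX29 : List ℤ :=
  [.negSucc 49, .negSucc 49, .negSucc 57, .negSucc 115, .ofNat 208, .negSucc 581, .ofNat 258, .ofNat 1266,
  .ofNat 810, .negSucc 867, .negSucc 787, .negSucc 93, .ofNat 1080, .negSucc 675, .ofNat 608, .ofNat 1134,
  .negSucc 715, .ofNat 516, .negSucc 367, .ofNat 76, .ofNat 712, .negSucc 1133, .ofNat 168, .negSucc 895,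
  .ofNat 1664, .negSucc 1103, .ofNat 950, .negSucc 895, .ofNat 1664, .negSucc 1133, .negSucc 1659,
  .ofNat 2214, .ofNat 54, .ofNat 0, .negSucc 1511, .ofNat 1504, .ofNat 0, .negSucc 767, .negSucc 1527,
  .ofNat 162, .ofNat 0, .ofNat 54, .ofNat 216, .ofNat 84, .ofNat 152, .ofNat 432, .ofNat 0, .negSucc 539,
  .negSucc 971, .ofNat 58, .ofNat 20, .ofNat 258, .negSucc 85, .negSucc 493, .ofNat 716, .negSucc 5,
  .ofNat 36, .negSucc 507, .ofNat 204, .negSucc 431, .ofNat 822, .negSucc 307, .negSucc 307, .ofNat 1116,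
  .ofNat 516, .ofNat 128]

/-- the values at the type 30 -/
def cX30 : List ℤ :=
  [.ofNat 25, .ofNat 25, .ofNat 29, .ofNat 58, .negSucc 103, .ofNat 291, .negSucc 128, .negSucc 632,
  .negSucc 404, .ofNat 434, .ofNat 394, .ofNat 47, .negSucc 539, .ofNat 338, .negSucc 303, .negSucc 566,
  .ofNat 358, .negSucc 257, .ofNat 184, .negSucc 37, .negSucc 355, .ofNat 567, .negSucc 83, .ofNat 448,
  .negSucc 831, .ofNat 552, .negSucc 474, .ofNat 448, .negSucc 831, .ofNat 567, .ofNat 830, .negSucc 1106,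
  .negSucc 26, .ofNat 0, .ofNat 756, .negSucc 751, .ofNat 0, .ofNat 384, .ofNat 764, .negSucc 80, .ofNat 0,
  .negSucc 26, .negSucc 107, .negSucc 41, .negSucc 75, .negSucc 215, .ofNat 0, .ofNat 270, .ofNat 486,
  .negSucc 28, .negSucc 9, .negSucc 128, .ofNat 43, .ofNat 247, .negSucc 357, .ofNat 3, .negSucc 17,
  .ofNat 254, .negSucc 101, .ofNat 216, .negSucc 410, .ofNat 154, .ofNat 154, .negSucc 557, .negSucc 257,
  .negSucc 63]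

/-- the values at the type 31 -/
def cX31 : List ℤ :=
  [.ofNat 40, .ofNat 22, .ofNat 86, .ofNat 82, .ofNat 154, .ofNat 102, .ofNat 276, .ofNat 42, .ofNat 162,
  .negSucc 183, .negSucc 175, .negSucc 129, .ofNat 54, .ofNat 476, .negSucc 21, .negSucc 161, .ofNat 490,
  .ofNat 336, .negSucc 367, .negSucc 211, .negSucc 43, .negSucc 161, .negSucc 29, .negSucc 319, .negSucc 63,
  .negSucc 95, .ofNat 320, .negSucc 319, .negSucc 63, .ofNat 0, .negSucc 21, .negSucc 107, .ofNat 270,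
  .ofNat 0, .ofNat 216, .negSucc 223, .ofNat 0, .ofNat 384, .negSucc 87, .ofNat 324, .ofNat 0, .negSucc 215,
  .ofNat 108, .negSucc 95, .ofNat 224, .ofNat 216, .ofNat 0, .ofNat 216, .ofNat 0, .ofNat 76, .ofNat 2,
  .ofNat 6, .ofNat 274, .ofNat 28, .negSucc 57, .ofNat 30, .negSucc 17, .ofNat 50, .negSucc 101, .ofNat 342,
  .ofNat 156, .negSucc 91, .negSucc 145, .ofNat 126, .negSucc 77, .ofNat 20]

/-- the values at the type 32 -/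
def cX32 : List ℤ :=
  [.negSucc 19, .negSucc 10, .negSucc 42, .negSucc 40, .negSucc 76, .negSucc 50, .negSucc 137, .negSucc 20,
  .negSucc 80, .ofNat 92, .ofNat 88, .ofNat 65, .negSucc 26, .negSucc 237, .ofNat 11, .ofNat 81,
  .negSucc 244, .negSucc 167, .ofNat 184, .ofNat 106, .ofNat 22, .ofNat 81, .ofNat 15, .ofNat 160, .ofNat 32,
  .ofNat 48, .negSucc 159, .ofNat 160, .ofNat 32, .ofNat 0, .ofNat 11, .ofNat 54, .negSucc 134, .ofNat 0,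
  .negSucc 107, .ofNat 112, .ofNat 0, .negSucc 191, .ofNat 44, .negSucc 161, .ofNat 0, .ofNat 108,
  .negSucc 53, .ofNat 48, .negSucc 111, .negSucc 107, .ofNat 0, .negSucc 107, .ofNat 0, .negSucc 37,
  .negSucc 0, .negSucc 2, .negSucc 136, .negSucc 13, .ofNat 29, .negSucc 14, .ofNat 9, .negSucc 24,
  .ofNat 51, .negSucc 170, .negSucc 77, .ofNat 46, .ofNat 73, .negSucc 62, .ofNat 39, .negSucc 9]

/-- the values at the type 33 -/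
def cX33 : List ℤ :=
  [.negSucc 17, .negSucc 17, .ofNat 54, .negSucc 35, .negSucc 143, .negSucc 53, .negSucc 125, .ofNat 450,
  .negSucc 53, .ofNat 108, .ofNat 108, .ofNat 306, .ofNat 216, .ofNat 684, .ofNat 288, .negSucc 161,
  .negSucc 395, .ofNat 468, .ofNat 432, .negSucc 467, .negSucc 503, .ofNat 162, .ofNat 936, .ofNat 0,
  .ofNat 0, .ofNat 144, .negSucc 809, .ofNat 0, .ofNat 0, .ofNat 162, .ofNat 756, .ofNat 198, .negSucc 377,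
  .ofNat 0, .negSucc 647, .ofNat 288, .ofNat 0, .ofNat 0, .ofNat 72, .ofNat 738, .ofNat 0, .negSucc 377,
  .negSucc 71, .negSucc 107, .ofNat 1080, .negSucc 143, .ofNat 0, .ofNat 324, .negSucc 971, .ofNat 90,
  .ofNat 36, .negSucc 125, .ofNat 378, .ofNat 18, .ofNat 252, .negSucc 341, .negSucc 395, .negSucc 395,
  .ofNat 540, .ofNat 288, .negSucc 665, .ofNat 252, .ofNat 252, .ofNat 684, .negSucc 395, .negSucc 143]

/-- the values at the type 34 -/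
def cX34 : List ℤ :=
  [.ofNat 9, .ofNat 9, .negSucc 26, .ofNat 18, .ofNat 72, .ofNat 27, .ofNat 63, .negSucc 224, .ofNat 27,
  .negSucc 53, .negSucc 53, .negSucc 152, .negSucc 107, .negSucc 341, .negSucc 143, .ofNat 81, .ofNat 198,
  .negSucc 233, .negSucc 215, .ofNat 234, .ofNat 252, .negSucc 80, .negSucc 467, .ofNat 0, .ofNat 0,
  .negSucc 71, .ofNat 405, .ofNat 0, .ofNat 0, .negSucc 80, .negSucc 377, .negSucc 98, .ofNat 189, .ofNat 0,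
  .ofNat 324, .negSucc 143, .ofNat 0, .ofNat 0, .negSucc 35, .negSucc 368, .ofNat 0, .ofNat 189, .ofNat 36,
  .ofNat 54, .negSucc 539, .ofNat 72, .ofNat 0, .negSucc 161, .ofNat 486, .negSucc 44, .negSucc 17,
  .ofNat 63, .negSucc 188, .negSucc 8, .negSucc 125, .ofNat 171, .ofNat 198, .ofNat 198, .negSucc 269,
  .negSucc 143, .ofNat 333, .negSucc 125, .negSucc 125, .negSucc 341, .ofNat 198, .ofNat 72]

/-- the values at the type 35 -/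
def cX35 : List ℤ :=
  [.negSucc 71, .ofNat 198, .negSucc 377, .ofNat 882, .negSucc 629, .negSucc 377, .negSucc 1691,
  .negSucc 629, .ofNat 1458, .negSucc 1511, .ofNat 0, .ofNat 2142, .negSucc 377, .ofNat 252, .negSucc 1061,
  .negSucc 1457, .negSucc 1637, .negSucc 1151, .ofNat 0, .ofNat 1260, .negSucc 1259, .negSucc 1457,
  .ofNat 882, .ofNat 0, .ofNat 0, .negSucc 2447, .ofNat 0, .ofNat 0, .ofNat 0, .ofNat 0, .ofNat 378,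
  .negSucc 1259, .negSucc 1889, .ofNat 0, .ofNat 1080, .negSucc 1439, .ofNat 0, .ofNat 0, .negSucc 2519,
  .negSucc 1259, .ofNat 0, .ofNat 1512, .negSucc 179, .ofNat 0, .ofNat 0, .ofNat 504, .ofNat 0, .ofNat 1080,
  .ofNat 0, .ofNat 252, .ofNat 738, .ofNat 1062, .ofNat 1458, .ofNat 828, .ofNat 630, .ofNat 1710,
  .ofNat 1710, .ofNat 738, .ofNat 810, .ofNat 2070, .negSucc 179, .negSucc 1691, .ofNat 1710, .ofNat 1710,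
  .ofNat 738, .ofNat 180]

/-- the values at the type 36 -/
def cX36 : List ℤ :=
  [.ofNat 36, .negSucc 98, .ofNat 189, .negSucc 440, .ofNat 315, .ofNat 189, .ofNat 846, .ofNat 315,
  .negSucc 728, .ofNat 756, .ofNat 0, .negSucc 1070, .ofNat 189, .negSucc 125, .ofNat 531, .ofNat 729,
  .ofNat 819, .ofNat 576, .ofNat 0, .negSucc 629, .ofNat 630, .ofNat 729, .negSucc 440, .ofNat 0, .ofNat 0,
  .ofNat 1224, .ofNat 0, .ofNat 0, .ofNat 0, .ofNat 0, .negSucc 188, .ofNat 630, .ofNat 945, .ofNat 0,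
  .negSucc 539, .ofNat 720, .ofNat 0, .ofNat 0, .ofNat 1260, .ofNat 630, .ofNat 0, .negSucc 755, .ofNat 90,
  .ofNat 0, .ofNat 0, .negSucc 251, .ofNat 0, .negSucc 539, .ofNat 0, .negSucc 125, .negSucc 368,
  .negSucc 530, .negSucc 728, .negSucc 413, .negSucc 314, .negSucc 854, .negSucc 854, .negSucc 368,
  .negSucc 404, .negSucc 1034, .ofNat 90, .ofNat 846, .negSucc 854, .negSucc 854, .negSucc 368, .negSucc 89]

/-- the values at the type 37 -/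
def cX37 : List ℤ :=
  [.negSucc 31, .ofNat 256, .negSucc 255, .ofNat 928, .negSucc 223, .negSucc 671, .negSucc 191,
  .negSucc 1343, .ofNat 0, .negSucc 1119, .ofNat 4000, .ofNat 2912, .ofNat 0, .negSucc 639, .ofNat 2912,
  .ofNat 0, .negSucc 895, .ofNat 480, .negSucc 4255, .ofNat 1120, .ofNat 1792, .ofNat 5184, .ofNat 2688,
  .ofNat 256, .negSucc 1791, .ofNat 2208, .negSucc 1119, .ofNat 256, .negSucc 1791, .negSucc 5183,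
  .ofNat 2912, .ofNat 0, .ofNat 0, .ofNat 0, .ofNat 0, .ofNat 640, .ofNat 0, .ofNat 1536, .negSucc 4479,
  .ofNat 0, .ofNat 0, .ofNat 0, .ofNat 0, .ofNat 1344, .ofNat 2240, .ofNat 0, .ofNat 0, .ofNat 0, .ofNat 0,
  .ofNat 256, .ofNat 1280, .ofNat 1536, .ofNat 1120, .ofNat 64, .ofNat 1760, .ofNat 2496, .ofNat 3168,
  .ofNat 608, .ofNat 1536, .negSucc 1151, .ofNat 4512, .ofNat 5632, .negSucc 6463, .negSucc 863,
  .negSucc 671, .ofNat 4448]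

/-- the values at the type 38 -/
def cX38 : List ℤ :=
  [.ofNat 16, .negSucc 127, .ofNat 128, .negSucc 463, .ofNat 112, .ofNat 336, .ofNat 96, .ofNat 672,
  .ofNat 0, .ofNat 560, .negSucc 1999, .negSucc 1455, .ofNat 0, .ofNat 320, .negSucc 1455, .ofNat 0,
  .ofNat 448, .negSucc 239, .ofNat 2128, .negSucc 559, .negSucc 895, .negSucc 2591, .negSucc 1343,
  .negSucc 127, .ofNat 896, .negSucc 1103, .ofNat 560, .negSucc 127, .ofNat 896, .ofNat 2592, .negSucc 1455,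
  .ofNat 0, .ofNat 0, .ofNat 0, .ofNat 0, .negSucc 319, .ofNat 0, .negSucc 767, .ofNat 2240, .ofNat 0,
  .ofNat 0, .ofNat 0, .ofNat 0, .negSucc 671, .negSucc 1119, .ofNat 0, .ofNat 0, .ofNat 0, .ofNat 0,
  .negSucc 127, .negSucc 639, .negSucc 767, .negSucc 559, .negSucc 31, .negSucc 879, .negSucc 1247,
  .negSucc 1583, .negSucc 303, .negSucc 767, .ofNat 576, .negSucc 2255, .negSucc 2815, .ofNat 3232,
  .ofNat 432, .ofNat 336, .negSucc 2223]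

/-- the values at the type 39 -/
def cX39 : List ℤ :=
  [.ofNat 0, .ofNat 0, .ofNat 0, .ofNat 0, .ofNat 0, .ofNat 0, .ofNat 0, .ofNat 0, .ofNat 0, .ofNat 0,
  .ofNat 0, .ofNat 0, .ofNat 0, .ofNat 0, .ofNat 0, .ofNat 0, .ofNat 0, .ofNat 0, .ofNat 0, .ofNat 0,
  .ofNat 0, .ofNat 0, .ofNat 0, .ofNat 0, .ofNat 0, .ofNat 0, .ofNat 0, .ofNat 0, .ofNat 0, .ofNat 0,
  .ofNat 0, .ofNat 0, .ofNat 0, .ofNat 0, .ofNat 0, .ofNat 0, .ofNat 0, .ofNat 0, .ofNat 0, .ofNat 0,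
  .ofNat 0, .ofNat 0, .ofNat 0, .ofNat 0, .ofNat 0, .ofNat 0, .ofNat 0, .ofNat 0, .ofNat 0, .ofNat 0,
  .ofNat 0, .ofNat 0, .ofNat 0, .ofNat 0, .ofNat 0, .ofNat 0, .ofNat 0, .ofNat 0, .ofNat 0, .ofNat 0,
  .ofNat 0, .ofNat 0, .ofNat 0, .ofNat 0, .ofNat 0, .ofNat 0]

/-- the values at the type 40 -/
def cX40 : List ℤ :=
  [.ofNat 18, .ofNat 30, .ofNat 42, .ofNat 30, .ofNat 48, .ofNat 0, .ofNat 60, .ofNat 0, .negSucc 47,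
  .ofNat 42, .ofNat 42, .ofNat 0, .negSucc 47, .negSucc 41, .ofNat 0, .ofNat 18, .ofNat 0, .negSucc 17,
  .negSucc 41, .ofNat 0, .ofNat 0, .ofNat 12, .ofNat 0, .ofNat 30, .ofNat 30, .negSucc 29, .ofNat 0,
  .negSucc 41, .negSucc 41, .ofNat 42, .ofNat 0, .ofNat 42, .ofNat 0, .negSucc 17, .ofNat 0, .negSucc 59,
  .ofNat 66, .negSucc 11, .ofNat 0, .ofNat 0, .negSucc 41, .ofNat 0, .ofNat 0, .ofNat 0, .ofNat 0, .ofNat 0,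
  .negSucc 59, .ofNat 0, .ofNat 0, .ofNat 42, .ofNat 54, .ofNat 30, .ofNat 54, .negSucc 29, .ofNat 36,
  .ofNat 12, .ofNat 12, .negSucc 119, .negSucc 11, .negSucc 11, .ofNat 12, .ofNat 12, .ofNat 54, .ofNat 12,
  .ofNat 0, .negSucc 11]

/-- the values at the type 41 -/
def cX41 : List ℤ :=
  [.negSucc 8, .negSucc 14, .negSucc 20, .negSucc 14, .negSucc 23, .ofNat 0, .negSucc 29, .ofNat 0,
  .ofNat 24, .negSucc 20, .negSucc 20, .ofNat 0, .ofNat 24, .ofNat 21, .ofNat 0, .negSucc 8, .ofNat 0,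
  .ofNat 9, .ofNat 21, .ofNat 0, .ofNat 0, .negSucc 5, .ofNat 0, .negSucc 14, .negSucc 14, .ofNat 15,
  .ofNat 0, .ofNat 21, .ofNat 21, .negSucc 20, .ofNat 0, .negSucc 20, .ofNat 0, .ofNat 9, .ofNat 0,
  .ofNat 30, .negSucc 32, .ofNat 6, .ofNat 0, .ofNat 0, .ofNat 21, .ofNat 0, .ofNat 0, .ofNat 0, .ofNat 0,
  .ofNat 0, .ofNat 30, .ofNat 0, .ofNat 0, .negSucc 20, .negSucc 26, .negSucc 14, .negSucc 26, .ofNat 15,
  .negSucc 17, .negSucc 5, .negSucc 5, .ofNat 60, .ofNat 6, .ofNat 6, .negSucc 5, .negSucc 5, .negSucc 26,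
  .negSucc 5, .ofNat 0, .ofNat 6]

/-- the values at the type 42 -/
def cX42 : List ℤ :=
  [.negSucc 1, .negSucc 0, .ofNat 0, .ofNat 6, .ofNat 4, .ofNat 0, .negSucc 1, .ofNat 0, .negSucc 10,
  .ofNat 0, .ofNat 0, .ofNat 0, .negSucc 17, .ofNat 0, .negSucc 6, .negSucc 1, .ofNat 0, .ofNat 9, .ofNat 0,
  .ofNat 0, .ofNat 0, .ofNat 1, .ofNat 0, .ofNat 6, .ofNat 6, .negSucc 12, .ofNat 0, .ofNat 0, .ofNat 0,
  .ofNat 0, .ofNat 0, .ofNat 0, .ofNat 0, .ofNat 9, .ofNat 7, .ofNat 16, .negSucc 11, .ofNat 6, .ofNat 0,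
  .ofNat 0, .ofNat 0, .ofNat 0, .ofNat 14, .ofNat 0, .ofNat 0, .ofNat 0, .negSucc 11, .negSucc 13, .ofNat 0,
  .ofNat 0, .negSucc 5, .negSucc 0, .ofNat 1, .ofNat 1, .ofNat 10, .ofNat 1, .ofNat 1, .ofNat 4, .negSucc 0,
  .negSucc 0, .ofNat 1, .ofNat 1, .ofNat 1, .ofNat 1, .negSucc 13, .negSucc 0]

/-- the values at the type 43 -/
def cX43 : List ℤ :=
  [.ofNat 4, .ofNat 2, .ofNat 0, .negSucc 11, .negSucc 7, .ofNat 0, .ofNat 4, .ofNat 0, .ofNat 22, .ofNat 0,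
  .ofNat 0, .ofNat 0, .ofNat 36, .ofNat 0, .ofNat 14, .ofNat 4, .ofNat 0, .negSucc 17, .ofNat 0, .ofNat 0,
  .ofNat 0, .negSucc 1, .ofNat 0, .negSucc 11, .negSucc 11, .ofNat 26, .ofNat 0, .ofNat 0, .ofNat 0,
  .ofNat 0, .ofNat 0, .ofNat 0, .ofNat 0, .negSucc 17, .negSucc 13, .negSucc 31, .ofNat 24, .negSucc 11,
  .ofNat 0, .ofNat 0, .ofNat 0, .ofNat 0, .negSucc 27, .ofNat 0, .ofNat 0, .ofNat 0, .ofNat 24, .ofNat 28,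
  .ofNat 0, .ofNat 0, .ofNat 12, .ofNat 2, .negSucc 1, .negSucc 1, .negSucc 19, .negSucc 1, .negSucc 1,
  .negSucc 7, .ofNat 2, .ofNat 2, .negSucc 1, .negSucc 1, .negSucc 1, .negSucc 1, .ofNat 28, .ofNat 2]

/-- the values at the type 44 -/
def cX44 : List ℤ :=
  [.ofNat 16, .ofNat 10, .ofNat 26, .ofNat 12, .ofNat 6, .ofNat 22, .negSucc 15, .negSucc 1, .ofNat 8,
  .ofNat 0, .ofNat 4, .negSucc 7, .ofNat 0, .ofNat 6, .ofNat 0, .ofNat 2, .negSucc 21, .ofNat 0, .ofNat 0,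
  .negSucc 9, .ofNat 0, .ofNat 4, .ofNat 0, .ofNat 0, .ofNat 0, .ofNat 0, .ofNat 16, .ofNat 0, .ofNat 0,
  .ofNat 10, .ofNat 12, .ofNat 16, .ofNat 8, .negSucc 17, .ofNat 0, .ofNat 0, .negSucc 11, .ofNat 0,
  .ofNat 0, .negSucc 21, .ofNat 18, .negSucc 9, .ofNat 12, .negSucc 7, .ofNat 12, .ofNat 0, .negSucc 11,
  .ofNat 20, .ofNat 4, .ofNat 8, .negSucc 5, .negSucc 3, .negSucc 7, .ofNat 26, .negSucc 5, .ofNat 4,
  .ofNat 0, .negSucc 5, .negSucc 5, .negSucc 7, .ofNat 14, .ofNat 6, .ofNat 6, .ofNat 6, .negSucc 5,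
  .negSucc 3]

/-- the values at the type 45 -/
def cX45 : List ℤ :=
  [.negSucc 7, .negSucc 4, .negSucc 12, .negSucc 5, .negSucc 2, .negSucc 10, .ofNat 8, .ofNat 1, .negSucc 3,
  .ofNat 0, .negSucc 1, .ofNat 4, .ofNat 0, .negSucc 2, .ofNat 0, .negSucc 0, .ofNat 11, .ofNat 0, .ofNat 0,
  .ofNat 5, .ofNat 0, .negSucc 1, .ofNat 0, .ofNat 0, .ofNat 0, .ofNat 0, .negSucc 7, .ofNat 0, .ofNat 0,
  .negSucc 4, .negSucc 5, .negSucc 7, .negSucc 3, .ofNat 9, .ofNat 0, .ofNat 0, .ofNat 6, .ofNat 0, .ofNat 0,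
  .ofNat 11, .negSucc 8, .ofNat 5, .negSucc 5, .ofNat 4, .negSucc 5, .ofNat 0, .ofNat 6, .negSucc 9,
  .negSucc 1, .negSucc 3, .ofNat 3, .ofNat 2, .ofNat 4, .negSucc 12, .ofNat 3, .negSucc 1, .ofNat 0,
  .ofNat 3, .ofNat 3, .ofNat 4, .negSucc 6, .negSucc 2, .negSucc 2, .negSucc 2, .ofNat 3, .ofNat 2]

/-- the values at the type 46 -/
def cX46 : List ℤ :=
  [.ofNat 0, .negSucc 5, .negSucc 5, .ofNat 12, .ofNat 6, .ofNat 6, .ofNat 0, .negSucc 17, .ofNat 24,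
  .ofNat 0, .negSucc 11, .ofNat 24, .ofNat 0, .ofNat 6, .ofNat 0, .ofNat 18, .negSucc 5, .ofNat 0, .ofNat 0,
  .ofNat 6, .ofNat 0, .negSucc 11, .ofNat 0, .ofNat 0, .ofNat 0, .ofNat 0, .ofNat 0, .ofNat 0, .ofNat 0,
  .negSucc 5, .ofNat 12, .ofNat 0, .ofNat 24, .negSucc 17, .ofNat 0, .ofNat 0, .negSucc 11, .ofNat 0,
  .ofNat 0, .negSucc 5, .negSucc 29, .ofNat 6, .ofNat 12, .ofNat 24, .ofNat 12, .ofNat 0, .negSucc 11,
  .negSucc 11, .ofNat 36, .ofNat 24, .negSucc 5, .negSucc 35, .ofNat 24, .negSucc 5, .negSucc 5, .negSucc 11,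
  .ofNat 0, .negSucc 5, .negSucc 5, .negSucc 23, .negSucc 17, .ofNat 6, .ofNat 6, .ofNat 6, .negSucc 5,
  .ofNat 12]

/-- the values at the type 47 -/
def cX47 : List ℤ :=
  [.ofNat 0, .ofNat 3, .ofNat 3, .negSucc 5, .negSucc 2, .negSucc 2, .ofNat 0, .ofNat 9, .negSucc 11,
  .ofNat 0, .ofNat 6, .negSucc 11, .ofNat 0, .negSucc 2, .ofNat 0, .negSucc 8, .ofNat 3, .ofNat 0, .ofNat 0,
  .negSucc 2, .ofNat 0, .ofNat 6, .ofNat 0, .ofNat 0, .ofNat 0, .ofNat 0, .ofNat 0, .ofNat 0, .ofNat 0,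
  .ofNat 3, .negSucc 5, .ofNat 0, .negSucc 11, .ofNat 9, .ofNat 0, .ofNat 0, .ofNat 6, .ofNat 0, .ofNat 0,
  .ofNat 3, .ofNat 15, .negSucc 2, .negSucc 5, .negSucc 11, .negSucc 5, .ofNat 0, .ofNat 6, .ofNat 6,
  .negSucc 17, .negSucc 11, .ofNat 3, .ofNat 18, .negSucc 11, .ofNat 3, .ofNat 3, .ofNat 6, .ofNat 0,
  .ofNat 3, .ofNat 3, .ofNat 12, .ofNat 9, .negSucc 2, .negSucc 2, .negSucc 2, .ofNat 3, .negSucc 5]

/-- the values at the type 48 -/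
def cX48 : List ℤ :=
  [.ofNat 0, .ofNat 2, .ofNat 2, .ofNat 4, .negSucc 1, .negSucc 1, .ofNat 0, .negSucc 1, .ofNat 8, .ofNat 0,
  .ofNat 12, .negSucc 7, .ofNat 16, .ofNat 6, .negSucc 15, .ofNat 2, .ofNat 2, .ofNat 0, .ofNat 0, .ofNat 6,
  .ofNat 0, .negSucc 3, .negSucc 15, .ofNat 0, .ofNat 0, .ofNat 0, .ofNat 0, .ofNat 0, .ofNat 0, .negSucc 5,
  .ofNat 4, .ofNat 0, .negSucc 7, .ofNat 6, .ofNat 0, .ofNat 0, .ofNat 12, .ofNat 0, .ofNat 0, .negSucc 5,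
  .negSucc 5, .ofNat 6, .ofNat 28, .negSucc 23, .ofNat 12, .ofNat 0, .negSucc 11, .negSucc 11, .negSucc 11,
  .ofNat 0, .ofNat 2, .negSucc 3, .negSucc 7, .negSucc 5, .ofNat 2, .ofNat 4, .negSucc 7, .ofNat 2, .ofNat 2,
  .ofNat 8, .negSucc 9, .ofNat 14, .negSucc 1, .negSucc 1, .ofNat 2, .ofNat 4]

/-- the values at the type 49 -/
def cX49 : List ℤ :=
  [.ofNat 0, .negSucc 0, .negSucc 0, .negSucc 1, .ofNat 1, .ofNat 1, .ofNat 0, .ofNat 1, .negSucc 3,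
  .ofNat 0, .negSucc 5, .ofNat 4, .negSucc 7, .negSucc 2, .ofNat 8, .negSucc 0, .negSucc 0, .ofNat 0,
  .ofNat 0, .negSucc 2, .ofNat 0, .ofNat 2, .ofNat 8, .ofNat 0, .ofNat 0, .ofNat 0, .ofNat 0, .ofNat 0,
  .ofNat 0, .ofNat 3, .negSucc 1, .ofNat 0, .ofNat 4, .negSucc 2, .ofNat 0, .ofNat 0, .negSucc 5, .ofNat 0,
  .ofNat 0, .ofNat 3, .ofNat 3, .negSucc 2, .negSucc 13, .ofNat 12, .negSucc 5, .ofNat 0, .ofNat 6, .ofNat 6,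
  .ofNat 6, .ofNat 0, .negSucc 0, .ofNat 2, .ofNat 4, .ofNat 3, .negSucc 0, .negSucc 1, .ofNat 4, .negSucc 0,
  .negSucc 0, .negSucc 3, .ofNat 5, .negSucc 6, .ofNat 1, .ofNat 1, .negSucc 0, .negSucc 1]

/-- the values at the type 50 -/
def cX50 : List ℤ :=
  [.ofNat 0, .ofNat 0, .ofNat 0, .ofNat 0, .ofNat 0, .ofNat 0, .ofNat 0, .ofNat 0, .ofNat 0, .ofNat 0,
  .ofNat 0, .ofNat 0, .ofNat 0, .ofNat 0, .ofNat 0, .ofNat 0, .ofNat 0, .ofNat 0, .ofNat 0, .ofNat 0,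
  .ofNat 0, .ofNat 0, .ofNat 0, .ofNat 0, .ofNat 0, .ofNat 0, .ofNat 0, .ofNat 0, .ofNat 0, .ofNat 0,
  .ofNat 0, .ofNat 0, .ofNat 0, .ofNat 0, .ofNat 0, .ofNat 0, .ofNat 0, .ofNat 0, .ofNat 0, .ofNat 0,
  .ofNat 0, .ofNat 0, .ofNat 0, .ofNat 0, .ofNat 0, .ofNat 0, .ofNat 0, .ofNat 0, .ofNat 0, .ofNat 0,
  .ofNat 0, .ofNat 0, .ofNat 0, .ofNat 0, .ofNat 0, .ofNat 0, .ofNat 0, .ofNat 0, .ofNat 0, .ofNat 0,
  .ofNat 0, .ofNat 0, .ofNat 0, .ofNat 0, .ofNat 0, .ofNat 0]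

/-- the values at the type 51 -/
def cX51 : List ℤ :=
  [.ofNat 12, .ofNat 6, .ofNat 12, .ofNat 6, .ofNat 12, .ofNat 0, .ofNat 0, .ofNat 0, .ofNat 0, .negSucc 11,
  .negSucc 11, .negSucc 5, .ofNat 0, .negSucc 11, .negSucc 5, .ofNat 0, .ofNat 12, .ofNat 0, .negSucc 11,
  .ofNat 6, .ofNat 6, .ofNat 0, .ofNat 0, .negSucc 11, .negSucc 11, .ofNat 0, .negSucc 23, .ofNat 12,
  .ofNat 12, .ofNat 0, .ofNat 12, .ofNat 0, .ofNat 0, .ofNat 0, .ofNat 0, .ofNat 12, .ofNat 0, .ofNat 0,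
  .negSucc 11, .ofNat 0, .ofNat 0, .ofNat 0, .ofNat 0, .ofNat 0, .negSucc 23, .ofNat 0, .ofNat 0, .ofNat 0,
  .ofNat 0, .ofNat 12, .negSucc 11, .ofNat 0, .ofNat 12, .ofNat 12, .negSucc 11, .ofNat 0, .ofNat 0,
  .negSucc 11, .ofNat 0, .ofNat 0, .ofNat 0, .ofNat 12, .ofNat 12, .ofNat 0, .ofNat 0, .negSucc 11]

/-- the values at the type 52 -/
def cX52 : List ℤ :=
  [.negSucc 5, .negSucc 2, .negSucc 5, .negSucc 2, .negSucc 5, .ofNat 0, .ofNat 0, .ofNat 0, .ofNat 0,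
  .ofNat 6, .ofNat 6, .ofNat 3, .ofNat 0, .ofNat 6, .ofNat 3, .ofNat 0, .negSucc 5, .ofNat 0, .ofNat 6,
  .negSucc 2, .negSucc 2, .ofNat 0, .ofNat 0, .ofNat 6, .ofNat 6, .ofNat 0, .ofNat 12, .negSucc 5,
  .negSucc 5, .ofNat 0, .negSucc 5, .ofNat 0, .ofNat 0, .ofNat 0, .ofNat 0, .negSucc 5, .ofNat 0, .ofNat 0,
  .ofNat 6, .ofNat 0, .ofNat 0, .ofNat 0, .ofNat 0, .ofNat 0, .ofNat 12, .ofNat 0, .ofNat 0, .ofNat 0,
  .ofNat 0, .negSucc 5, .ofNat 6, .ofNat 0, .negSucc 5, .negSucc 5, .ofNat 6, .ofNat 0, .ofNat 0, .ofNat 6,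
  .ofNat 0, .ofNat 0, .ofNat 0, .negSucc 5, .negSucc 5, .ofNat 0, .ofNat 0, .ofNat 6]

/-- the values at the type 53 -/
def cX53 : List ℤ :=
  [.ofNat 0, .ofNat 0, .ofNat 0, .ofNat 0, .ofNat 0, .ofNat 0, .ofNat 0, .ofNat 0, .ofNat 0, .ofNat 0,
  .ofNat 0, .ofNat 0, .ofNat 0, .ofNat 0, .ofNat 0, .ofNat 0, .ofNat 0, .ofNat 0, .ofNat 0, .ofNat 0,
  .ofNat 0, .ofNat 0, .ofNat 0, .ofNat 0, .ofNat 0, .ofNat 0, .ofNat 0, .ofNat 0, .ofNat 0, .ofNat 0,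
  .ofNat 0, .ofNat 0, .ofNat 0, .ofNat 0, .ofNat 0, .ofNat 0, .ofNat 0, .ofNat 0, .ofNat 0, .ofNat 0,
  .ofNat 0, .ofNat 0, .ofNat 0, .ofNat 0, .ofNat 0, .ofNat 0, .ofNat 0, .ofNat 0, .ofNat 0, .ofNat 0,
  .ofNat 0, .ofNat 0, .ofNat 0, .ofNat 0, .ofNat 0, .ofNat 0, .ofNat 0, .ofNat 0, .ofNat 0, .ofNat 0,
  .ofNat 0, .ofNat 0, .ofNat 0, .ofNat 0, .ofNat 0, .ofNat 0]

/-- the values at the type 54 -/
def cX54 : List ℤ :=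
  [.ofNat 0, .ofNat 0, .ofNat 0, .ofNat 0, .ofNat 0, .ofNat 0, .ofNat 0, .ofNat 0, .ofNat 0, .ofNat 0,
  .ofNat 0, .ofNat 0, .ofNat 0, .ofNat 0, .ofNat 0, .ofNat 0, .ofNat 0, .ofNat 0, .ofNat 0, .ofNat 0,
  .ofNat 0, .ofNat 0, .ofNat 0, .ofNat 0, .ofNat 0, .ofNat 0, .ofNat 0, .ofNat 0, .ofNat 0, .ofNat 0,
  .ofNat 0, .ofNat 0, .ofNat 0, .ofNat 0, .ofNat 0, .ofNat 0, .ofNat 0, .ofNat 0, .ofNat 0, .ofNat 0,
  .ofNat 0, .ofNat 0, .ofNat 0, .ofNat 0, .ofNat 0, .ofNat 0, .ofNat 0, .ofNat 0, .ofNat 0, .ofNat 0,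
  .ofNat 0, .ofNat 0, .ofNat 0, .ofNat 0, .ofNat 0, .ofNat 0, .ofNat 0, .ofNat 0, .ofNat 0, .ofNat 0,
  .ofNat 0, .ofNat 0, .ofNat 0, .ofNat 0, .ofNat 0, .ofNat 0]

/-- the values at the type 55 -/
def cX55 : List ℤ :=
  [.negSucc 17, .ofNat 72, .negSucc 71, .ofNat 180, .negSucc 71, .negSucc 107, .negSucc 107, .negSucc 107,
  .ofNat 0, .negSucc 89, .ofNat 72, .ofNat 90, .ofNat 0, .ofNat 180, .ofNat 90, .ofNat 0, .negSucc 71,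
  .ofNat 270, .ofNat 18, .negSucc 89, .ofNat 18, .ofNat 0, .negSucc 269, .negSucc 89, .negSucc 89,
  .ofNat 270, .ofNat 90, .negSucc 17, .negSucc 17, .ofNat 0, .ofNat 90, .ofNat 0, .ofNat 0, .ofNat 0,
  .ofNat 0, .ofNat 360, .ofNat 0, .negSucc 107, .ofNat 180, .ofNat 0, .ofNat 0, .ofNat 0, .ofNat 0,
  .negSucc 107, .negSucc 179, .ofNat 0, .ofNat 0, .ofNat 0, .ofNat 0, .ofNat 90, .ofNat 180, .ofNat 162,
  .ofNat 198, .ofNat 36, .ofNat 72, .ofNat 270, .ofNat 216, .negSucc 197, .negSucc 107, .negSucc 107,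
  .negSucc 161, .negSucc 233, .negSucc 71, .negSucc 53, .ofNat 162, .negSucc 197]

/-- the values at the type 56 -/
def cX56 : List ℤ :=
  [.ofNat 9, .negSucc 35, .ofNat 36, .negSucc 89, .ofNat 36, .ofNat 54, .ofNat 54, .ofNat 54, .ofNat 0,
  .ofNat 45, .negSucc 35, .negSucc 44, .ofNat 0, .negSucc 89, .negSucc 44, .ofNat 0, .ofNat 36, .negSucc 134,
  .negSucc 8, .ofNat 45, .negSucc 8, .ofNat 0, .ofNat 135, .ofNat 45, .ofNat 45, .negSucc 134, .negSucc 44,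
  .ofNat 9, .ofNat 9, .ofNat 0, .negSucc 44, .ofNat 0, .ofNat 0, .ofNat 0, .ofNat 0, .negSucc 179, .ofNat 0,
  .ofNat 54, .negSucc 89, .ofNat 0, .ofNat 0, .ofNat 0, .ofNat 0, .ofNat 54, .ofNat 90, .ofNat 0, .ofNat 0,
  .ofNat 0, .ofNat 0, .negSucc 44, .negSucc 89, .negSucc 80, .negSucc 98, .negSucc 17, .negSucc 35,
  .negSucc 134, .negSucc 107, .ofNat 99, .ofNat 54, .ofNat 54, .ofNat 81, .ofNat 117, .ofNat 36, .ofNat 27,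
  .negSucc 80, .ofNat 99]

/-- the values at the type 57 -/
def cX57 : List ℤ :=
  [.ofNat 0, .ofNat 0, .ofNat 0, .ofNat 0, .ofNat 0, .ofNat 0, .ofNat 0, .ofNat 0, .ofNat 0, .ofNat 0,
  .ofNat 0, .ofNat 0, .ofNat 0, .ofNat 0, .ofNat 0, .ofNat 0, .ofNat 0, .ofNat 0, .ofNat 0, .ofNat 0,
  .ofNat 0, .ofNat 0, .ofNat 0, .ofNat 0, .ofNat 0, .ofNat 0, .ofNat 0, .ofNat 0, .ofNat 0, .ofNat 0,
  .ofNat 0, .ofNat 0, .ofNat 0, .ofNat 0, .ofNat 0, .ofNat 0, .ofNat 0, .ofNat 0, .ofNat 0, .ofNat 0,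
  .ofNat 0, .ofNat 0, .ofNat 0, .ofNat 0, .ofNat 0, .ofNat 0, .ofNat 0, .ofNat 0, .ofNat 0, .ofNat 0,
  .ofNat 0, .ofNat 0, .ofNat 0, .ofNat 0, .ofNat 0, .ofNat 0, .ofNat 0, .ofNat 0, .ofNat 0, .ofNat 0,
  .ofNat 0, .ofNat 0, .ofNat 0, .ofNat 0, .ofNat 0, .ofNat 0]

/-- the values at the type 58 -/
def cX58 : List ℤ :=
  [.ofNat 4, .negSucc 7, .negSucc 3, .ofNat 2, .ofNat 0, .ofNat 8, .negSucc 7, .negSucc 11, .ofNat 16,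
  .ofNat 16, .negSucc 5, .negSucc 3, .ofNat 2, .negSucc 15, .negSucc 1, .negSucc 15, .ofNat 8, .ofNat 16,
  .ofNat 6, .ofNat 0, .ofNat 12, .ofNat 2, .ofNat 2, .ofNat 0, .ofNat 0, .ofNat 2, .ofNat 0, .ofNat 0,
  .ofNat 0, .negSucc 11, .negSucc 1, .negSucc 11, .ofNat 0, .negSucc 11, .ofNat 0, .ofNat 0, .ofNat 6,
  .ofNat 0, .ofNat 0, .ofNat 0, .ofNat 12, .negSucc 3, .ofNat 0, .ofNat 12, .ofNat 0, .negSucc 7, .ofNat 0,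
  .ofNat 0, .ofNat 0, .ofNat 8, .negSucc 1, .ofNat 8, .negSucc 7, .negSucc 13, .ofNat 12, .ofNat 12,
  .negSucc 11, .negSucc 7, .ofNat 0, .ofNat 0, .ofNat 0, .negSucc 1, .ofNat 6, .ofNat 12, .negSucc 7,
  .ofNat 0]

/-- the values at the type 59 -/
def cX59 : List ℤ :=
  [.negSucc 1, .ofNat 4, .ofNat 2, .negSucc 0, .ofNat 0, .negSucc 3, .ofNat 4, .ofNat 6, .negSucc 7,
  .negSucc 7, .ofNat 3, .ofNat 2, .negSucc 0, .ofNat 8, .ofNat 1, .ofNat 8, .negSucc 3, .negSucc 7,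
  .negSucc 2, .ofNat 0, .negSucc 5, .negSucc 0, .negSucc 0, .ofNat 0, .ofNat 0, .negSucc 0, .ofNat 0,
  .ofNat 0, .ofNat 0, .ofNat 6, .ofNat 1, .ofNat 6, .ofNat 0, .ofNat 6, .ofNat 0, .ofNat 0, .negSucc 2,
  .ofNat 0, .ofNat 0, .ofNat 0, .negSucc 5, .ofNat 2, .ofNat 0, .negSucc 5, .ofNat 0, .ofNat 4, .ofNat 0,
  .ofNat 0, .ofNat 0, .negSucc 3, .ofNat 1, .negSucc 3, .ofNat 4, .ofNat 7, .negSucc 5, .negSucc 5, .ofNat 6,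
  .ofNat 4, .ofNat 0, .ofNat 0, .ofNat 0, .ofNat 1, .negSucc 2, .negSucc 5, .ofNat 4, .ofNat 0]

/-- the values at the type 60 -/
def cX60 : List ℤ :=
  [.ofNat 4, .ofNat 8, .ofNat 4, .ofNat 10, .ofNat 8, .negSucc 7, .ofNat 16, .negSucc 11, .ofNat 0, .ofNat 0,
  .negSucc 5, .negSucc 3, .ofNat 18, .ofNat 0, .negSucc 9, .ofNat 0, .negSucc 7, .ofNat 0, .negSucc 17,
  .ofNat 0, .negSucc 3, .negSucc 5, .ofNat 10, .ofNat 24, .negSucc 7, .ofNat 10, .ofNat 0, .ofNat 24,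
  .negSucc 7, .negSucc 11, .negSucc 9, .ofNat 12, .ofNat 0, .ofNat 12, .ofNat 0, .ofNat 0, .ofNat 6,
  .negSucc 15, .ofNat 0, .ofNat 0, .ofNat 36, .negSucc 11, .ofNat 0, .negSucc 19, .ofNat 0, .negSucc 23,
  .ofNat 0, .ofNat 0, .ofNat 0, .ofNat 24, .ofNat 6, .negSucc 15, .ofNat 24, .negSucc 13, .negSucc 11,
  .negSucc 11, .ofNat 28, .ofNat 16, .negSucc 15, .negSucc 7, .ofNat 8, .negSucc 9, .ofNat 14, .ofNat 12,
  .negSucc 31, .negSucc 7]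

/-- the values at the type 61 -/
def cX61 : List ℤ :=
  [.negSucc 1, .negSucc 3, .negSucc 1, .negSucc 4, .negSucc 3, .ofNat 4, .negSucc 7, .ofNat 6, .ofNat 0,
  .ofNat 0, .ofNat 3, .ofNat 2, .negSucc 8, .ofNat 0, .ofNat 5, .ofNat 0, .ofNat 4, .ofNat 0, .ofNat 9,
  .ofNat 0, .ofNat 2, .ofNat 3, .negSucc 4, .negSucc 11, .ofNat 4, .negSucc 4, .ofNat 0, .negSucc 11,
  .ofNat 4, .ofNat 6, .ofNat 5, .negSucc 5, .ofNat 0, .negSucc 5, .ofNat 0, .ofNat 0, .negSucc 2, .ofNat 8,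
  .ofNat 0, .ofNat 0, .negSucc 17, .ofNat 6, .ofNat 0, .ofNat 10, .ofNat 0, .ofNat 12, .ofNat 0, .ofNat 0,
  .ofNat 0, .negSucc 11, .negSucc 2, .ofNat 8, .negSucc 11, .ofNat 7, .ofNat 6, .ofNat 6, .negSucc 13,
  .negSucc 7, .ofNat 8, .ofNat 4, .negSucc 3, .ofNat 5, .negSucc 6, .negSucc 5, .ofNat 16, .ofNat 4]

/-- the values at the type 62 -/
def cX62 : List ℤ :=
  [.ofNat 6, .ofNat 2, .ofNat 6, .ofNat 0, .ofNat 0, .ofNat 0, .ofNat 0, .ofNat 0, .ofNat 0, .negSucc 5,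
  .ofNat 0, .ofNat 0, .ofNat 0, .ofNat 0, .ofNat 0, .negSucc 5, .ofNat 0, .ofNat 0, .ofNat 0, .ofNat 2,
  .ofNat 0, .ofNat 0, .ofNat 0, .ofNat 6, .ofNat 6, .ofNat 0, .ofNat 0, .negSucc 1, .negSucc 1, .negSucc 5,
  .ofNat 0, .ofNat 0, .negSucc 3, .ofNat 0, .negSucc 3, .ofNat 2, .ofNat 0, .ofNat 4, .ofNat 6, .ofNat 0,
  .negSucc 5, .ofNat 0, .negSucc 3, .ofNat 0, .ofNat 0, .ofNat 0, .ofNat 12, .ofNat 0, .ofNat 4, .ofNat 6,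
  .negSucc 3, .negSucc 5, .ofNat 2, .ofNat 4, .negSucc 3, .ofNat 4, .ofNat 4, .negSucc 3, .negSucc 7,
  .negSucc 1, .ofNat 4, .ofNat 4, .ofNat 4, .ofNat 4, .negSucc 3, .negSucc 3]

/-- the values at the type 63 -/
def cX63 : List ℤ :=
  [.negSucc 2, .negSucc 0, .negSucc 2, .ofNat 0, .ofNat 0, .ofNat 0, .ofNat 0, .ofNat 0, .ofNat 0, .ofNat 3,
  .ofNat 0, .ofNat 0, .ofNat 0, .ofNat 0, .ofNat 0, .ofNat 3, .ofNat 0, .ofNat 0, .ofNat 0, .negSucc 0,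
  .ofNat 0, .ofNat 0, .ofNat 0, .negSucc 2, .negSucc 2, .ofNat 0, .ofNat 0, .ofNat 1, .ofNat 1, .ofNat 3,
  .ofNat 0, .ofNat 0, .ofNat 2, .ofNat 0, .ofNat 2, .negSucc 0, .ofNat 0, .negSucc 1, .negSucc 2, .ofNat 0,
  .ofNat 3, .ofNat 0, .ofNat 2, .ofNat 0, .ofNat 0, .ofNat 0, .negSucc 5, .ofNat 0, .negSucc 1, .negSucc 2,
  .ofNat 2, .ofNat 3, .negSucc 0, .negSucc 1, .ofNat 2, .negSucc 1, .negSucc 1, .ofNat 2, .ofNat 4, .ofNat 1,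
  .negSucc 1, .negSucc 1, .negSucc 1, .negSucc 1, .ofNat 2, .ofNat 2]

/-- the values at the type 64 -/
def cX64 : List ℤ :=
  [.negSucc 1, .ofNat 6, .ofNat 6, .negSucc 3, .ofNat 0, .negSucc 13, .negSucc 5, .negSucc 5, .negSucc 5,
  .ofNat 4, .ofNat 12, .negSucc 13, .ofNat 24, .negSucc 11, .negSucc 31, .ofNat 6, .ofNat 12, .negSucc 3,
  .ofNat 16, .negSucc 3, .negSucc 31, .negSucc 5, .negSucc 7, .negSucc 15, .ofNat 16, .negSucc 15,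
  .negSucc 1, .ofNat 16, .negSucc 15, .negSucc 5, .ofNat 4, .ofNat 6, .ofNat 6, .ofNat 0, .ofNat 0, .ofNat 0,
  .ofNat 0, .ofNat 0, .ofNat 0, .ofNat 18, .ofNat 0, .negSucc 17, .negSucc 23, .ofNat 4, .negSucc 7,
  .ofNat 0, .ofNat 0, .ofNat 36, .ofNat 36, .ofNat 2, .negSucc 11, .ofNat 10, .ofNat 2, .ofNat 10, .ofNat 36,
  .ofNat 2, .ofNat 4, .ofNat 4, .ofNat 12, .negSucc 15, .negSucc 9, .negSucc 3, .negSucc 19, .negSucc 3,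
  .ofNat 4, .ofNat 16]

/-- the values at the type 65 -/
def cX65 : List ℤ :=
  [.ofNat 1, .negSucc 2, .negSucc 2, .ofNat 2, .ofNat 0, .ofNat 7, .ofNat 3, .ofNat 3, .ofNat 3, .negSucc 1,
  .negSucc 5, .ofNat 7, .negSucc 11, .ofNat 6, .ofNat 16, .negSucc 2, .negSucc 5, .ofNat 2, .negSucc 7,
  .ofNat 2, .ofNat 16, .ofNat 3, .ofNat 4, .ofNat 8, .negSucc 7, .ofNat 8, .ofNat 1, .negSucc 7, .ofNat 8,
  .ofNat 3, .negSucc 1, .negSucc 2, .negSucc 2, .ofNat 0, .ofNat 0, .ofNat 0, .ofNat 0, .ofNat 0, .ofNat 0,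
  .negSucc 8, .ofNat 0, .ofNat 9, .ofNat 12, .negSucc 1, .ofNat 4, .ofNat 0, .ofNat 0, .negSucc 17,
  .negSucc 17, .negSucc 0, .ofNat 6, .negSucc 4, .negSucc 0, .negSucc 4, .negSucc 17, .negSucc 0, .negSucc 1,
  .negSucc 1, .negSucc 5, .ofNat 8, .ofNat 5, .ofNat 2, .ofNat 10, .ofNat 2, .negSucc 1, .negSucc 7]

/-- the values at the type 66 -/
def cX66 : List ℤ :=
  [.ofNat 4, .ofNat 4, .ofNat 4, .ofNat 0, .ofNat 0, .negSucc 3, .negSucc 3, .ofNat 0, .ofNat 0, .ofNat 4,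
  .ofNat 0, .ofNat 4, .negSucc 3, .ofNat 4, .ofNat 0, .ofNat 0, .ofNat 0, .ofNat 0, .ofNat 0, .ofNat 4,
  .negSucc 3, .ofNat 0, .negSucc 3, .ofNat 0, .ofNat 0, .ofNat 0, .ofNat 0, .ofNat 0, .ofNat 0, .ofNat 0,
  .negSucc 3, .negSucc 3, .ofNat 4, .ofNat 0, .negSucc 3, .ofNat 0, .ofNat 0, .ofNat 0, .negSucc 3, .ofNat 8,
  .ofNat 0, .ofNat 4, .ofNat 8, .ofNat 0, .ofNat 0, .negSucc 7, .ofNat 0, .ofNat 8, .ofNat 0, .ofNat 4,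
  .negSucc 3, .negSucc 3, .ofNat 0, .ofNat 0, .negSucc 7, .ofNat 4, .ofNat 4, .negSucc 3, .ofNat 0,
  .negSucc 7, .ofNat 8, .ofNat 4, .ofNat 4, .ofNat 4, .negSucc 3, .negSucc 7]

/-- the values at the type 67 -/
def cX67 : List ℤ :=
  [.negSucc 1, .negSucc 1, .negSucc 1, .ofNat 0, .ofNat 0, .ofNat 2, .ofNat 2, .ofNat 0, .ofNat 0,
  .negSucc 1, .ofNat 0, .negSucc 1, .ofNat 2, .negSucc 1, .ofNat 0, .ofNat 0, .ofNat 0, .ofNat 0, .ofNat 0,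
  .negSucc 1, .ofNat 2, .ofNat 0, .ofNat 2, .ofNat 0, .ofNat 0, .ofNat 0, .ofNat 0, .ofNat 0, .ofNat 0,
  .ofNat 0, .ofNat 2, .ofNat 2, .negSucc 1, .ofNat 0, .ofNat 2, .ofNat 0, .ofNat 0, .ofNat 0, .ofNat 2,
  .negSucc 3, .ofNat 0, .negSucc 1, .negSucc 3, .ofNat 0, .ofNat 0, .ofNat 4, .ofNat 0, .negSucc 3, .ofNat 0,
  .negSucc 1, .ofNat 2, .ofNat 2, .ofNat 0, .ofNat 0, .ofNat 4, .negSucc 1, .negSucc 1, .ofNat 2, .ofNat 0,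
  .ofNat 4, .negSucc 3, .negSucc 1, .negSucc 1, .negSucc 1, .ofNat 2, .ofNat 4]

/-- the values at the type 68 -/
def cX68 : List ℤ :=
  [.negSucc 7, .negSucc 1, .negSucc 1, .negSucc 5, .ofNat 18, .negSucc 9, .negSucc 3, .ofNat 18, .ofNat 18,
  .negSucc 7, .ofNat 0, .negSucc 1, .negSucc 9, .ofNat 4, .negSucc 5, .ofNat 6, .negSucc 5, .ofNat 0,
  .ofNat 0, .ofNat 4, .negSucc 3, .ofNat 6, .ofNat 2, .ofNat 0, .ofNat 0, .ofNat 0, .ofNat 0, .ofNat 0,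
  .ofNat 0, .ofNat 0, .ofNat 2, .negSucc 3, .negSucc 1, .ofNat 0, .ofNat 8, .ofNat 0, .ofNat 0, .ofNat 0,
  .ofNat 8, .negSucc 3, .ofNat 0, .negSucc 7, .negSucc 3, .ofNat 0, .ofNat 0, .negSucc 7, .ofNat 0, .ofNat 8,
  .ofNat 0, .ofNat 4, .ofNat 2, .ofNat 14, .negSucc 5, .negSucc 11, .negSucc 1, .negSucc 1, .negSucc 1,
  .ofNat 2, .negSucc 5, .negSucc 1, .negSucc 3, .ofNat 4, .negSucc 1, .negSucc 1, .ofNat 2, .ofNat 4]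

/-- the values at the type 69 -/
def cX69 : List ℤ :=
  [.ofNat 4, .ofNat 1, .ofNat 1, .ofNat 3, .negSucc 8, .ofNat 5, .ofNat 2, .negSucc 8, .negSucc 8, .ofNat 4,
  .ofNat 0, .ofNat 1, .ofNat 5, .negSucc 1, .ofNat 3, .negSucc 2, .ofNat 3, .ofNat 0, .ofNat 0, .negSucc 1,
  .ofNat 2, .negSucc 2, .negSucc 0, .ofNat 0, .ofNat 0, .ofNat 0, .ofNat 0, .ofNat 0, .ofNat 0, .ofNat 0,
  .negSucc 0, .ofNat 2, .ofNat 1, .ofNat 0, .negSucc 3, .ofNat 0, .ofNat 0, .ofNat 0, .negSucc 3, .ofNat 2,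
  .ofNat 0, .ofNat 4, .ofNat 2, .ofNat 0, .ofNat 0, .ofNat 4, .ofNat 0, .negSucc 3, .ofNat 0, .negSucc 1,
  .negSucc 0, .negSucc 6, .ofNat 3, .ofNat 6, .ofNat 1, .ofNat 1, .ofNat 1, .negSucc 0, .ofNat 3, .ofNat 1,
  .ofNat 2, .negSucc 1, .ofNat 1, .ofNat 1, .negSucc 0, .negSucc 1]

/-- the values at the type 70 -/
def cX70 : List ℤ :=
  [.ofNat 0, .ofNat 0, .ofNat 0, .ofNat 0, .ofNat 0, .ofNat 0, .ofNat 0, .ofNat 0, .ofNat 0, .ofNat 0,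
  .ofNat 0, .ofNat 0, .ofNat 0, .ofNat 0, .ofNat 0, .ofNat 0, .ofNat 0, .ofNat 0, .ofNat 0, .ofNat 0,
  .ofNat 0, .ofNat 0, .ofNat 0, .ofNat 0, .ofNat 0, .ofNat 0, .ofNat 0, .ofNat 0, .ofNat 0, .ofNat 0,
  .ofNat 0, .ofNat 0, .ofNat 0, .ofNat 0, .ofNat 0, .ofNat 0, .ofNat 0, .ofNat 0, .ofNat 0, .ofNat 0,
  .ofNat 0, .ofNat 0, .ofNat 0, .ofNat 0, .ofNat 0, .ofNat 0, .ofNat 0, .ofNat 0, .ofNat 0, .ofNat 0,
  .ofNat 0, .ofNat 0, .ofNat 0, .ofNat 0, .ofNat 0, .ofNat 0, .ofNat 0, .ofNat 0, .ofNat 0, .ofNat 0,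
  .ofNat 0, .ofNat 0, .ofNat 0, .ofNat 0, .ofNat 0, .ofNat 0]

/-- the values at the type 71 -/
def cX71 : List ℤ :=
  [.ofNat 4, .negSucc 5, .negSucc 5, .ofNat 2, .ofNat 6, .negSucc 1, .ofNat 0, .negSucc 5, .ofNat 6,
  .ofNat 4, .ofNat 12, .negSucc 1, .negSucc 5, .ofNat 12, .negSucc 1, .negSucc 5, .ofNat 6, .negSucc 3,
  .ofNat 4, .negSucc 3, .ofNat 4, .negSucc 5, .negSucc 1, .ofNat 8, .negSucc 7, .negSucc 3, .negSucc 7,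
  .negSucc 7, .ofNat 8, .ofNat 0, .negSucc 1, .ofNat 12, .negSucc 5, .ofNat 0, .ofNat 0, .ofNat 0, .ofNat 0,
  .ofNat 0, .ofNat 0, .ofNat 0, .ofNat 0, .ofNat 0, .negSucc 11, .negSucc 7, .negSucc 7, .ofNat 0, .ofNat 0,
  .ofNat 0, .ofNat 0, .ofNat 8, .negSucc 5, .negSucc 1, .ofNat 2, .ofNat 4, .negSucc 5, .ofNat 2, .negSucc 1,
  .negSucc 1, .ofNat 6, .negSucc 9, .ofNat 8, .negSucc 3, .negSucc 1, .ofNat 2, .negSucc 1, .ofNat 4]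

/-- the values at the type 72 -/
def cX72 : List ℤ :=
  [.negSucc 1, .ofNat 3, .ofNat 3, .negSucc 0, .negSucc 2, .ofNat 1, .ofNat 0, .ofNat 3, .negSucc 2,
  .negSucc 1, .negSucc 5, .ofNat 1, .ofNat 3, .negSucc 5, .ofNat 1, .ofNat 3, .negSucc 2, .ofNat 2,
  .negSucc 1, .ofNat 2, .negSucc 1, .ofNat 3, .ofNat 1, .negSucc 3, .ofNat 4, .ofNat 2, .ofNat 4, .ofNat 4,
  .negSucc 3, .ofNat 0, .ofNat 1, .negSucc 5, .ofNat 3, .ofNat 0, .ofNat 0, .ofNat 0, .ofNat 0, .ofNat 0,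
  .ofNat 0, .ofNat 0, .ofNat 0, .ofNat 0, .ofNat 6, .ofNat 4, .ofNat 4, .ofNat 0, .ofNat 0, .ofNat 0,
  .ofNat 0, .negSucc 3, .ofNat 3, .ofNat 1, .negSucc 0, .negSucc 1, .ofNat 3, .negSucc 0, .ofNat 1, .ofNat 1,
  .negSucc 2, .ofNat 5, .negSucc 3, .ofNat 2, .ofNat 1, .negSucc 0, .ofNat 1, .negSucc 1]

/-- the values at the type 73 -/
def cX73 : List ℤ :=
  [.negSucc 1, .negSucc 1, .negSucc 1, .negSucc 11, .ofNat 0, .ofNat 2, .ofNat 2, .negSucc 5, .negSucc 5,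
  .ofNat 4, .ofNat 12, .ofNat 10, .ofNat 8, .ofNat 4, .ofNat 0, .ofNat 6, .negSucc 11, .ofNat 12, .ofNat 0,
  .ofNat 28, .ofNat 8, .negSucc 5, .ofNat 8, .ofNat 0, .ofNat 0, .ofNat 0, .ofNat 6, .ofNat 0, .ofNat 0,
  .negSucc 5, .negSucc 3, .negSucc 9, .negSucc 1, .ofNat 0, .ofNat 8, .ofNat 0, .ofNat 0, .ofNat 0, .ofNat 8,
  .ofNat 2, .ofNat 0, .negSucc 1, .ofNat 8, .negSucc 11, .negSucc 23, .ofNat 16, .ofNat 0, .ofNat 20,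
  .negSucc 11, .ofNat 10, .negSucc 3, .ofNat 2, .ofNat 18, .ofNat 18, .ofNat 4, .negSucc 13, .negSucc 19,
  .negSucc 3, .negSucc 11, .negSucc 7, .ofNat 14, .ofNat 4, .ofNat 4, .ofNat 4, .negSucc 3, .negSucc 7]

/-- the values at the type 74 -/
def cX74 : List ℤ :=
  [.ofNat 1, .ofNat 1, .ofNat 1, .ofNat 6, .ofNat 0, .negSucc 0, .negSucc 0, .ofNat 3, .ofNat 3, .negSucc 1,
  .negSucc 5, .negSucc 4, .negSucc 3, .negSucc 1, .ofNat 0, .negSucc 2, .ofNat 6, .negSucc 5, .ofNat 0,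
  .negSucc 13, .negSucc 3, .ofNat 3, .negSucc 3, .ofNat 0, .ofNat 0, .ofNat 0, .negSucc 2, .ofNat 0,
  .ofNat 0, .ofNat 3, .ofNat 2, .ofNat 5, .ofNat 1, .ofNat 0, .negSucc 3, .ofNat 0, .ofNat 0, .ofNat 0,
  .negSucc 3, .negSucc 0, .ofNat 0, .ofNat 1, .negSucc 3, .ofNat 6, .ofNat 12, .negSucc 7, .ofNat 0,
  .negSucc 9, .ofNat 6, .negSucc 4, .ofNat 2, .negSucc 0, .negSucc 8, .negSucc 8, .negSucc 1, .ofNat 7,
  .ofNat 10, .ofNat 2, .ofNat 6, .ofNat 4, .negSucc 6, .negSucc 1, .negSucc 1, .negSucc 1, .ofNat 2,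
  .ofNat 4]

/-- the values at the type 75 -/
def cX75 : List ℤ :=
  [.ofNat 0, .ofNat 0, .ofNat 0, .ofNat 0, .ofNat 0, .ofNat 0, .ofNat 0, .ofNat 0, .ofNat 0, .ofNat 0,
  .ofNat 0, .ofNat 0, .ofNat 0, .ofNat 0, .ofNat 0, .ofNat 0, .ofNat 0, .ofNat 0, .ofNat 0, .ofNat 0,
  .ofNat 0, .ofNat 0, .ofNat 0, .ofNat 0, .ofNat 0, .ofNat 0, .ofNat 0, .ofNat 0, .ofNat 0, .ofNat 0,
  .ofNat 0, .ofNat 0, .ofNat 0, .ofNat 0, .ofNat 0, .ofNat 0, .ofNat 0, .ofNat 0, .ofNat 0, .ofNat 0,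
  .ofNat 0, .ofNat 0, .ofNat 0, .ofNat 0, .ofNat 0, .ofNat 0, .ofNat 0, .ofNat 0, .ofNat 0, .ofNat 0,
  .ofNat 0, .ofNat 0, .ofNat 0, .ofNat 0, .ofNat 0, .ofNat 0, .ofNat 0, .ofNat 0, .ofNat 0, .ofNat 0,
  .ofNat 0, .ofNat 0, .ofNat 0, .ofNat 0, .ofNat 0, .ofNat 0]

/-- the values at the type 76 -/
def cX76 : List ℤ :=
  [.ofNat 0, .negSucc 2, .negSucc 2, .ofNat 3, .ofNat 3, .negSucc 2, .ofNat 6, .negSucc 8, .ofNat 3,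
  .ofNat 0, .negSucc 11, .ofNat 9, .negSucc 14, .negSucc 17, .negSucc 8, .ofNat 9, .negSucc 8, .negSucc 11,
  .negSucc 11, .ofNat 6, .negSucc 5, .ofNat 9, .negSucc 20, .ofNat 0, .ofNat 0, .ofNat 12, .ofNat 0,
  .ofNat 0, .ofNat 0, .ofNat 0, .ofNat 3, .negSucc 5, .negSucc 2, .ofNat 0, .negSucc 11, .ofNat 0, .ofNat 0,
  .ofNat 0, .ofNat 12, .ofNat 6, .ofNat 0, .negSucc 11, .negSucc 5, .negSucc 23, .ofNat 24, .ofNat 12,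
  .ofNat 0, .negSucc 11, .ofNat 0, .negSucc 5, .negSucc 8, .ofNat 9, .ofNat 3, .ofNat 6, .negSucc 2,
  .negSucc 2, .negSucc 14, .ofNat 3, .ofNat 15, .ofNat 9, .ofNat 6, .negSucc 17, .negSucc 14, .ofNat 21,
  .ofNat 3, .ofNat 6]

/-- the values at the type 77 -/
def cX77 : List ℤ :=
  [.ofNat 0, .ofNat 6, .ofNat 6, .negSucc 5, .negSucc 5, .ofNat 6, .negSucc 11, .ofNat 18, .negSucc 5,
  .ofNat 0, .ofNat 24, .negSucc 17, .ofNat 30, .ofNat 36, .ofNat 18, .negSucc 17, .ofNat 18, .ofNat 24,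
  .ofNat 24, .negSucc 11, .ofNat 12, .negSucc 17, .ofNat 42, .ofNat 0, .ofNat 0, .negSucc 23, .ofNat 0,
  .ofNat 0, .ofNat 0, .ofNat 0, .negSucc 5, .ofNat 12, .ofNat 6, .ofNat 0, .ofNat 24, .ofNat 0, .ofNat 0,
  .ofNat 0, .negSucc 23, .negSucc 11, .ofNat 0, .ofNat 24, .ofNat 12, .ofNat 48, .negSucc 47, .negSucc 23,
  .ofNat 0, .ofNat 24, .ofNat 0, .ofNat 12, .ofNat 18, .negSucc 17, .negSucc 5, .negSucc 11, .ofNat 6,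
  .ofNat 6, .ofNat 30, .negSucc 5, .negSucc 29, .negSucc 17, .negSucc 11, .ofNat 36, .ofNat 30, .negSucc 41,
  .negSucc 5, .negSucc 11]

/-- the values at the type 78 -/
def cX78 : List ℤ :=
  [.ofNat 0, .ofNat 0, .ofNat 0, .ofNat 0, .ofNat 0, .ofNat 0, .ofNat 0, .ofNat 0, .ofNat 0, .ofNat 0,
  .ofNat 0, .ofNat 0, .ofNat 0, .ofNat 0, .ofNat 0, .ofNat 0, .ofNat 0, .ofNat 0, .ofNat 0, .ofNat 0,
  .ofNat 0, .ofNat 0, .ofNat 0, .ofNat 0, .ofNat 0, .ofNat 0, .ofNat 0, .ofNat 0, .ofNat 0, .ofNat 0,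
  .ofNat 0, .ofNat 0, .ofNat 0, .ofNat 0, .ofNat 0, .ofNat 0, .ofNat 0, .ofNat 0, .ofNat 0, .ofNat 0,
  .ofNat 0, .ofNat 0, .ofNat 0, .ofNat 0, .ofNat 0, .ofNat 0, .ofNat 0, .ofNat 0, .ofNat 0, .ofNat 0,
  .ofNat 0, .ofNat 0, .ofNat 0, .ofNat 0, .ofNat 0, .ofNat 0, .ofNat 0, .ofNat 0, .ofNat 0, .ofNat 0,
  .ofNat 0, .ofNat 0, .ofNat 0, .ofNat 0, .ofNat 0, .ofNat 0]

/-- the values at the type 79 -/
def cX79 : List ℤ :=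
  [.negSucc 7, .ofNat 0, .ofNat 0, .ofNat 8, .negSucc 23, .negSucc 7, .negSucc 47, .ofNat 48, .ofNat 0,
  .ofNat 40, .negSucc 23, .negSucc 7, .ofNat 0, .ofNat 0, .negSucc 7, .ofNat 0, .ofNat 0, .negSucc 39,
  .negSucc 7, .negSucc 39, .negSucc 31, .ofNat 48, .negSucc 31, .ofNat 32, .negSucc 31, .ofNat 8, .ofNat 40,
  .negSucc 31, .ofNat 32, .negSucc 47, .negSucc 7, .ofNat 0, .ofNat 0, .ofNat 0, .ofNat 0, .ofNat 0,
  .ofNat 0, .ofNat 0, .ofNat 0, .ofNat 0, .ofNat 0, .ofNat 0, .ofNat 0, .ofNat 16, .negSucc 79, .ofNat 0,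
  .ofNat 0, .ofNat 0, .ofNat 0, .ofNat 32, .ofNat 0, .negSucc 31, .ofNat 56, .ofNat 16, .ofNat 24,
  .negSucc 15, .negSucc 7, .negSucc 7, .ofNat 0, .ofNat 32, .ofNat 8, .ofNat 32, .ofNat 16, .ofNat 8,
  .negSucc 7, .negSucc 7]

/-- the values at the type 80 -/
def cX80 : List ℤ :=
  [.ofNat 4, .ofNat 0, .ofNat 0, .negSucc 3, .ofNat 12, .ofNat 4, .ofNat 24, .negSucc 23, .ofNat 0,
  .negSucc 19, .ofNat 12, .ofNat 4, .ofNat 0, .ofNat 0, .ofNat 4, .ofNat 0, .ofNat 0, .ofNat 20, .ofNat 4,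
  .ofNat 20, .ofNat 16, .negSucc 23, .ofNat 16, .negSucc 15, .ofNat 16, .negSucc 3, .negSucc 19, .ofNat 16,
  .negSucc 15, .ofNat 24, .ofNat 4, .ofNat 0, .ofNat 0, .ofNat 0, .ofNat 0, .ofNat 0, .ofNat 0, .ofNat 0,
  .ofNat 0, .ofNat 0, .ofNat 0, .ofNat 0, .ofNat 0, .negSucc 7, .ofNat 40, .ofNat 0, .ofNat 0, .ofNat 0,
  .ofNat 0, .negSucc 15, .ofNat 0, .ofNat 16, .negSucc 27, .negSucc 7, .negSucc 11, .ofNat 8, .ofNat 4,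
  .ofNat 4, .ofNat 0, .negSucc 15, .negSucc 3, .negSucc 15, .negSucc 7, .negSucc 3, .ofNat 4, .ofNat 4]

/-- the values at the type 81 -/
def cX81 : List ℤ :=
  [.negSucc 17, .ofNat 30, .negSucc 41, .ofNat 60, .negSucc 47, .negSucc 5, .negSucc 77, .ofNat 18,
  .ofNat 42, .negSucc 35, .ofNat 12, .ofNat 18, .ofNat 24, .negSucc 35, .ofNat 0, .negSucc 17, .ofNat 36,
  .negSucc 59, .ofNat 48, .ofNat 12, .ofNat 24, .ofNat 18, .negSucc 23, .ofNat 0, .ofNat 0, .negSucc 47,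
  .negSucc 89, .ofNat 0, .ofNat 0, .ofNat 18, .negSucc 11, .ofNat 6, .ofNat 102, .ofNat 0, .negSucc 23,
  .ofNat 0, .ofNat 0, .ofNat 0, .ofNat 24, .ofNat 66, .ofNat 0, .negSucc 41, .ofNat 24, .negSucc 11,
  .ofNat 120, .negSucc 47, .ofNat 0, .negSucc 59, .negSucc 107, .ofNat 42, .ofNat 36, .ofNat 18, .ofNat 42,
  .ofNat 66, .ofNat 12, .negSucc 5, .negSucc 11, .negSucc 11, .negSucc 131, .ofNat 0, .ofNat 102,
  .negSucc 35, .ofNat 60, .negSucc 83, .negSucc 11, .ofNat 48]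

/-- the values at the type 82 -/
def cX82 : List ℤ :=
  [.ofNat 9, .negSucc 14, .ofNat 21, .negSucc 29, .ofNat 24, .ofNat 3, .ofNat 39, .negSucc 8, .negSucc 20,
  .ofNat 18, .negSucc 5, .negSucc 8, .negSucc 11, .ofNat 18, .ofNat 0, .ofNat 9, .negSucc 17, .ofNat 30,
  .negSucc 23, .negSucc 5, .negSucc 11, .negSucc 8, .ofNat 12, .ofNat 0, .ofNat 0, .ofNat 24, .ofNat 45,
  .ofNat 0, .ofNat 0, .negSucc 8, .ofNat 6, .negSucc 2, .negSucc 50, .ofNat 0, .ofNat 12, .ofNat 0, .ofNat 0,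
  .ofNat 0, .negSucc 11, .negSucc 32, .ofNat 0, .ofNat 21, .negSucc 11, .ofNat 6, .negSucc 59, .ofNat 24,
  .ofNat 0, .ofNat 30, .ofNat 54, .negSucc 20, .negSucc 17, .negSucc 8, .negSucc 20, .negSucc 32, .negSucc 5,
  .ofNat 3, .ofNat 6, .ofNat 6, .ofNat 66, .ofNat 0, .negSucc 50, .ofNat 18, .negSucc 29, .ofNat 42,
  .ofNat 6, .negSucc 23]

/-- the values at the type 83 -/
def cX83 : List ℤ :=
  [.ofNat 0, .ofNat 0, .ofNat 0, .ofNat 0, .ofNat 0, .ofNat 0, .ofNat 0, .ofNat 0, .ofNat 0, .ofNat 0,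
  .ofNat 0, .ofNat 0, .ofNat 0, .ofNat 0, .ofNat 0, .ofNat 0, .ofNat 0, .ofNat 0, .ofNat 0, .ofNat 0,
  .ofNat 0, .ofNat 0, .ofNat 0, .ofNat 0, .ofNat 0, .ofNat 0, .ofNat 0, .ofNat 0, .ofNat 0, .ofNat 0,
  .ofNat 0, .ofNat 0, .ofNat 0, .ofNat 0, .ofNat 0, .ofNat 0, .ofNat 0, .ofNat 0, .ofNat 0, .ofNat 0,
  .ofNat 0, .ofNat 0, .ofNat 0, .ofNat 0, .ofNat 0, .ofNat 0, .ofNat 0, .ofNat 0, .ofNat 0, .ofNat 0,
  .ofNat 0, .ofNat 0, .ofNat 0, .ofNat 0, .ofNat 0, .ofNat 0, .ofNat 0, .ofNat 0, .ofNat 0, .ofNat 0,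
  .ofNat 0, .ofNat 0, .ofNat 0, .ofNat 0, .ofNat 0, .ofNat 0]

/-- the values at the type 84 -/
def cX84 : List ℤ :=
  [.ofNat 0, .ofNat 6, .ofNat 0, .ofNat 0, .ofNat 0, .negSucc 5, .ofNat 0, .ofNat 0, .negSucc 5, .ofNat 6,
  .ofNat 0, .negSucc 5, .ofNat 0, .ofNat 0, .ofNat 0, .ofNat 0, .ofNat 0, .ofNat 0, .ofNat 6, .ofNat 0,
  .ofNat 0, .ofNat 0, .ofNat 0, .negSucc 5, .negSucc 5, .ofNat 0, .ofNat 0, .ofNat 6, .ofNat 6, .ofNat 0,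
  .ofNat 0, .ofNat 0, .ofNat 0, .ofNat 0, .ofNat 6, .ofNat 0, .negSucc 5, .ofNat 0, .ofNat 0, .negSucc 5,
  .negSucc 5, .ofNat 0, .ofNat 0, .ofNat 0, .ofNat 12, .ofNat 12, .ofNat 12, .ofNat 0, .ofNat 0, .ofNat 12,
  .ofNat 0, .negSucc 5, .ofNat 6, .ofNat 0, .negSucc 5, .ofNat 6, .ofNat 6, .negSucc 5, .negSucc 5,
  .negSucc 5, .ofNat 12, .ofNat 6, .ofNat 6, .ofNat 12, .negSucc 5, .negSucc 5]

/-- the values at the type 85 -/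
def cX85 : List ℤ :=
  [.ofNat 0, .negSucc 2, .ofNat 0, .ofNat 0, .ofNat 0, .ofNat 3, .ofNat 0, .ofNat 0, .ofNat 3, .negSucc 2,
  .ofNat 0, .ofNat 3, .ofNat 0, .ofNat 0, .ofNat 0, .ofNat 0, .ofNat 0, .ofNat 0, .negSucc 2, .ofNat 0,
  .ofNat 0, .ofNat 0, .ofNat 0, .ofNat 3, .ofNat 3, .ofNat 0, .ofNat 0, .negSucc 2, .negSucc 2, .ofNat 0,
  .ofNat 0, .ofNat 0, .ofNat 0, .ofNat 0, .negSucc 2, .ofNat 0, .ofNat 3, .ofNat 0, .ofNat 0, .ofNat 3,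
  .ofNat 3, .ofNat 0, .ofNat 0, .ofNat 0, .negSucc 5, .negSucc 5, .negSucc 5, .ofNat 0, .ofNat 0, .negSucc 5,
  .ofNat 0, .ofNat 3, .negSucc 2, .ofNat 0, .ofNat 3, .negSucc 2, .negSucc 2, .ofNat 3, .ofNat 3, .ofNat 3,
  .negSucc 5, .negSucc 2, .negSucc 2, .negSucc 5, .ofNat 3, .ofNat 3]

/-- the values at the type 86 -/
def cX86 : List ℤ :=
  [.ofNat 2, .negSucc 1, .ofNat 2, .negSucc 1, .ofNat 0, .ofNat 0, .ofNat 4, .ofNat 0, .ofNat 0, .negSucc 5,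
  .ofNat 2, .ofNat 0, .ofNat 0, .negSucc 1, .ofNat 0, .negSucc 5, .ofNat 0, .negSucc 1, .ofNat 6, .ofNat 0,
  .ofNat 0, .ofNat 4, .ofNat 0, .negSucc 1, .ofNat 6, .ofNat 2, .ofNat 0, .negSucc 1, .ofNat 6, .ofNat 2,
  .ofNat 0, .negSucc 5, .ofNat 0, .ofNat 6, .ofNat 0, .negSucc 3, .negSucc 5, .negSucc 3, .ofNat 0, .ofNat 0,
  .ofNat 6, .ofNat 0, .ofNat 0, .ofNat 0, .ofNat 0, .ofNat 0, .negSucc 11, .ofNat 0, .ofNat 0, .ofNat 10,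
  .negSucc 1, .negSucc 9, .ofNat 6, .ofNat 2, .negSucc 3, .ofNat 4, .ofNat 4, .negSucc 7, .negSucc 3,
  .negSucc 3, .ofNat 4, .ofNat 4, .negSucc 1, .ofNat 4, .ofNat 0, .negSucc 3]

/-- the values at the type 87 -/
def cX87 : List ℤ :=
  [.negSucc 0, .ofNat 1, .negSucc 0, .ofNat 1, .ofNat 0, .ofNat 0, .negSucc 1, .ofNat 0, .ofNat 0, .ofNat 3,
  .negSucc 0, .ofNat 0, .ofNat 0, .ofNat 1, .ofNat 0, .ofNat 3, .ofNat 0, .ofNat 1, .negSucc 2, .ofNat 0,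
  .ofNat 0, .negSucc 1, .ofNat 0, .ofNat 1, .negSucc 2, .negSucc 0, .ofNat 0, .ofNat 1, .negSucc 2,
  .negSucc 0, .ofNat 0, .ofNat 3, .ofNat 0, .negSucc 2, .ofNat 0, .ofNat 2, .ofNat 3, .ofNat 2, .ofNat 0,
  .ofNat 0, .negSucc 2, .ofNat 0, .ofNat 0, .ofNat 0, .ofNat 0, .ofNat 0, .ofNat 6, .ofNat 0, .ofNat 0,
  .negSucc 4, .ofNat 1, .ofNat 5, .negSucc 2, .negSucc 0, .ofNat 2, .negSucc 1, .negSucc 1, .ofNat 4,
  .ofNat 2, .ofNat 2, .negSucc 1, .negSucc 1, .ofNat 1, .negSucc 1, .ofNat 0, .ofNat 2]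

/-- the values at the type 88 -/
def cX88 : List ℤ :=
  [.negSucc 1, .negSucc 0, .ofNat 0, .ofNat 0, .ofNat 0, .ofNat 0, .ofNat 2, .ofNat 0, .negSucc 0, .ofNat 0,
  .ofNat 0, .ofNat 0, .ofNat 0, .ofNat 0, .negSucc 0, .negSucc 1, .ofNat 0, .negSucc 0, .ofNat 0, .ofNat 0,
  .ofNat 0, .ofNat 1, .ofNat 0, .ofNat 0, .ofNat 0, .negSucc 0, .ofNat 0, .ofNat 0, .ofNat 0, .ofNat 0,
  .ofNat 0, .ofNat 0, .ofNat 0, .negSucc 2, .negSucc 0, .ofNat 2, .ofNat 0, .ofNat 0, .ofNat 0, .ofNat 0,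
  .ofNat 0, .ofNat 0, .ofNat 2, .ofNat 0, .ofNat 0, .ofNat 0, .ofNat 0, .ofNat 2, .ofNat 0, .ofNat 0,
  .ofNat 2, .ofNat 1, .negSucc 0, .negSucc 0, .ofNat 0, .negSucc 0, .negSucc 0, .ofNat 2, .ofNat 1, .ofNat 1,
  .negSucc 0, .negSucc 0, .negSucc 0, .negSucc 0, .ofNat 2, .ofNat 1]

/-- the values at the type 89 -/
def cX89 : List ℤ :=
  [.ofNat 4, .ofNat 2, .ofNat 0, .ofNat 0, .ofNat 0, .ofNat 0, .negSucc 3, .ofNat 0, .ofNat 2, .ofNat 0,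
  .ofNat 0, .ofNat 0, .ofNat 0, .ofNat 0, .ofNat 2, .ofNat 4, .ofNat 0, .ofNat 2, .ofNat 0, .ofNat 0,
  .ofNat 0, .negSucc 1, .ofNat 0, .ofNat 0, .ofNat 0, .ofNat 2, .ofNat 0, .ofNat 0, .ofNat 0, .ofNat 0,
  .ofNat 0, .ofNat 0, .ofNat 0, .ofNat 6, .ofNat 2, .negSucc 3, .ofNat 0, .ofNat 0, .ofNat 0, .ofNat 0,
  .ofNat 0, .ofNat 0, .negSucc 3, .ofNat 0, .ofNat 0, .ofNat 0, .ofNat 0, .negSucc 3, .ofNat 0, .ofNat 0,
  .negSucc 3, .negSucc 1, .ofNat 2, .ofNat 2, .ofNat 0, .ofNat 2, .ofNat 2, .negSucc 3, .negSucc 1,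
  .negSucc 1, .ofNat 2, .ofNat 2, .ofNat 2, .ofNat 2, .negSucc 3, .negSucc 1]

/-- the values at the type 90 -/
def cX90 : List ℤ :=
  [.ofNat 2, .ofNat 2, .negSucc 1, .negSucc 5, .ofNat 4, .ofNat 2, .ofNat 2, .negSucc 3, .negSucc 5,
  .negSucc 5, .negSucc 3, .negSucc 5, .ofNat 6, .ofNat 6, .ofNat 6, .ofNat 6, .negSucc 1, .negSucc 5,
  .ofNat 4, .ofNat 0, .ofNat 4, .ofNat 6, .negSucc 5, .ofNat 0, .ofNat 0, .negSucc 5, .ofNat 0, .negSucc 3,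
  .negSucc 3, .ofNat 0, .ofNat 6, .ofNat 0, .ofNat 0, .ofNat 0, .ofNat 0, .ofNat 0, .ofNat 0, .negSucc 3,
  .ofNat 0, .ofNat 0, .ofNat 0, .ofNat 6, .ofNat 0, .ofNat 8, .ofNat 0, .negSucc 11, .ofNat 0, .ofNat 0,
  .ofNat 0, .ofNat 6, .negSucc 5, .ofNat 2, .ofNat 10, .ofNat 2, .negSucc 3, .ofNat 12, .negSucc 3, .ofNat 2,
  .negSucc 3, .negSucc 3, .ofNat 4, .ofNat 2, .ofNat 4, .ofNat 8, .negSucc 9, .negSucc 3]

/-- the values at the type 91 -/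
def cX91 : List ℤ :=
  [.negSucc 0, .negSucc 0, .ofNat 1, .ofNat 3, .negSucc 1, .negSucc 0, .negSucc 0, .ofNat 2, .ofNat 3,
  .ofNat 3, .ofNat 2, .ofNat 3, .negSucc 2, .negSucc 2, .negSucc 2, .negSucc 2, .ofNat 1, .ofNat 3,
  .negSucc 1, .ofNat 0, .negSucc 1, .negSucc 2, .ofNat 3, .ofNat 0, .ofNat 0, .ofNat 3, .ofNat 0, .ofNat 2,
  .ofNat 2, .ofNat 0, .negSucc 2, .ofNat 0, .ofNat 0, .ofNat 0, .ofNat 0, .ofNat 0, .ofNat 0, .ofNat 2,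
  .ofNat 0, .ofNat 0, .ofNat 0, .negSucc 2, .ofNat 0, .negSucc 3, .ofNat 0, .ofNat 6, .ofNat 0, .ofNat 0,
  .ofNat 0, .negSucc 2, .ofNat 3, .negSucc 0, .negSucc 4, .negSucc 0, .ofNat 2, .negSucc 5, .ofNat 2,
  .negSucc 0, .ofNat 2, .ofNat 2, .negSucc 1, .negSucc 0, .negSucc 1, .negSucc 3, .ofNat 5, .ofNat 2]

/-- the values at the type 92 -/
def cX92 : List ℤ :=
  [.negSucc 9, .ofNat 20, .negSucc 19, .ofNat 30, .negSucc 19, .negSucc 9, .negSucc 9, .negSucc 9, .ofNat 0,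
  .ofNat 0, .negSucc 39, .negSucc 29, .ofNat 0, .ofNat 0, .negSucc 29, .ofNat 0, .negSucc 19, .ofNat 0,
  .ofNat 10, .ofNat 0, .ofNat 10, .negSucc 29, .ofNat 30, .ofNat 30, .ofNat 30, .ofNat 30, .ofNat 0,
  .negSucc 9, .negSucc 9, .ofNat 30, .negSucc 29, .ofNat 0, .ofNat 0, .ofNat 0, .ofNat 0, .ofNat 0, .ofNat 0,
  .ofNat 20, .ofNat 0, .ofNat 0, .ofNat 0, .ofNat 0, .ofNat 0, .ofNat 20, .ofNat 0, .ofNat 0, .ofNat 0,
  .ofNat 0, .ofNat 0, .ofNat 30, .ofNat 0, .ofNat 20, .ofNat 40, .ofNat 20, .negSucc 39, .ofNat 30,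
  .negSucc 9, .negSucc 9, .ofNat 20, .negSucc 9, .ofNat 10, .ofNat 50, .negSucc 19, .negSucc 9, .negSucc 9,
  .negSucc 9]

/-- the values at the type 93 -/
def cX93 : List ℤ :=
  [.ofNat 5, .negSucc 9, .ofNat 10, .negSucc 14, .ofNat 10, .ofNat 5, .ofNat 5, .ofNat 5, .ofNat 0, .ofNat 0,
  .ofNat 20, .ofNat 15, .ofNat 0, .ofNat 0, .ofNat 15, .ofNat 0, .ofNat 10, .ofNat 0, .negSucc 4, .ofNat 0,
  .negSucc 4, .ofNat 15, .negSucc 14, .negSucc 14, .negSucc 14, .negSucc 14, .ofNat 0, .ofNat 5, .ofNat 5,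
  .negSucc 14, .ofNat 15, .ofNat 0, .ofNat 0, .ofNat 0, .ofNat 0, .ofNat 0, .ofNat 0, .negSucc 9, .ofNat 0,
  .ofNat 0, .ofNat 0, .ofNat 0, .ofNat 0, .negSucc 9, .ofNat 0, .ofNat 0, .ofNat 0, .ofNat 0, .ofNat 0,
  .negSucc 14, .ofNat 0, .negSucc 9, .negSucc 19, .negSucc 9, .ofNat 20, .negSucc 14, .ofNat 5, .ofNat 5,
  .negSucc 9, .ofNat 5, .negSucc 4, .negSucc 24, .ofNat 10, .ofNat 5, .ofNat 5, .ofNat 5]

/-- the values at the type 94 -/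
def cX94 : List ℤ :=
  [.negSucc 3, .ofNat 2, .negSucc 1, .negSucc 5, .ofNat 10, .negSucc 3, .negSucc 3, .ofNat 2, .ofNat 6,
  .ofNat 6, .negSucc 3, .ofNat 0, .ofNat 12, .negSucc 5, .ofNat 6, .negSucc 5, .negSucc 1, .ofNat 6,
  .negSucc 1, .ofNat 0, .negSucc 1, .ofNat 6, .negSucc 5, .ofNat 6, .ofNat 6, .negSucc 5, .ofNat 0, .ofNat 2,
  .ofNat 2, .ofNat 6, .ofNat 6, .ofNat 0, .ofNat 0, .ofNat 0, .ofNat 0, .ofNat 0, .ofNat 0, .ofNat 8,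
  .ofNat 0, .ofNat 0, .ofNat 0, .ofNat 12, .ofNat 0, .negSucc 3, .ofNat 0, .ofNat 12, .ofNat 0, .ofNat 0,
  .ofNat 0, .ofNat 0, .ofNat 6, .ofNat 2, .negSucc 1, .ofNat 2, .negSucc 3, .negSucc 5, .ofNat 2, .negSucc 3,
  .ofNat 8, .ofNat 2, .negSucc 1, .negSucc 9, .negSucc 7, .negSucc 9, .negSucc 9, .ofNat 2]

/-- the values at the type 95 -/
def cX95 : List ℤ :=
  [.ofNat 2, .negSucc 0, .ofNat 1, .ofNat 3, .negSucc 4, .ofNat 2, .ofNat 2, .negSucc 0, .negSucc 2,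
  .negSucc 2, .ofNat 2, .ofNat 0, .negSucc 5, .ofNat 3, .negSucc 2, .ofNat 3, .ofNat 1, .negSucc 2, .ofNat 1,
  .ofNat 0, .ofNat 1, .negSucc 2, .ofNat 3, .negSucc 2, .negSucc 2, .ofNat 3, .ofNat 0, .negSucc 0,
  .negSucc 0, .negSucc 2, .negSucc 2, .ofNat 0, .ofNat 0, .ofNat 0, .ofNat 0, .ofNat 0, .ofNat 0, .negSucc 3,
  .ofNat 0, .ofNat 0, .ofNat 0, .negSucc 5, .ofNat 0, .ofNat 2, .ofNat 0, .negSucc 5, .ofNat 0, .ofNat 0,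
  .ofNat 0, .ofNat 0, .negSucc 2, .negSucc 0, .ofNat 1, .negSucc 0, .ofNat 2, .ofNat 3, .negSucc 0, .ofNat 2,
  .negSucc 3, .negSucc 0, .ofNat 1, .ofNat 5, .ofNat 4, .ofNat 5, .ofNat 5, .negSucc 0]

/-- the values at the type 96 -/
def cX96 : List ℤ :=
  [.ofNat 0, .negSucc 1, .negSucc 1, .ofNat 0, .ofNat 2, .ofNat 2, .ofNat 0, .negSucc 1, .ofNat 0, .ofNat 0,
  .ofNat 0, .ofNat 0, .ofNat 0, .negSucc 1, .ofNat 0, .ofNat 2, .negSucc 1, .ofNat 0, .ofNat 0, .negSucc 1,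
  .ofNat 0, .ofNat 0, .ofNat 0, .ofNat 0, .ofNat 0, .ofNat 0, .ofNat 0, .ofNat 0, .ofNat 0, .ofNat 2,
  .ofNat 0, .ofNat 0, .ofNat 0, .ofNat 2, .ofNat 0, .ofNat 0, .ofNat 0, .ofNat 0, .ofNat 0, .ofNat 2,
  .negSucc 1, .negSucc 1, .ofNat 4, .ofNat 0, .negSucc 3, .ofNat 0, .ofNat 4, .ofNat 4, .negSucc 3, .ofNat 4,
  .negSucc 1, .negSucc 3, .ofNat 0, .ofNat 2, .negSucc 1, .ofNat 4, .ofNat 4, .negSucc 1, .negSucc 1,
  .ofNat 0, .ofNat 2, .ofNat 2, .ofNat 2, .ofNat 2, .negSucc 1, .ofNat 0]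

/-- the values at the type 97 -/
def cX97 : List ℤ :=
  [.ofNat 0, .ofNat 1, .ofNat 1, .ofNat 0, .negSucc 0, .negSucc 0, .ofNat 0, .ofNat 1, .ofNat 0, .ofNat 0,
  .ofNat 0, .ofNat 0, .ofNat 0, .ofNat 1, .ofNat 0, .negSucc 0, .ofNat 1, .ofNat 0, .ofNat 0, .ofNat 1,
  .ofNat 0, .ofNat 0, .ofNat 0, .ofNat 0, .ofNat 0, .ofNat 0, .ofNat 0, .ofNat 0, .ofNat 0, .negSucc 0,
  .ofNat 0, .ofNat 0, .ofNat 0, .negSucc 0, .ofNat 0, .ofNat 0, .ofNat 0, .ofNat 0, .ofNat 0, .negSucc 0,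
  .ofNat 1, .ofNat 1, .negSucc 1, .ofNat 0, .ofNat 2, .ofNat 0, .negSucc 1, .negSucc 1, .ofNat 2, .negSucc 1,
  .ofNat 1, .ofNat 2, .ofNat 0, .negSucc 0, .ofNat 1, .negSucc 1, .negSucc 1, .ofNat 1, .ofNat 1, .ofNat 0,
  .negSucc 0, .negSucc 0, .negSucc 0, .negSucc 0, .ofNat 1, .ofNat 0]

/-- the values at the type 98 -/
def cX98 : List ℤ :=
  [.ofNat 2, .ofNat 0, .ofNat 0, .ofNat 0, .ofNat 0, .negSucc 1, .ofNat 0, .ofNat 0, .ofNat 0, .ofNat 0,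
  .ofNat 0, .ofNat 0, .ofNat 0, .ofNat 0, .ofNat 0, .ofNat 0, .ofNat 0, .ofNat 0, .ofNat 0, .ofNat 0,
  .ofNat 0, .ofNat 0, .ofNat 0, .ofNat 0, .ofNat 0, .ofNat 0, .ofNat 0, .ofNat 0, .ofNat 0, .ofNat 0,
  .ofNat 0, .ofNat 0, .ofNat 0, .negSucc 1, .ofNat 0, .ofNat 0, .ofNat 2, .ofNat 0, .ofNat 2, .ofNat 0,
  .ofNat 0, .ofNat 0, .ofNat 0, .ofNat 4, .ofNat 0, .ofNat 4, .negSucc 3, .ofNat 0, .negSucc 3, .ofNat 2,
  .negSucc 3, .negSucc 1, .ofNat 2, .ofNat 2, .negSucc 1, .ofNat 2, .ofNat 4, .ofNat 0, .negSucc 1,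
  .negSucc 1, .ofNat 2, .ofNat 2, .ofNat 2, .ofNat 2, .negSucc 1, .negSucc 1]

/-- the values at the type 99 -/
def cX99 : List ℤ :=
  [.negSucc 0, .ofNat 0, .ofNat 0, .ofNat 0, .ofNat 0, .ofNat 1, .ofNat 0, .ofNat 0, .ofNat 0, .ofNat 0,
  .ofNat 0, .ofNat 0, .ofNat 0, .ofNat 0, .ofNat 0, .ofNat 0, .ofNat 0, .ofNat 0, .ofNat 0, .ofNat 0,
  .ofNat 0, .ofNat 0, .ofNat 0, .ofNat 0, .ofNat 0, .ofNat 0, .ofNat 0, .ofNat 0, .ofNat 0, .ofNat 0,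
  .ofNat 0, .ofNat 0, .ofNat 0, .ofNat 1, .ofNat 0, .ofNat 0, .negSucc 0, .ofNat 0, .negSucc 0, .ofNat 0,
  .ofNat 0, .ofNat 0, .ofNat 0, .negSucc 1, .ofNat 0, .negSucc 1, .ofNat 2, .ofNat 0, .ofNat 2, .negSucc 0,
  .ofNat 2, .ofNat 1, .negSucc 0, .negSucc 0, .ofNat 1, .negSucc 0, .negSucc 1, .ofNat 0, .ofNat 1, .ofNat 1,
  .negSucc 0, .negSucc 0, .negSucc 0, .negSucc 0, .ofNat 1, .ofNat 1]

/-- the values at the type 100 -/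
def cX100 : List ℤ :=
  [.ofNat 0, .ofNat 0, .ofNat 0, .ofNat 0, .ofNat 0, .ofNat 0, .ofNat 0, .ofNat 0, .ofNat 0, .ofNat 0,
  .ofNat 0, .ofNat 0, .ofNat 0, .ofNat 0, .ofNat 0, .ofNat 0, .ofNat 0, .ofNat 0, .ofNat 0, .ofNat 0,
  .ofNat 0, .ofNat 0, .ofNat 0, .ofNat 0, .ofNat 0, .ofNat 0, .ofNat 0, .ofNat 0, .ofNat 0, .ofNat 0,
  .ofNat 0, .ofNat 0, .ofNat 0, .ofNat 0, .ofNat 0, .ofNat 0, .ofNat 0, .ofNat 0, .ofNat 0, .ofNat 0,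
  .ofNat 0, .ofNat 0, .ofNat 0, .ofNat 0, .ofNat 0, .ofNat 0, .ofNat 0, .ofNat 0, .ofNat 0, .ofNat 0,
  .ofNat 0, .ofNat 0, .ofNat 0, .ofNat 0, .ofNat 0, .ofNat 0, .ofNat 0, .ofNat 0, .ofNat 0, .ofNat 0,
  .ofNat 0, .ofNat 0, .ofNat 0, .ofNat 0, .ofNat 0, .ofNat 0]

/-- the values at the type 101 -/
def cX101 : List ℤ :=
  [.ofNat 0, .ofNat 0, .ofNat 0, .ofNat 0, .ofNat 0, .ofNat 0, .ofNat 0, .ofNat 0, .ofNat 0, .ofNat 0,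
  .ofNat 0, .ofNat 0, .ofNat 0, .ofNat 0, .ofNat 0, .ofNat 0, .ofNat 0, .ofNat 0, .ofNat 0, .ofNat 0,
  .ofNat 0, .ofNat 0, .ofNat 0, .ofNat 0, .ofNat 0, .ofNat 0, .ofNat 0, .ofNat 0, .ofNat 0, .ofNat 0,
  .ofNat 0, .ofNat 0, .ofNat 0, .ofNat 0, .ofNat 0, .ofNat 0, .ofNat 0, .ofNat 0, .ofNat 0, .ofNat 0,
  .ofNat 0, .ofNat 0, .ofNat 0, .ofNat 0, .ofNat 0, .ofNat 0, .ofNat 0, .ofNat 0, .ofNat 0, .ofNat 0,
  .ofNat 0, .ofNat 0, .ofNat 0, .ofNat 0, .ofNat 0, .ofNat 0, .ofNat 0, .ofNat 0, .ofNat 0, .ofNat 0,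
  .ofNat 0, .ofNat 0, .ofNat 0, .ofNat 0, .ofNat 0, .ofNat 0]

/-- the values at the type 102 -/
def cX102 : List ℤ :=
  [.ofNat 4, .negSucc 1, .negSucc 3, .negSucc 1, .ofNat 4, .ofNat 0, .ofNat 0, .ofNat 0, .ofNat 0,
  .negSucc 3, .ofNat 4, .ofNat 2, .ofNat 0, .negSucc 3, .ofNat 2, .ofNat 0, .ofNat 4, .ofNat 0, .ofNat 4,
  .negSucc 1, .negSucc 1, .ofNat 0, .ofNat 0, .ofNat 4, .negSucc 3, .ofNat 0, .ofNat 8, .ofNat 4, .negSucc 3,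
  .ofNat 0, .negSucc 3, .ofNat 0, .ofNat 0, .ofNat 0, .ofNat 0, .ofNat 4, .ofNat 0, .ofNat 0, .negSucc 3,
  .ofNat 0, .ofNat 0, .ofNat 0, .ofNat 0, .ofNat 0, .ofNat 8, .ofNat 0, .ofNat 0, .ofNat 0, .ofNat 0,
  .ofNat 4, .negSucc 3, .ofNat 0, .ofNat 4, .ofNat 4, .negSucc 3, .ofNat 0, .ofNat 0, .negSucc 3, .ofNat 0,
  .ofNat 0, .ofNat 0, .ofNat 4, .ofNat 4, .ofNat 0, .ofNat 0, .negSucc 3]

/-- the values at the type 103 -/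
def cX103 : List ℤ :=
  [.negSucc 1, .ofNat 1, .ofNat 2, .ofNat 1, .negSucc 1, .ofNat 0, .ofNat 0, .ofNat 0, .ofNat 0, .ofNat 2,
  .negSucc 1, .negSucc 0, .ofNat 0, .ofNat 2, .negSucc 0, .ofNat 0, .negSucc 1, .ofNat 0, .negSucc 1,
  .ofNat 1, .ofNat 1, .ofNat 0, .ofNat 0, .negSucc 1, .ofNat 2, .ofNat 0, .negSucc 3, .negSucc 1, .ofNat 2,
  .ofNat 0, .ofNat 2, .ofNat 0, .ofNat 0, .ofNat 0, .ofNat 0, .negSucc 1, .ofNat 0, .ofNat 0, .ofNat 2,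
  .ofNat 0, .ofNat 0, .ofNat 0, .ofNat 0, .ofNat 0, .negSucc 3, .ofNat 0, .ofNat 0, .ofNat 0, .ofNat 0,
  .negSucc 1, .ofNat 2, .ofNat 0, .negSucc 1, .negSucc 1, .ofNat 2, .ofNat 0, .ofNat 0, .ofNat 2, .ofNat 0,
  .ofNat 0, .ofNat 0, .negSucc 1, .negSucc 1, .ofNat 0, .ofNat 0, .ofNat 2]

/-- the values at the type 104 -/
def cX104 : List ℤ :=
  [.ofNat 0, .ofNat 0, .ofNat 0, .ofNat 0, .ofNat 0, .ofNat 0, .ofNat 0, .ofNat 0, .ofNat 0, .ofNat 0,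
  .ofNat 0, .ofNat 0, .ofNat 0, .ofNat 0, .ofNat 0, .ofNat 0, .ofNat 0, .ofNat 0, .ofNat 0, .ofNat 0,
  .ofNat 0, .ofNat 0, .ofNat 0, .ofNat 0, .ofNat 0, .ofNat 0, .ofNat 0, .ofNat 0, .ofNat 0, .ofNat 0,
  .ofNat 0, .ofNat 0, .ofNat 0, .ofNat 0, .ofNat 0, .ofNat 0, .ofNat 0, .ofNat 0, .ofNat 0, .ofNat 0,
  .ofNat 0, .ofNat 0, .ofNat 0, .ofNat 0, .ofNat 0, .ofNat 0, .ofNat 0, .ofNat 0, .ofNat 0, .ofNat 0,
  .ofNat 0, .ofNat 0, .ofNat 0, .ofNat 0, .ofNat 0, .ofNat 0, .ofNat 0, .ofNat 0, .ofNat 0, .ofNat 0,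
  .ofNat 0, .ofNat 0, .ofNat 0, .ofNat 0, .ofNat 0, .ofNat 0]

/-- the values at the type 105 -/
def cX105 : List ℤ :=
  [.negSucc 1, .negSucc 7, .ofNat 8, .ofNat 4, .negSucc 7, .negSucc 11, .ofNat 12, .ofNat 12, .ofNat 0,
  .negSucc 9, .negSucc 7, .ofNat 2, .ofNat 0, .negSucc 3, .ofNat 2, .ofNat 0, .negSucc 7, .ofNat 6,
  .ofNat 10, .negSucc 1, .ofNat 10, .ofNat 0, .negSucc 5, .negSucc 1, .negSucc 9, .ofNat 6, .ofNat 2,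
  .negSucc 1, .negSucc 9, .ofNat 0, .ofNat 2, .ofNat 0, .ofNat 0, .ofNat 0, .ofNat 0, .negSucc 7, .ofNat 0,
  .ofNat 12, .negSucc 3, .ofNat 0, .ofNat 0, .ofNat 0, .ofNat 0, .negSucc 11, .negSucc 3, .ofNat 0, .ofNat 0,
  .ofNat 0, .ofNat 0, .ofNat 10, .negSucc 3, .negSucc 5, .negSucc 1, .ofNat 4, .ofNat 8, .ofNat 6, .ofNat 0,
  .ofNat 2, .ofNat 12, .negSucc 11, .ofNat 6, .negSucc 1, .ofNat 16, .negSucc 5, .negSucc 5, .ofNat 2]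

/-- the values at the type 106 -/
def cX106 : List ℤ :=
  [.ofNat 1, .ofNat 4, .negSucc 3, .negSucc 1, .ofNat 4, .ofNat 6, .negSucc 5, .negSucc 5, .ofNat 0,
  .ofNat 5, .ofNat 4, .negSucc 0, .ofNat 0, .ofNat 2, .negSucc 0, .ofNat 0, .ofNat 4, .negSucc 2, .negSucc 4,
  .ofNat 1, .negSucc 4, .ofNat 0, .ofNat 3, .ofNat 1, .ofNat 5, .negSucc 2, .negSucc 0, .ofNat 1, .ofNat 5,
  .ofNat 0, .negSucc 0, .ofNat 0, .ofNat 0, .ofNat 0, .ofNat 0, .ofNat 4, .ofNat 0, .negSucc 5, .ofNat 2,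
  .ofNat 0, .ofNat 0, .ofNat 0, .ofNat 0, .ofNat 6, .ofNat 2, .ofNat 0, .ofNat 0, .ofNat 0, .ofNat 0,
  .negSucc 4, .ofNat 2, .ofNat 3, .ofNat 1, .negSucc 1, .negSucc 3, .negSucc 2, .ofNat 0, .negSucc 0,
  .negSucc 5, .ofNat 6, .negSucc 2, .ofNat 1, .negSucc 7, .ofNat 3, .ofNat 3, .negSucc 0]

/-- the values at the type 107 -/
def cX107 : List ℤ :=
  [.negSucc 7, .ofNat 16, .negSucc 15, .ofNat 16, .negSucc 7, .ofNat 0, .ofNat 0, .ofNat 0, .ofNat 0,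
  .negSucc 15, .ofNat 16, .ofNat 8, .ofNat 0, .negSucc 15, .ofNat 8, .ofNat 0, .ofNat 16, .ofNat 0,
  .negSucc 7, .negSucc 7, .negSucc 7, .ofNat 0, .ofNat 0, .negSucc 7, .ofNat 8, .ofNat 0, .ofNat 8,
  .negSucc 7, .ofNat 8, .ofNat 0, .ofNat 8, .ofNat 0, .ofNat 0, .ofNat 0, .ofNat 0, .negSucc 7, .ofNat 0,
  .ofNat 0, .ofNat 8, .ofNat 0, .ofNat 0, .ofNat 0, .ofNat 0, .ofNat 0, .negSucc 15, .ofNat 0, .ofNat 0,
  .ofNat 0, .ofNat 0, .ofNat 16, .ofNat 8, .ofNat 0, .negSucc 7, .ofNat 16, .negSucc 15, .ofNat 0, .ofNat 0,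
  .ofNat 8, .ofNat 0, .negSucc 23, .ofNat 0, .ofNat 16, .ofNat 16, .ofNat 24, .negSucc 23, .negSucc 15]

/-- the values at the type 108 -/
def cX108 : List ℤ :=
  [.ofNat 4, .negSucc 7, .ofNat 8, .negSucc 7, .ofNat 4, .ofNat 0, .ofNat 0, .ofNat 0, .ofNat 0, .ofNat 8,
  .negSucc 7, .negSucc 3, .ofNat 0, .ofNat 8, .negSucc 3, .ofNat 0, .negSucc 7, .ofNat 0, .ofNat 4, .ofNat 4,
  .ofNat 4, .ofNat 0, .ofNat 0, .ofNat 4, .negSucc 3, .ofNat 0, .negSucc 3, .ofNat 4, .negSucc 3, .ofNat 0,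
  .negSucc 3, .ofNat 0, .ofNat 0, .ofNat 0, .ofNat 0, .ofNat 4, .ofNat 0, .ofNat 0, .negSucc 3, .ofNat 0,
  .ofNat 0, .ofNat 0, .ofNat 0, .ofNat 0, .ofNat 8, .ofNat 0, .ofNat 0, .ofNat 0, .ofNat 0, .negSucc 7,
  .negSucc 3, .ofNat 0, .ofNat 4, .negSucc 7, .ofNat 8, .ofNat 0, .ofNat 0, .negSucc 3, .ofNat 0, .ofNat 12,
  .ofNat 0, .negSucc 7, .negSucc 7, .negSucc 11, .ofNat 12, .ofNat 8]

/-- the values at the type 109 -/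
def cX109 : List ℤ :=
  [.ofNat 0, .negSucc 5, .ofNat 0, .ofNat 6, .ofNat 0, .ofNat 0, .ofNat 0, .ofNat 0, .ofNat 0, .ofNat 0,
  .ofNat 0, .negSucc 5, .ofNat 0, .ofNat 0, .ofNat 6, .ofNat 0, .ofNat 0, .ofNat 0, .ofNat 0, .ofNat 6,
  .negSucc 5, .ofNat 0, .ofNat 0, .ofNat 0, .ofNat 0, .ofNat 0, .ofNat 0, .ofNat 0, .ofNat 0, .ofNat 0,
  .ofNat 0, .ofNat 0, .ofNat 0, .ofNat 0, .ofNat 0, .ofNat 0, .ofNat 0, .ofNat 0, .ofNat 0, .ofNat 0,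
  .ofNat 0, .ofNat 0, .ofNat 0, .ofNat 0, .ofNat 0, .ofNat 0, .ofNat 0, .ofNat 0, .ofNat 0, .ofNat 0,
  .ofNat 0, .ofNat 0, .ofNat 0, .ofNat 0, .ofNat 0, .ofNat 0, .ofNat 0, .ofNat 0, .ofNat 0, .ofNat 0,
  .ofNat 0, .ofNat 0, .ofNat 0, .ofNat 0, .ofNat 0, .ofNat 0]

/-- the values at the type 110 -/
def cX110 : List ℤ :=
  [.ofNat 0, .ofNat 3, .ofNat 0, .negSucc 2, .ofNat 0, .ofNat 0, .ofNat 0, .ofNat 0, .ofNat 0, .ofNat 0,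
  .ofNat 0, .ofNat 3, .ofNat 0, .ofNat 0, .negSucc 2, .ofNat 0, .ofNat 0, .ofNat 0, .ofNat 0, .negSucc 2,
  .ofNat 3, .ofNat 0, .ofNat 0, .ofNat 0, .ofNat 0, .ofNat 0, .ofNat 0, .ofNat 0, .ofNat 0, .ofNat 0,
  .ofNat 0, .ofNat 0, .ofNat 0, .ofNat 0, .ofNat 0, .ofNat 0, .ofNat 0, .ofNat 0, .ofNat 0, .ofNat 0,
  .ofNat 0, .ofNat 0, .ofNat 0, .ofNat 0, .ofNat 0, .ofNat 0, .ofNat 0, .ofNat 0, .ofNat 0, .ofNat 0,
  .ofNat 0, .ofNat 0, .ofNat 0, .ofNat 0, .ofNat 0, .ofNat 0, .ofNat 0, .ofNat 0, .ofNat 0, .ofNat 0,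
  .ofNat 0, .ofNat 0, .ofNat 0, .ofNat 0, .ofNat 0, .ofNat 0]

/-- the values at the type 111 -/
def cX111 : List ℤ :=
  [.ofNat 0, .ofNat 3, .ofNat 0, .negSucc 2, .ofNat 0, .ofNat 0, .ofNat 0, .ofNat 0, .ofNat 0, .ofNat 0,
  .ofNat 0, .ofNat 3, .ofNat 0, .ofNat 0, .negSucc 2, .ofNat 0, .ofNat 0, .ofNat 0, .ofNat 0, .negSucc 2,
  .ofNat 3, .ofNat 0, .ofNat 0, .ofNat 0, .ofNat 0, .ofNat 0, .ofNat 0, .ofNat 0, .ofNat 0, .ofNat 0,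
  .ofNat 0, .ofNat 0, .ofNat 0, .ofNat 0, .ofNat 0, .ofNat 0, .ofNat 0, .ofNat 0, .ofNat 0, .ofNat 0,
  .ofNat 0, .ofNat 0, .ofNat 0, .ofNat 0, .ofNat 0, .ofNat 0, .ofNat 0, .ofNat 0, .ofNat 0, .ofNat 0,
  .ofNat 0, .ofNat 0, .ofNat 0, .ofNat 0, .ofNat 0, .ofNat 0, .ofNat 0, .ofNat 0, .ofNat 0, .ofNat 0,
  .ofNat 0, .ofNat 0, .ofNat 0, .ofNat 0, .ofNat 0, .ofNat 0]

/-- the values at the type 112 -/
def cX112 : List ℤ :=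
  [.negSucc 3, .ofNat 0, .ofNat 0, .negSucc 1, .negSucc 3, .ofNat 8, .negSucc 3, .ofNat 4, .ofNat 0,
  .ofNat 0, .ofNat 2, .negSucc 3, .negSucc 5, .ofNat 0, .ofNat 2, .ofNat 0, .ofNat 0, .ofNat 0, .ofNat 2,
  .ofNat 0, .ofNat 4, .negSucc 1, .negSucc 1, .negSucc 3, .ofNat 4, .negSucc 1, .ofNat 0, .ofNat 4,
  .negSucc 3, .negSucc 3, .ofNat 2, .ofNat 0, .ofNat 0, .ofNat 0, .ofNat 0, .ofNat 0, .ofNat 6, .ofNat 0,
  .ofNat 0, .ofNat 0, .ofNat 0, .ofNat 0, .ofNat 0, .negSucc 3, .ofNat 0, .ofNat 0, .ofNat 0, .ofNat 0,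
  .ofNat 0, .ofNat 8, .negSucc 5, .negSucc 3, .ofNat 8, .ofNat 2, .negSucc 7, .ofNat 0, .ofNat 8, .negSucc 3,
  .ofNat 0, .negSucc 3, .ofNat 4, .ofNat 2, .ofNat 2, .ofNat 4, .negSucc 3, .negSucc 3]

/-- the values at the type 113 -/
def cX113 : List ℤ :=
  [.ofNat 2, .ofNat 0, .ofNat 0, .ofNat 1, .ofNat 2, .negSucc 3, .ofNat 2, .negSucc 1, .ofNat 0, .ofNat 0,
  .negSucc 0, .ofNat 2, .ofNat 3, .ofNat 0, .negSucc 0, .ofNat 0, .ofNat 0, .ofNat 0, .negSucc 0, .ofNat 0,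
  .negSucc 1, .ofNat 1, .ofNat 1, .ofNat 2, .negSucc 1, .ofNat 1, .ofNat 0, .negSucc 1, .ofNat 2, .ofNat 2,
  .negSucc 0, .ofNat 0, .ofNat 0, .ofNat 0, .ofNat 0, .ofNat 0, .negSucc 2, .ofNat 0, .ofNat 0, .ofNat 0,
  .ofNat 0, .ofNat 0, .ofNat 0, .ofNat 2, .ofNat 0, .ofNat 0, .ofNat 0, .ofNat 0, .ofNat 0, .negSucc 3,
  .ofNat 3, .ofNat 2, .negSucc 3, .negSucc 0, .ofNat 4, .ofNat 0, .negSucc 3, .ofNat 2, .ofNat 0, .ofNat 2,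
  .negSucc 1, .negSucc 0, .negSucc 0, .negSucc 1, .ofNat 2, .ofNat 2]

/-- the values at the type 114 -/
def cX114 : List ℤ :=
  [.ofNat 4, .ofNat 0, .negSucc 3, .ofNat 2, .ofNat 0, .ofNat 0, .ofNat 0, .ofNat 4, .ofNat 0, .ofNat 0,
  .ofNat 2, .negSucc 3, .ofNat 2, .ofNat 0, .negSucc 1, .ofNat 0, .ofNat 0, .ofNat 0, .negSucc 1, .ofNat 0,
  .ofNat 4, .ofNat 2, .ofNat 2, .ofNat 0, .ofNat 0, .ofNat 2, .ofNat 0, .ofNat 0, .ofNat 0, .ofNat 4,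
  .negSucc 1, .negSucc 3, .ofNat 0, .negSucc 3, .ofNat 0, .ofNat 0, .negSucc 1, .ofNat 0, .ofNat 0, .ofNat 0,
  .negSucc 3, .ofNat 4, .ofNat 0, .negSucc 3, .ofNat 0, .negSucc 7, .ofNat 0, .ofNat 0, .ofNat 0, .ofNat 0,
  .negSucc 1, .ofNat 0, .ofNat 0, .ofNat 2, .ofNat 4, .negSucc 3, .ofNat 4, .ofNat 0, .ofNat 0, .ofNat 0,
  .ofNat 0, .negSucc 1, .negSucc 1, .ofNat 4, .ofNat 0, .ofNat 0]

/-- the values at the type 115 -/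
def cX115 : List ℤ :=
  [.negSucc 1, .ofNat 0, .ofNat 2, .negSucc 0, .ofNat 0, .ofNat 0, .ofNat 0, .negSucc 1, .ofNat 0, .ofNat 0,
  .negSucc 0, .ofNat 2, .negSucc 0, .ofNat 0, .ofNat 1, .ofNat 0, .ofNat 0, .ofNat 0, .ofNat 1, .ofNat 0,
  .negSucc 1, .negSucc 0, .negSucc 0, .ofNat 0, .ofNat 0, .negSucc 0, .ofNat 0, .ofNat 0, .ofNat 0,
  .negSucc 1, .ofNat 1, .ofNat 2, .ofNat 0, .ofNat 2, .ofNat 0, .ofNat 0, .ofNat 1, .ofNat 0, .ofNat 0,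
  .ofNat 0, .ofNat 2, .negSucc 1, .ofNat 0, .ofNat 2, .ofNat 0, .ofNat 4, .ofNat 0, .ofNat 0, .ofNat 0,
  .ofNat 0, .ofNat 1, .ofNat 0, .ofNat 0, .negSucc 0, .negSucc 1, .ofNat 2, .negSucc 1, .ofNat 0, .ofNat 0,
  .ofNat 0, .ofNat 0, .ofNat 1, .ofNat 1, .negSucc 1, .ofNat 0, .ofNat 0]

/-- the values at the type 116 -/
def cX116 : List ℤ :=
  [.ofNat 0, .ofNat 0, .ofNat 0, .ofNat 0, .ofNat 0, .ofNat 0, .ofNat 0, .ofNat 0, .ofNat 0, .ofNat 0,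
  .ofNat 0, .ofNat 0, .ofNat 0, .ofNat 0, .ofNat 0, .ofNat 0, .ofNat 0, .ofNat 0, .ofNat 0, .ofNat 0,
  .ofNat 0, .ofNat 0, .ofNat 0, .ofNat 0, .ofNat 0, .ofNat 0, .ofNat 0, .ofNat 0, .ofNat 0, .ofNat 0,
  .ofNat 0, .ofNat 0, .ofNat 0, .ofNat 0, .ofNat 0, .ofNat 0, .ofNat 0, .ofNat 0, .ofNat 0, .ofNat 0,
  .ofNat 0, .ofNat 0, .ofNat 0, .ofNat 0, .ofNat 0, .ofNat 0, .ofNat 0, .ofNat 0, .ofNat 0, .ofNat 0,
  .ofNat 0, .ofNat 0, .ofNat 0, .ofNat 0, .ofNat 0, .ofNat 0, .ofNat 0, .ofNat 0, .ofNat 0, .ofNat 0,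
  .ofNat 0, .ofNat 0, .ofNat 0, .ofNat 0, .ofNat 0, .ofNat 0]

/-- the values at the type 117 -/
def cX117 : List ℤ :=
  [.ofNat 0, .ofNat 0, .ofNat 0, .ofNat 0, .ofNat 0, .ofNat 0, .ofNat 0, .ofNat 0, .ofNat 0, .ofNat 0,
  .ofNat 0, .ofNat 0, .ofNat 0, .ofNat 0, .ofNat 0, .ofNat 0, .ofNat 0, .ofNat 0, .ofNat 0, .ofNat 0,
  .ofNat 0, .ofNat 0, .ofNat 0, .ofNat 0, .ofNat 0, .ofNat 0, .ofNat 0, .ofNat 0, .ofNat 0, .ofNat 0,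
  .ofNat 0, .ofNat 0, .ofNat 0, .ofNat 0, .ofNat 0, .ofNat 0, .ofNat 0, .ofNat 0, .ofNat 0, .ofNat 0,
  .ofNat 0, .ofNat 0, .ofNat 0, .ofNat 0, .ofNat 0, .ofNat 0, .ofNat 0, .ofNat 0, .ofNat 0, .ofNat 0,
  .ofNat 0, .ofNat 0, .ofNat 0, .ofNat 0, .ofNat 0, .ofNat 0, .ofNat 0, .ofNat 0, .ofNat 0, .ofNat 0,
  .ofNat 0, .ofNat 0, .ofNat 0, .ofNat 0, .ofNat 0, .ofNat 0]

/-- the values at the type 118 -/
def cX118 : List ℤ :=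
  [.negSucc 1, .ofNat 2, .ofNat 0, .ofNat 0, .ofNat 4, .ofNat 0, .negSucc 1, .ofNat 0, .negSucc 1, .ofNat 0,
  .ofNat 0, .ofNat 0, .ofNat 0, .ofNat 0, .ofNat 2, .negSucc 1, .ofNat 0, .ofNat 0, .ofNat 0, .ofNat 0,
  .ofNat 0, .negSucc 1, .ofNat 0, .ofNat 0, .ofNat 0, .ofNat 2, .ofNat 0, .ofNat 0, .ofNat 0, .ofNat 0,
  .ofNat 0, .ofNat 0, .ofNat 0, .ofNat 0, .negSucc 1, .negSucc 1, .ofNat 0, .ofNat 0, .ofNat 0, .ofNat 0,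
  .ofNat 0, .ofNat 0, .ofNat 2, .ofNat 0, .ofNat 0, .ofNat 0, .ofNat 0, .negSucc 1, .ofNat 0, .ofNat 0,
  .ofNat 0, .ofNat 2, .negSucc 1, .negSucc 1, .ofNat 4, .negSucc 1, .negSucc 1, .ofNat 4, .ofNat 2, .ofNat 2,
  .negSucc 1, .negSucc 1, .negSucc 1, .negSucc 1, .ofNat 4, .ofNat 2]

/-- the values at the type 119 -/
def cX119 : List ℤ :=
  [.ofNat 1, .negSucc 0, .ofNat 0, .ofNat 0, .negSucc 1, .ofNat 0, .ofNat 1, .ofNat 0, .ofNat 1, .ofNat 0,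
  .ofNat 0, .ofNat 0, .ofNat 0, .ofNat 0, .negSucc 0, .ofNat 1, .ofNat 0, .ofNat 0, .ofNat 0, .ofNat 0,
  .ofNat 0, .ofNat 1, .ofNat 0, .ofNat 0, .ofNat 0, .negSucc 0, .ofNat 0, .ofNat 0, .ofNat 0, .ofNat 0,
  .ofNat 0, .ofNat 0, .ofNat 0, .ofNat 0, .ofNat 1, .ofNat 1, .ofNat 0, .ofNat 0, .ofNat 0, .ofNat 0,
  .ofNat 0, .ofNat 0, .negSucc 0, .ofNat 0, .ofNat 0, .ofNat 0, .ofNat 0, .ofNat 1, .ofNat 0, .ofNat 0,
  .ofNat 0, .negSucc 0, .ofNat 1, .ofNat 1, .negSucc 1, .ofNat 1, .ofNat 1, .negSucc 1, .negSucc 0,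
  .negSucc 0, .ofNat 1, .ofNat 1, .ofNat 1, .ofNat 1, .negSucc 1, .negSucc 0]

/-- the values at the type 120 -/
def cX120 : List ℤ :=
  [.negSucc 1, .ofNat 2, .negSucc 1, .ofNat 0, .ofNat 0, .ofNat 0, .ofNat 0, .ofNat 0, .ofNat 0, .ofNat 2,
  .ofNat 0, .ofNat 0, .ofNat 0, .ofNat 0, .ofNat 0, .ofNat 2, .ofNat 0, .ofNat 0, .ofNat 0, .ofNat 2,
  .ofNat 0, .ofNat 0, .ofNat 0, .negSucc 1, .negSucc 1, .ofNat 0, .ofNat 0, .negSucc 1, .negSucc 1, .ofNat 2,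
  .ofNat 0, .ofNat 0, .negSucc 3, .ofNat 0, .negSucc 3, .ofNat 2, .ofNat 0, .ofNat 4, .negSucc 1, .ofNat 0,
  .ofNat 2, .ofNat 0, .negSucc 3, .ofNat 0, .ofNat 0, .ofNat 0, .negSucc 3, .ofNat 0, .ofNat 4, .ofNat 6,
  .negSucc 3, .negSucc 5, .ofNat 2, .ofNat 4, .negSucc 3, .ofNat 4, .ofNat 4, .negSucc 3, .negSucc 7,
  .negSucc 1, .ofNat 4, .ofNat 4, .ofNat 4, .ofNat 4, .negSucc 3, .negSucc 3]

/-- the values at the type 121 -/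
def cX121 : List ℤ :=
  [.ofNat 1, .negSucc 0, .ofNat 1, .ofNat 0, .ofNat 0, .ofNat 0, .ofNat 0, .ofNat 0, .ofNat 0, .negSucc 0,
  .ofNat 0, .ofNat 0, .ofNat 0, .ofNat 0, .ofNat 0, .negSucc 0, .ofNat 0, .ofNat 0, .ofNat 0, .negSucc 0,
  .ofNat 0, .ofNat 0, .ofNat 0, .ofNat 1, .ofNat 1, .ofNat 0, .ofNat 0, .ofNat 1, .ofNat 1, .negSucc 0,
  .ofNat 0, .ofNat 0, .ofNat 2, .ofNat 0, .ofNat 2, .negSucc 0, .ofNat 0, .negSucc 1, .ofNat 1, .ofNat 0,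
  .negSucc 0, .ofNat 0, .ofNat 2, .ofNat 0, .ofNat 0, .ofNat 0, .ofNat 2, .ofNat 0, .negSucc 1, .negSucc 2,
  .ofNat 2, .ofNat 3, .negSucc 0, .negSucc 1, .ofNat 2, .negSucc 1, .negSucc 1, .ofNat 2, .ofNat 4, .ofNat 1,
  .negSucc 1, .negSucc 1, .negSucc 1, .negSucc 1, .ofNat 2, .ofNat 2]

/-- the values at the type 122 -/
def cX122 : List ℤ :=
  [.ofNat 0, .ofNat 0, .ofNat 0, .negSucc 1, .ofNat 0, .ofNat 0, .ofNat 0, .ofNat 0, .ofNat 0, .ofNat 0,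
  .ofNat 0, .ofNat 0, .ofNat 0, .ofNat 0, .ofNat 0, .ofNat 0, .ofNat 0, .ofNat 0, .ofNat 0, .ofNat 0,
  .negSucc 1, .ofNat 0, .ofNat 2, .ofNat 0, .ofNat 0, .ofNat 0, .ofNat 0, .ofNat 0, .ofNat 0, .ofNat 0,
  .ofNat 0, .ofNat 0, .ofNat 2, .negSucc 1, .ofNat 0, .ofNat 0, .ofNat 0, .ofNat 0, .ofNat 0, .ofNat 0,
  .ofNat 0, .ofNat 0, .ofNat 0, .negSucc 3, .negSucc 1, .ofNat 0, .ofNat 0, .negSucc 3, .ofNat 0, .ofNat 2,
  .negSucc 1, .negSucc 1, .ofNat 2, .ofNat 2, .negSucc 1, .ofNat 4, .ofNat 2, .negSucc 1, .negSucc 1,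
  .negSucc 1, .ofNat 2, .ofNat 2, .ofNat 2, .ofNat 2, .negSucc 1, .negSucc 1]

/-- the values at the type 123 -/
def cX123 : List ℤ :=
  [.ofNat 0, .ofNat 0, .ofNat 0, .ofNat 1, .ofNat 0, .ofNat 0, .ofNat 0, .ofNat 0, .ofNat 0, .ofNat 0,
  .ofNat 0, .ofNat 0, .ofNat 0, .ofNat 0, .ofNat 0, .ofNat 0, .ofNat 0, .ofNat 0, .ofNat 0, .ofNat 0,
  .ofNat 1, .ofNat 0, .negSucc 0, .ofNat 0, .ofNat 0, .ofNat 0, .ofNat 0, .ofNat 0, .ofNat 0, .ofNat 0,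
  .ofNat 0, .ofNat 0, .negSucc 0, .ofNat 1, .ofNat 0, .ofNat 0, .ofNat 0, .ofNat 0, .ofNat 0, .ofNat 0,
  .ofNat 0, .ofNat 0, .ofNat 0, .ofNat 2, .ofNat 1, .ofNat 0, .ofNat 0, .ofNat 2, .ofNat 0, .negSucc 0,
  .ofNat 1, .ofNat 1, .negSucc 0, .negSucc 0, .ofNat 1, .negSucc 1, .negSucc 0, .ofNat 1, .ofNat 1, .ofNat 1,
  .negSucc 0, .negSucc 0, .negSucc 0, .negSucc 0, .ofNat 1, .ofNat 1]

/-- the values at the type 124 -/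
def cX124 : List ℤ :=
  [.ofNat 1, .ofNat 1, .negSucc 0, .ofNat 0, .ofNat 0, .ofNat 1, .negSucc 0, .ofNat 1, .negSucc 0, .ofNat 0,
  .negSucc 1, .ofNat 1, .ofNat 0, .ofNat 0, .ofNat 0, .negSucc 0, .ofNat 2, .ofNat 0, .ofNat 0, .ofNat 2,
  .ofNat 0, .ofNat 1, .ofNat 0, .ofNat 0, .ofNat 0, .ofNat 0, .ofNat 1, .ofNat 0, .ofNat 0, .ofNat 1,
  .ofNat 0, .ofNat 1, .negSucc 0, .ofNat 0, .ofNat 0, .ofNat 0, .ofNat 0, .ofNat 0, .ofNat 0, .negSucc 0,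
  .ofNat 0, .negSucc 0, .ofNat 0, .negSucc 1, .ofNat 0, .ofNat 0, .ofNat 0, .ofNat 2, .negSucc 1, .negSucc 0,
  .ofNat 0, .negSucc 0, .ofNat 1, .negSucc 0, .ofNat 0, .ofNat 1, .ofNat 0, .ofNat 0, .ofNat 0, .negSucc 1,
  .negSucc 0, .ofNat 0, .ofNat 0, .ofNat 0, .ofNat 0, .ofNat 2]

/-- the values at the type 125 -/
def cX125 : List ℤ :=
  [.negSucc 1, .negSucc 1, .ofNat 2, .ofNat 0, .ofNat 0, .negSucc 1, .ofNat 2, .negSucc 1, .ofNat 2,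
  .ofNat 0, .ofNat 4, .negSucc 1, .ofNat 0, .ofNat 0, .ofNat 0, .ofNat 2, .negSucc 3, .ofNat 0, .ofNat 0,
  .negSucc 3, .ofNat 0, .negSucc 1, .ofNat 0, .ofNat 0, .ofNat 0, .ofNat 0, .negSucc 1, .ofNat 0, .ofNat 0,
  .negSucc 1, .ofNat 0, .negSucc 1, .ofNat 2, .ofNat 0, .ofNat 0, .ofNat 0, .ofNat 0, .ofNat 0, .ofNat 0,
  .ofNat 2, .ofNat 0, .ofNat 2, .ofNat 0, .ofNat 4, .ofNat 0, .ofNat 0, .ofNat 0, .negSucc 3, .ofNat 4,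
  .ofNat 2, .ofNat 0, .ofNat 2, .negSucc 1, .ofNat 2, .ofNat 0, .negSucc 1, .ofNat 0, .ofNat 0, .ofNat 0,
  .ofNat 4, .ofNat 2, .ofNat 0, .ofNat 0, .ofNat 0, .ofNat 0, .negSucc 3]

/-- the values at the type 126 -/
def cX126 : List ℤ :=
  [.ofNat 0, .ofNat 0, .ofNat 0, .ofNat 0, .ofNat 0, .ofNat 0, .ofNat 0, .ofNat 0, .ofNat 0, .ofNat 0,
  .ofNat 0, .ofNat 0, .ofNat 0, .ofNat 0, .ofNat 0, .ofNat 0, .ofNat 0, .ofNat 0, .ofNat 0, .ofNat 0,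
  .ofNat 0, .ofNat 0, .ofNat 0, .ofNat 0, .ofNat 0, .ofNat 0, .ofNat 0, .ofNat 0, .ofNat 0, .ofNat 0,
  .ofNat 0, .ofNat 0, .ofNat 0, .ofNat 0, .ofNat 0, .ofNat 0, .ofNat 0, .ofNat 0, .ofNat 0, .ofNat 0,
  .ofNat 0, .ofNat 0, .ofNat 0, .ofNat 0, .ofNat 0, .ofNat 0, .ofNat 0, .ofNat 0, .ofNat 0, .ofNat 0,
  .ofNat 0, .ofNat 0, .ofNat 0, .ofNat 0, .ofNat 0, .ofNat 0, .ofNat 0, .ofNat 0, .ofNat 0, .ofNat 0,
  .ofNat 0, .ofNat 0, .ofNat 0, .ofNat 0, .ofNat 0, .ofNat 0]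

/-- the values at the type 127 -/
def cX127 : List ℤ :=
  [.ofNat 0, .ofNat 0, .ofNat 0, .ofNat 0, .ofNat 0, .ofNat 0, .ofNat 0, .ofNat 0, .ofNat 0, .ofNat 0,
  .ofNat 0, .ofNat 0, .ofNat 0, .ofNat 0, .ofNat 0, .ofNat 0, .ofNat 0, .ofNat 0, .ofNat 0, .ofNat 0,
  .ofNat 0, .ofNat 0, .ofNat 0, .ofNat 0, .ofNat 0, .ofNat 0, .ofNat 0, .ofNat 0, .ofNat 0, .ofNat 0,
  .ofNat 0, .ofNat 0, .ofNat 0, .ofNat 0, .ofNat 0, .ofNat 0, .ofNat 0, .ofNat 0, .ofNat 0, .ofNat 0,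
  .ofNat 0, .ofNat 0, .ofNat 0, .ofNat 0, .ofNat 0, .ofNat 0, .ofNat 0, .ofNat 0, .ofNat 0, .ofNat 0,
  .ofNat 0, .ofNat 0, .ofNat 0, .ofNat 0, .ofNat 0, .ofNat 0, .ofNat 0, .ofNat 0, .ofNat 0, .ofNat 0,
  .ofNat 0, .ofNat 0, .ofNat 0, .ofNat 0, .ofNat 0, .ofNat 0]

/-- the values at the type 128 -/
def cX128 : List ℤ :=
  [.ofNat 0, .ofNat 2, .ofNat 2, .negSucc 1, .negSucc 1, .negSucc 1, .ofNat 0, .negSucc 1, .ofNat 2,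
  .ofNat 0, .ofNat 0, .negSucc 1, .negSucc 1, .ofNat 0, .ofNat 2, .ofNat 2, .ofNat 2, .ofNat 0, .ofNat 0,
  .ofNat 0, .ofNat 0, .ofNat 2, .ofNat 2, .ofNat 0, .ofNat 0, .ofNat 0, .ofNat 0, .ofNat 0, .ofNat 0,
  .ofNat 0, .negSucc 1, .ofNat 0, .negSucc 1, .ofNat 0, .ofNat 0, .ofNat 0, .ofNat 0, .ofNat 0, .ofNat 0,
  .ofNat 0, .ofNat 0, .ofNat 0, .ofNat 4, .ofNat 0, .ofNat 0, .ofNat 0, .ofNat 0, .ofNat 0, .ofNat 0,
  .ofNat 0, .ofNat 2, .ofNat 2, .negSucc 1, .ofNat 0, .ofNat 2, .negSucc 1, .negSucc 1, .ofNat 2, .ofNat 2,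
  .ofNat 2, .negSucc 3, .negSucc 3, .negSucc 1, .negSucc 1, .ofNat 2, .ofNat 4]

/-- the values at the type 129 -/
def cX129 : List ℤ :=
  [.ofNat 0, .negSucc 0, .negSucc 0, .ofNat 1, .ofNat 1, .ofNat 1, .ofNat 0, .ofNat 1, .negSucc 0, .ofNat 0,
  .ofNat 0, .ofNat 1, .ofNat 1, .ofNat 0, .negSucc 0, .negSucc 0, .negSucc 0, .ofNat 0, .ofNat 0, .ofNat 0,
  .ofNat 0, .negSucc 0, .negSucc 0, .ofNat 0, .ofNat 0, .ofNat 0, .ofNat 0, .ofNat 0, .ofNat 0, .ofNat 0,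
  .ofNat 1, .ofNat 0, .ofNat 1, .ofNat 0, .ofNat 0, .ofNat 0, .ofNat 0, .ofNat 0, .ofNat 0, .ofNat 0,
  .ofNat 0, .ofNat 0, .negSucc 1, .ofNat 0, .ofNat 0, .ofNat 0, .ofNat 0, .ofNat 0, .ofNat 0, .ofNat 0,
  .negSucc 0, .negSucc 0, .ofNat 1, .ofNat 0, .negSucc 0, .ofNat 1, .ofNat 1, .negSucc 0, .negSucc 0,
  .negSucc 0, .ofNat 2, .ofNat 2, .ofNat 1, .ofNat 1, .negSucc 0, .negSucc 1]

/-- the values at the type 130 -/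
def cX130 : List ℤ :=
  [.ofNat 0, .ofNat 0, .ofNat 0, .ofNat 0, .ofNat 0, .ofNat 0, .ofNat 0, .ofNat 0, .ofNat 0, .ofNat 0,
  .ofNat 0, .ofNat 0, .ofNat 0, .ofNat 0, .ofNat 0, .ofNat 0, .ofNat 0, .ofNat 0, .ofNat 0, .ofNat 0,
  .ofNat 0, .ofNat 0, .ofNat 0, .ofNat 0, .ofNat 0, .ofNat 0, .ofNat 0, .ofNat 0, .ofNat 0, .ofNat 0,
  .ofNat 0, .ofNat 0, .ofNat 0, .ofNat 0, .ofNat 0, .ofNat 0, .ofNat 0, .ofNat 0, .ofNat 0, .ofNat 0,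
  .ofNat 0, .ofNat 0, .ofNat 0, .ofNat 0, .ofNat 0, .ofNat 0, .ofNat 0, .ofNat 0, .ofNat 0, .ofNat 0,
  .ofNat 0, .ofNat 0, .ofNat 0, .ofNat 0, .ofNat 0, .ofNat 0, .ofNat 0, .ofNat 0, .ofNat 0, .ofNat 0,
  .ofNat 0, .ofNat 0, .ofNat 0, .ofNat 0, .ofNat 0, .ofNat 0]

/-- the values at the type 131 -/
def cX131 : List ℤ :=
  [.ofNat 0, .negSucc 1, .ofNat 0, .ofNat 0, .ofNat 0, .negSucc 1, .ofNat 0, .ofNat 0, .negSucc 1, .ofNat 2,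
  .ofNat 0, .ofNat 2, .ofNat 0, .ofNat 0, .ofNat 0, .ofNat 0, .ofNat 0, .ofNat 0, .negSucc 1, .ofNat 0,
  .ofNat 0, .ofNat 0, .ofNat 0, .negSucc 1, .ofNat 2, .ofNat 0, .ofNat 0, .negSucc 1, .ofNat 2, .ofNat 0,
  .ofNat 0, .ofNat 0, .ofNat 0, .ofNat 0, .ofNat 2, .ofNat 0, .ofNat 2, .ofNat 0, .ofNat 0, .negSucc 1,
  .ofNat 2, .ofNat 0, .ofNat 0, .ofNat 0, .ofNat 4, .negSucc 3, .ofNat 4, .ofNat 0, .ofNat 0, .ofNat 4,
  .negSucc 3, .negSucc 1, .ofNat 2, .ofNat 4, .negSucc 1, .ofNat 2, .ofNat 2, .negSucc 1, .negSucc 1,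
  .negSucc 1, .ofNat 0, .ofNat 2, .ofNat 2, .ofNat 0, .negSucc 1, .negSucc 1]

/-- the values at the type 132 -/
def cX132 : List ℤ :=
  [.ofNat 0, .ofNat 1, .ofNat 0, .ofNat 0, .ofNat 0, .ofNat 1, .ofNat 0, .ofNat 0, .ofNat 1, .negSucc 0,
  .ofNat 0, .negSucc 0, .ofNat 0, .ofNat 0, .ofNat 0, .ofNat 0, .ofNat 0, .ofNat 0, .ofNat 1, .ofNat 0,
  .ofNat 0, .ofNat 0, .ofNat 0, .ofNat 1, .negSucc 0, .ofNat 0, .ofNat 0, .ofNat 1, .negSucc 0, .ofNat 0,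
  .ofNat 0, .ofNat 0, .ofNat 0, .ofNat 0, .negSucc 0, .ofNat 0, .negSucc 0, .ofNat 0, .ofNat 0, .ofNat 1,
  .negSucc 0, .ofNat 0, .ofNat 0, .ofNat 0, .negSucc 1, .ofNat 2, .negSucc 1, .ofNat 0, .ofNat 0, .negSucc 1,
  .ofNat 2, .ofNat 1, .negSucc 0, .negSucc 1, .ofNat 1, .negSucc 0, .negSucc 0, .ofNat 1, .ofNat 1, .ofNat 1,
  .ofNat 0, .negSucc 0, .negSucc 0, .ofNat 0, .ofNat 1, .ofNat 1]

/-- the values at the type 133 -/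
def cX133 : List ℤ :=
  [.ofNat 0, .ofNat 0, .ofNat 0, .ofNat 0, .ofNat 0, .ofNat 0, .ofNat 0, .ofNat 0, .ofNat 0, .ofNat 0,
  .ofNat 0, .ofNat 0, .ofNat 0, .ofNat 0, .ofNat 0, .ofNat 0, .ofNat 0, .ofNat 0, .ofNat 0, .ofNat 0,
  .ofNat 0, .ofNat 0, .ofNat 0, .ofNat 0, .ofNat 0, .ofNat 0, .ofNat 0, .ofNat 0, .ofNat 0, .ofNat 0,
  .ofNat 0, .ofNat 0, .ofNat 0, .ofNat 0, .ofNat 0, .ofNat 0, .ofNat 0, .ofNat 0, .ofNat 0, .ofNat 0,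
  .ofNat 0, .ofNat 0, .ofNat 0, .ofNat 0, .ofNat 0, .ofNat 0, .ofNat 0, .ofNat 0, .ofNat 0, .ofNat 0,
  .ofNat 0, .ofNat 0, .ofNat 0, .ofNat 0, .ofNat 0, .ofNat 0, .ofNat 0, .ofNat 0, .ofNat 0, .ofNat 0,
  .ofNat 0, .ofNat 0, .ofNat 0, .ofNat 0, .ofNat 0, .ofNat 0]

/-- the values at the type 134 -/
def cX134 : List ℤ :=
  [.ofNat 0, .ofNat 0, .ofNat 0, .ofNat 0, .ofNat 0, .ofNat 0, .ofNat 0, .ofNat 0, .ofNat 0, .ofNat 0,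
  .ofNat 0, .ofNat 0, .ofNat 0, .ofNat 0, .ofNat 0, .ofNat 0, .ofNat 0, .ofNat 0, .ofNat 0, .ofNat 0,
  .ofNat 0, .ofNat 0, .ofNat 0, .ofNat 0, .ofNat 0, .ofNat 0, .ofNat 0, .ofNat 0, .ofNat 0, .ofNat 0,
  .ofNat 0, .ofNat 0, .ofNat 0, .ofNat 0, .ofNat 0, .ofNat 0, .ofNat 0, .ofNat 0, .ofNat 0, .ofNat 0,
  .ofNat 0, .ofNat 0, .ofNat 0, .ofNat 0, .ofNat 0, .ofNat 0, .ofNat 0, .ofNat 0, .ofNat 0, .ofNat 0,
  .ofNat 0, .ofNat 0, .ofNat 0, .ofNat 0, .ofNat 0, .ofNat 0, .ofNat 0, .ofNat 0, .ofNat 0, .ofNat 0,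
  .ofNat 0, .ofNat 0, .ofNat 0, .ofNat 0, .ofNat 0, .ofNat 0]

/-- the values at the type 135 -/
def cX135 : List ℤ :=
  [.ofNat 2, .negSucc 1, .negSucc 1, .negSucc 1, .ofNat 0, .ofNat 0, .ofNat 0, .ofNat 0, .ofNat 0, .ofNat 2,
  .negSucc 1, .ofNat 0, .ofNat 0, .ofNat 2, .ofNat 0, .negSucc 1, .ofNat 0, .negSucc 1, .negSucc 1, .ofNat 0,
  .ofNat 0, .ofNat 0, .ofNat 0, .negSucc 1, .ofNat 2, .ofNat 2, .ofNat 0, .ofNat 2, .negSucc 1, .negSucc 1,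
  .ofNat 0, .ofNat 2, .ofNat 0, .ofNat 2, .ofNat 0, .ofNat 0, .negSucc 1, .ofNat 0, .ofNat 0, .ofNat 0,
  .negSucc 1, .ofNat 0, .ofNat 0, .ofNat 0, .ofNat 0, .ofNat 0, .negSucc 3, .ofNat 0, .ofNat 0, .ofNat 2,
  .ofNat 2, .ofNat 2, .negSucc 1, .ofNat 2, .ofNat 0, .ofNat 0, .ofNat 0, .ofNat 0, .ofNat 0, .ofNat 0,
  .ofNat 0, .ofNat 0, .ofNat 2, .ofNat 0, .ofNat 0, .ofNat 0]

/-- the values at the type 136 -/
def cX136 : List ℤ :=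
  [.negSucc 0, .ofNat 1, .ofNat 1, .ofNat 1, .ofNat 0, .ofNat 0, .ofNat 0, .ofNat 0, .ofNat 0, .negSucc 0,
  .ofNat 1, .ofNat 0, .ofNat 0, .negSucc 0, .ofNat 0, .ofNat 1, .ofNat 0, .ofNat 1, .ofNat 1, .ofNat 0,
  .ofNat 0, .ofNat 0, .ofNat 0, .ofNat 1, .negSucc 0, .negSucc 0, .ofNat 0, .negSucc 0, .ofNat 1, .ofNat 1,
  .ofNat 0, .negSucc 0, .ofNat 0, .negSucc 0, .ofNat 0, .ofNat 0, .ofNat 1, .ofNat 0, .ofNat 0, .ofNat 0,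
  .ofNat 1, .ofNat 0, .ofNat 0, .ofNat 0, .ofNat 0, .ofNat 0, .ofNat 2, .ofNat 0, .ofNat 0, .negSucc 0,
  .negSucc 0, .negSucc 0, .ofNat 1, .negSucc 0, .ofNat 0, .ofNat 0, .ofNat 0, .ofNat 0, .ofNat 0, .ofNat 0,
  .ofNat 0, .ofNat 0, .negSucc 0, .ofNat 0, .ofNat 0, .ofNat 0]

/-- the values at the type 137 -/
def cX137 : List ℤ :=
  [.negSucc 0, .ofNat 0, .ofNat 1, .ofNat 0, .ofNat 0, .ofNat 0, .ofNat 0, .negSucc 0, .ofNat 0, .ofNat 0,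
  .ofNat 0, .ofNat 0, .ofNat 0, .ofNat 0, .ofNat 0, .ofNat 0, .ofNat 0, .ofNat 0, .ofNat 0, .ofNat 0,
  .ofNat 0, .ofNat 0, .ofNat 0, .ofNat 0, .ofNat 0, .ofNat 0, .ofNat 1, .ofNat 1, .ofNat 1, .ofNat 0,
  .ofNat 0, .ofNat 0, .ofNat 0, .ofNat 0, .ofNat 0, .ofNat 0, .ofNat 0, .ofNat 1, .ofNat 0, .ofNat 0,
  .negSucc 0, .ofNat 0, .negSucc 1, .ofNat 0, .ofNat 0, .negSucc 1, .negSucc 0, .ofNat 0, .negSucc 1,
  .ofNat 0, .ofNat 0, .ofNat 0, .ofNat 0, .ofNat 0, .ofNat 0, .ofNat 0, .ofNat 0, .ofNat 0, .ofNat 0,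
  .ofNat 0, .ofNat 0, .ofNat 0, .ofNat 0, .ofNat 0, .ofNat 0, .ofNat 0]

/-- the values at the type 138 -/
def cX138 : List ℤ :=
  [.ofNat 2, .ofNat 0, .negSucc 1, .ofNat 0, .ofNat 0, .ofNat 0, .ofNat 0, .ofNat 2, .ofNat 0, .ofNat 0,
  .ofNat 0, .ofNat 0, .ofNat 0, .ofNat 0, .ofNat 0, .ofNat 0, .ofNat 0, .ofNat 0, .ofNat 0, .ofNat 0,
  .ofNat 0, .ofNat 0, .ofNat 0, .ofNat 0, .ofNat 0, .ofNat 0, .negSucc 1, .negSucc 1, .negSucc 1, .ofNat 0,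
  .ofNat 0, .ofNat 0, .ofNat 0, .ofNat 0, .ofNat 0, .ofNat 0, .ofNat 0, .negSucc 1, .ofNat 0, .ofNat 0,
  .ofNat 2, .ofNat 0, .ofNat 4, .ofNat 0, .ofNat 0, .ofNat 4, .ofNat 2, .ofNat 0, .ofNat 4, .ofNat 0,
  .ofNat 0, .ofNat 0, .ofNat 0, .ofNat 0, .ofNat 0, .ofNat 0, .ofNat 0, .ofNat 0, .ofNat 0, .ofNat 0,
  .ofNat 0, .ofNat 0, .ofNat 0, .ofNat 0, .ofNat 0, .ofNat 0]

/-- the values at the type 139 -/
def cX139 : List ℤ :=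
  [.negSucc 1, .negSucc 1, .ofNat 2, .ofNat 2, .ofNat 0, .ofNat 2, .negSucc 1, .ofNat 0, .negSucc 1,
  .negSucc 1, .ofNat 0, .ofNat 2, .ofNat 2, .ofNat 2, .negSucc 1, .ofNat 2, .ofNat 2, .negSucc 1, .ofNat 0,
  .ofNat 0, .ofNat 0, .ofNat 2, .ofNat 2, .ofNat 0, .ofNat 0, .ofNat 2, .ofNat 0, .ofNat 0, .ofNat 0,
  .ofNat 0, .negSucc 1, .ofNat 0, .ofNat 0, .ofNat 0, .ofNat 0, .ofNat 0, .ofNat 0, .ofNat 0, .ofNat 0,
  .ofNat 0, .ofNat 0, .ofNat 2, .ofNat 0, .ofNat 0, .ofNat 0, .ofNat 4, .ofNat 0, .ofNat 0, .ofNat 0,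
  .ofNat 2, .negSucc 1, .ofNat 2, .negSucc 1, .negSucc 1, .ofNat 0, .ofNat 0, .ofNat 0, .negSucc 1, .ofNat 0,
  .ofNat 0, .ofNat 0, .negSucc 1, .ofNat 0, .ofNat 0, .negSucc 1, .ofNat 0]

/-- the values at the type 140 -/
def cX140 : List ℤ :=
  [.ofNat 1, .ofNat 1, .negSucc 0, .negSucc 0, .ofNat 0, .negSucc 0, .ofNat 1, .ofNat 0, .ofNat 1, .ofNat 1,
  .ofNat 0, .negSucc 0, .negSucc 0, .negSucc 0, .ofNat 1, .negSucc 0, .negSucc 0, .ofNat 1, .ofNat 0,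
  .ofNat 0, .ofNat 0, .negSucc 0, .negSucc 0, .ofNat 0, .ofNat 0, .negSucc 0, .ofNat 0, .ofNat 0, .ofNat 0,
  .ofNat 0, .ofNat 1, .ofNat 0, .ofNat 0, .ofNat 0, .ofNat 0, .ofNat 0, .ofNat 0, .ofNat 0, .ofNat 0,
  .ofNat 0, .ofNat 0, .negSucc 0, .ofNat 0, .ofNat 0, .ofNat 0, .negSucc 1, .ofNat 0, .ofNat 0, .ofNat 0,
  .negSucc 0, .ofNat 1, .negSucc 0, .ofNat 1, .ofNat 1, .ofNat 0, .ofNat 0, .ofNat 0, .ofNat 1, .ofNat 0,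
  .ofNat 0, .ofNat 0, .ofNat 1, .ofNat 0, .ofNat 0, .ofNat 1, .ofNat 0]

/-- the values at the type 141 -/
def cX141 : List ℤ :=
  [.negSucc 1, .negSucc 3, .ofNat 4, .negSucc 1, .negSucc 3, .negSucc 1, .negSucc 1, .ofNat 6, .ofNat 0,
  .ofNat 0, .ofNat 0, .ofNat 2, .ofNat 0, .ofNat 0, .ofNat 2, .ofNat 0, .ofNat 4, .ofNat 0, .negSucc 5,
  .ofNat 0, .ofNat 2, .negSucc 5, .negSucc 1, .ofNat 6, .negSucc 1, .negSucc 1, .ofNat 0, .ofNat 6,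
  .negSucc 1, .ofNat 6, .ofNat 2, .ofNat 0, .ofNat 0, .ofNat 0, .ofNat 0, .ofNat 0, .ofNat 0, .negSucc 3,
  .ofNat 0, .ofNat 0, .ofNat 0, .ofNat 0, .ofNat 0, .ofNat 4, .ofNat 0, .ofNat 0, .ofNat 0, .ofNat 0,
  .ofNat 0, .ofNat 6, .ofNat 0, .negSucc 3, .ofNat 0, .ofNat 4, .ofNat 0, .ofNat 6, .negSucc 1, .negSucc 1,
  .negSucc 3, .negSucc 1, .ofNat 2, .ofNat 2, .negSucc 3, .ofNat 6, .negSucc 1, .negSucc 1]

/-- the values at the type 142 -/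
def cX142 : List ℤ :=
  [.ofNat 1, .ofNat 2, .negSucc 1, .ofNat 1, .ofNat 2, .ofNat 1, .ofNat 1, .negSucc 2, .ofNat 0, .ofNat 0,
  .ofNat 0, .negSucc 0, .ofNat 0, .ofNat 0, .negSucc 0, .ofNat 0, .negSucc 1, .ofNat 0, .ofNat 3, .ofNat 0,
  .negSucc 0, .ofNat 3, .ofNat 1, .negSucc 2, .ofNat 1, .ofNat 1, .ofNat 0, .negSucc 2, .ofNat 1, .negSucc 2,
  .negSucc 0, .ofNat 0, .ofNat 0, .ofNat 0, .ofNat 0, .ofNat 0, .ofNat 0, .ofNat 2, .ofNat 0, .ofNat 0,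
  .ofNat 0, .ofNat 0, .ofNat 0, .negSucc 1, .ofNat 0, .ofNat 0, .ofNat 0, .ofNat 0, .ofNat 0, .negSucc 2,
  .ofNat 0, .ofNat 2, .ofNat 0, .negSucc 1, .ofNat 0, .negSucc 2, .ofNat 1, .ofNat 1, .ofNat 2, .ofNat 1,
  .negSucc 0, .negSucc 0, .ofNat 2, .negSucc 2, .ofNat 1, .ofNat 1]

/-- the values at the type 143 -/
def cX143 : List ℤ :=
  [.ofNat 0, .ofNat 2, .ofNat 0, .ofNat 0, .ofNat 0, .ofNat 0, .ofNat 0, .ofNat 0, .ofNat 0, .ofNat 0,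
  .ofNat 0, .ofNat 0, .ofNat 0, .ofNat 0, .ofNat 0, .ofNat 0, .ofNat 0, .ofNat 0, .ofNat 0, .ofNat 2,
  .ofNat 0, .ofNat 0, .ofNat 0, .ofNat 0, .ofNat 0, .ofNat 0, .ofNat 0, .negSucc 1, .negSucc 1, .ofNat 0,
  .ofNat 0, .ofNat 0, .ofNat 2, .ofNat 0, .ofNat 2, .ofNat 2, .ofNat 0, .negSucc 1, .ofNat 0, .ofNat 0,
  .ofNat 0, .ofNat 0, .negSucc 3, .ofNat 0, .ofNat 0, .ofNat 0, .ofNat 0, .ofNat 0, .negSucc 1, .ofNat 0,
  .ofNat 2, .ofNat 0, .negSucc 3, .negSucc 1, .ofNat 2, .negSucc 1, .negSucc 1, .ofNat 2, .ofNat 4, .ofNat 4,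
  .negSucc 1, .negSucc 1, .negSucc 1, .negSucc 1, .ofNat 2, .ofNat 2]

/-- the values at the type 144 -/
def cX144 : List ℤ :=
  [.ofNat 0, .negSucc 0, .ofNat 0, .ofNat 0, .ofNat 0, .ofNat 0, .ofNat 0, .ofNat 0, .ofNat 0, .ofNat 0,
  .ofNat 0, .ofNat 0, .ofNat 0, .ofNat 0, .ofNat 0, .ofNat 0, .ofNat 0, .ofNat 0, .ofNat 0, .negSucc 0,
  .ofNat 0, .ofNat 0, .ofNat 0, .ofNat 0, .ofNat 0, .ofNat 0, .ofNat 0, .ofNat 1, .ofNat 1, .ofNat 0,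
  .ofNat 0, .ofNat 0, .negSucc 0, .ofNat 0, .negSucc 0, .negSucc 0, .ofNat 0, .ofNat 1, .ofNat 0, .ofNat 0,
  .ofNat 0, .ofNat 0, .ofNat 2, .ofNat 0, .ofNat 0, .ofNat 0, .ofNat 0, .ofNat 0, .ofNat 1, .ofNat 0,
  .negSucc 0, .ofNat 0, .ofNat 2, .ofNat 1, .negSucc 0, .ofNat 1, .ofNat 1, .negSucc 0, .negSucc 1,
  .negSucc 1, .ofNat 1, .ofNat 1, .ofNat 1, .ofNat 1, .negSucc 0, .negSucc 0]

/-- the values at the type 145 -/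
def cX145 : List ℤ :=
  [.negSucc 1, .ofNat 0, .ofNat 2, .ofNat 0, .negSucc 1, .ofNat 0, .ofNat 0, .ofNat 0, .ofNat 2, .ofNat 2,
  .ofNat 2, .ofNat 0, .ofNat 2, .negSucc 1, .ofNat 0, .negSucc 1, .ofNat 0, .ofNat 2, .negSucc 1, .ofNat 0,
  .ofNat 0, .ofNat 2, .ofNat 0, .ofNat 0, .ofNat 0, .ofNat 0, .ofNat 0, .negSucc 1, .negSucc 1, .ofNat 2,
  .ofNat 0, .ofNat 2, .ofNat 0, .ofNat 2, .ofNat 0, .ofNat 0, .negSucc 3, .negSucc 1, .ofNat 0, .ofNat 0,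
  .negSucc 1, .ofNat 0, .ofNat 0, .ofNat 0, .ofNat 0, .ofNat 0, .ofNat 0, .ofNat 0, .ofNat 0, .ofNat 2,
  .negSucc 5, .ofNat 0, .ofNat 4, .ofNat 0, .negSucc 3, .ofNat 2, .ofNat 2, .ofNat 0, .negSucc 1, .negSucc 1,
  .ofNat 2, .ofNat 2, .ofNat 4, .ofNat 2, .ofNat 0, .negSucc 1]

/-- the values at the type 146 -/
def cX146 : List ℤ :=
  [.ofNat 1, .ofNat 0, .negSucc 0, .ofNat 0, .ofNat 1, .ofNat 0, .ofNat 0, .ofNat 0, .negSucc 0, .negSucc 0,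
  .negSucc 0, .ofNat 0, .negSucc 0, .ofNat 1, .ofNat 0, .ofNat 1, .ofNat 0, .negSucc 0, .ofNat 1, .ofNat 0,
  .ofNat 0, .negSucc 0, .ofNat 0, .ofNat 0, .ofNat 0, .ofNat 0, .ofNat 0, .ofNat 1, .ofNat 1, .negSucc 0,
  .ofNat 0, .negSucc 0, .ofNat 0, .negSucc 0, .ofNat 0, .ofNat 0, .ofNat 2, .ofNat 1, .ofNat 0, .ofNat 0,
  .ofNat 1, .ofNat 0, .ofNat 0, .ofNat 0, .ofNat 0, .ofNat 0, .ofNat 0, .ofNat 0, .ofNat 0, .negSucc 0,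
  .ofNat 3, .ofNat 0, .negSucc 1, .ofNat 0, .ofNat 2, .negSucc 0, .negSucc 0, .ofNat 0, .ofNat 1, .ofNat 1,
  .negSucc 0, .negSucc 0, .negSucc 1, .negSucc 0, .ofNat 0, .ofNat 1]

/-- the values at the type 147 -/
def cX147 : List ℤ :=
  [.ofNat 0, .ofNat 0, .ofNat 0, .ofNat 0, .ofNat 0, .ofNat 0, .ofNat 0, .ofNat 0, .ofNat 0, .ofNat 0,
  .ofNat 0, .ofNat 0, .ofNat 0, .ofNat 0, .ofNat 0, .ofNat 0, .ofNat 0, .ofNat 0, .ofNat 0, .ofNat 0,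
  .ofNat 0, .ofNat 0, .ofNat 0, .ofNat 0, .ofNat 0, .ofNat 0, .ofNat 0, .ofNat 0, .ofNat 0, .ofNat 0,
  .ofNat 0, .ofNat 0, .ofNat 0, .ofNat 0, .ofNat 0, .ofNat 0, .ofNat 0, .ofNat 0, .ofNat 0, .ofNat 0,
  .ofNat 0, .ofNat 0, .ofNat 0, .ofNat 0, .ofNat 0, .ofNat 0, .ofNat 0, .ofNat 0, .ofNat 0, .ofNat 0,
  .ofNat 0, .ofNat 0, .ofNat 0, .ofNat 0, .ofNat 0, .ofNat 0, .ofNat 0, .ofNat 0, .ofNat 0, .ofNat 0,
  .ofNat 0, .ofNat 0, .ofNat 0, .ofNat 0, .ofNat 0, .ofNat 0]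

/-- the values at the type 148 -/
def cX148 : List ℤ :=
  [.negSucc 1, .ofNat 0, .ofNat 0, .negSucc 3, .ofNat 0, .ofNat 4, .ofNat 0, .ofNat 0, .ofNat 0, .negSucc 1,
  .ofNat 0, .negSucc 1, .ofNat 0, .ofNat 0, .negSucc 1, .ofNat 0, .ofNat 0, .ofNat 2, .negSucc 1, .ofNat 2,
  .negSucc 1, .ofNat 0, .negSucc 1, .ofNat 2, .negSucc 1, .ofNat 2, .negSucc 1, .negSucc 1, .ofNat 2,
  .ofNat 0, .negSucc 1, .ofNat 0, .ofNat 0, .ofNat 0, .ofNat 0, .ofNat 0, .ofNat 0, .ofNat 0, .ofNat 0,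
  .ofNat 0, .ofNat 0, .ofNat 0, .ofNat 0, .ofNat 4, .ofNat 4, .ofNat 0, .ofNat 0, .ofNat 0, .ofNat 0,
  .ofNat 2, .ofNat 0, .negSucc 1, .ofNat 2, .ofNat 4, .ofNat 0, .ofNat 2, .ofNat 4, .negSucc 1, .ofNat 0,
  .negSucc 3, .ofNat 2, .ofNat 2, .ofNat 4, .ofNat 2, .negSucc 1, .negSucc 1]

/-- the values at the type 149 -/
def cX149 : List ℤ :=
  [.ofNat 1, .ofNat 0, .ofNat 0, .ofNat 2, .ofNat 0, .negSucc 1, .ofNat 0, .ofNat 0, .ofNat 0, .ofNat 1,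
  .ofNat 0, .ofNat 1, .ofNat 0, .ofNat 0, .ofNat 1, .ofNat 0, .ofNat 0, .negSucc 0, .ofNat 1, .negSucc 0,
  .ofNat 1, .ofNat 0, .ofNat 1, .negSucc 0, .ofNat 1, .negSucc 0, .ofNat 1, .ofNat 1, .negSucc 0, .ofNat 0,
  .ofNat 1, .ofNat 0, .ofNat 0, .ofNat 0, .ofNat 0, .ofNat 0, .ofNat 0, .ofNat 0, .ofNat 0, .ofNat 0,
  .ofNat 0, .ofNat 0, .ofNat 0, .negSucc 1, .negSucc 1, .ofNat 0, .ofNat 0, .ofNat 0, .ofNat 0, .negSucc 0,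
  .ofNat 0, .ofNat 1, .negSucc 0, .negSucc 1, .ofNat 0, .negSucc 0, .negSucc 1, .ofNat 1, .ofNat 0, .ofNat 2,
  .negSucc 0, .negSucc 0, .negSucc 1, .negSucc 0, .ofNat 1, .ofNat 1]

/-- the values at the type 150 -/
def cX150 : List ℤ :=
  [.ofNat 0, .ofNat 0, .ofNat 0, .ofNat 0, .ofNat 0, .ofNat 0, .ofNat 0, .ofNat 0, .ofNat 0, .ofNat 0,
  .ofNat 0, .ofNat 0, .ofNat 0, .ofNat 0, .ofNat 0, .ofNat 0, .ofNat 0, .ofNat 0, .ofNat 0, .ofNat 0,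
  .ofNat 0, .ofNat 0, .ofNat 0, .ofNat 0, .ofNat 0, .ofNat 0, .ofNat 0, .ofNat 0, .ofNat 0, .ofNat 0,
  .ofNat 0, .ofNat 0, .ofNat 0, .ofNat 0, .ofNat 0, .ofNat 0, .ofNat 0, .ofNat 0, .ofNat 0, .ofNat 0,
  .ofNat 0, .ofNat 0, .ofNat 0, .ofNat 0, .ofNat 0, .ofNat 0, .ofNat 0, .ofNat 0, .ofNat 0, .ofNat 0,
  .ofNat 0, .ofNat 0, .ofNat 0, .ofNat 0, .ofNat 0, .ofNat 0, .ofNat 0, .ofNat 0, .ofNat 0, .ofNat 0,
  .ofNat 0, .ofNat 0, .ofNat 0, .ofNat 0, .ofNat 0, .ofNat 0]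

/-- the values at the type 151 -/
def cX151 : List ℤ :=
  [.ofNat 0, .ofNat 0, .ofNat 0, .ofNat 0, .ofNat 0, .ofNat 0, .ofNat 0, .ofNat 0, .ofNat 0, .ofNat 0,
  .ofNat 0, .ofNat 0, .ofNat 0, .ofNat 0, .ofNat 0, .ofNat 0, .ofNat 0, .ofNat 0, .ofNat 0, .ofNat 0,
  .ofNat 0, .ofNat 0, .ofNat 0, .ofNat 0, .ofNat 0, .ofNat 0, .ofNat 0, .ofNat 0, .ofNat 0, .ofNat 0,
  .ofNat 0, .ofNat 0, .ofNat 0, .ofNat 0, .ofNat 0, .ofNat 0, .ofNat 0, .ofNat 0, .ofNat 0, .ofNat 0,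
  .ofNat 0, .ofNat 0, .ofNat 0, .ofNat 0, .ofNat 0, .ofNat 0, .ofNat 0, .ofNat 0, .ofNat 0, .ofNat 0,
  .ofNat 0, .ofNat 0, .ofNat 0, .ofNat 0, .ofNat 0, .ofNat 0, .ofNat 0, .ofNat 0, .ofNat 0, .ofNat 0,
  .ofNat 0, .ofNat 0, .ofNat 0, .ofNat 0, .ofNat 0, .ofNat 0]

/-- the values at the type 152 -/
def cX152 : List ℤ :=
  [.ofNat 0, .ofNat 0, .ofNat 0, .ofNat 0, .ofNat 0, .ofNat 0, .ofNat 0, .ofNat 0, .ofNat 0, .ofNat 0,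
  .ofNat 0, .ofNat 0, .ofNat 0, .ofNat 0, .ofNat 0, .ofNat 0, .ofNat 0, .ofNat 0, .ofNat 0, .ofNat 0,
  .ofNat 0, .ofNat 0, .ofNat 0, .ofNat 0, .ofNat 0, .ofNat 0, .ofNat 0, .ofNat 0, .ofNat 0, .ofNat 0,
  .ofNat 0, .ofNat 0, .ofNat 0, .ofNat 0, .ofNat 0, .ofNat 0, .ofNat 0, .ofNat 0, .ofNat 0, .ofNat 0,
  .ofNat 0, .ofNat 0, .ofNat 0, .ofNat 0, .ofNat 0, .ofNat 0, .ofNat 0, .ofNat 0, .ofNat 0, .ofNat 0,
  .ofNat 0, .ofNat 0, .ofNat 0, .ofNat 0, .ofNat 0, .ofNat 0, .ofNat 0, .ofNat 0, .ofNat 0, .ofNat 0,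
  .ofNat 0, .ofNat 0, .ofNat 0, .ofNat 0, .ofNat 0, .ofNat 0]

/-- the values at the type 153 -/
def cX153 : List ℤ :=
  [.negSucc 3, .ofNat 4, .negSucc 3, .ofNat 4, .ofNat 0, .ofNat 0, .ofNat 4, .ofNat 0, .ofNat 0, .ofNat 0,
  .negSucc 3, .ofNat 0, .ofNat 0, .ofNat 4, .ofNat 0, .ofNat 0, .ofNat 0, .ofNat 4, .ofNat 0, .ofNat 0,
  .ofNat 0, .ofNat 4, .ofNat 0, .ofNat 4, .ofNat 0, .negSucc 3, .ofNat 0, .ofNat 4, .ofNat 0, .negSucc 3,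
  .ofNat 0, .ofNat 0, .ofNat 0, .ofNat 0, .ofNat 0, .negSucc 3, .ofNat 0, .negSucc 3, .ofNat 0, .ofNat 0,
  .ofNat 0, .ofNat 0, .ofNat 0, .ofNat 0, .ofNat 0, .ofNat 0, .ofNat 0, .ofNat 0, .ofNat 0, .ofNat 4,
  .negSucc 7, .negSucc 3, .ofNat 0, .ofNat 8, .negSucc 3, .ofNat 4, .ofNat 4, .negSucc 7, .negSucc 3,
  .negSucc 3, .ofNat 4, .ofNat 4, .ofNat 4, .ofNat 4, .ofNat 0, .negSucc 3]

/-- the values at the type 154 -/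
def cX154 : List ℤ :=
  [.ofNat 2, .negSucc 1, .ofNat 2, .negSucc 1, .ofNat 0, .ofNat 0, .negSucc 1, .ofNat 0, .ofNat 0, .ofNat 0,
  .ofNat 2, .ofNat 0, .ofNat 0, .negSucc 1, .ofNat 0, .ofNat 0, .ofNat 0, .negSucc 1, .ofNat 0, .ofNat 0,
  .ofNat 0, .negSucc 1, .ofNat 0, .negSucc 1, .ofNat 0, .ofNat 2, .ofNat 0, .negSucc 1, .ofNat 0, .ofNat 2,
  .ofNat 0, .ofNat 0, .ofNat 0, .ofNat 0, .ofNat 0, .ofNat 2, .ofNat 0, .ofNat 2, .ofNat 0, .ofNat 0,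
  .ofNat 0, .ofNat 0, .ofNat 0, .ofNat 0, .ofNat 0, .ofNat 0, .ofNat 0, .ofNat 0, .ofNat 0, .negSucc 1,
  .ofNat 4, .ofNat 2, .ofNat 0, .negSucc 3, .ofNat 2, .negSucc 1, .negSucc 1, .ofNat 4, .ofNat 2, .ofNat 2,
  .negSucc 1, .negSucc 1, .negSucc 1, .negSucc 1, .ofNat 0, .ofNat 2]

/-- the values at the type 155 -/
def cX155 : List ℤ :=
  [.ofNat 1, .negSucc 0, .ofNat 0, .ofNat 0, .ofNat 0, .ofNat 0, .negSucc 0, .ofNat 0, .negSucc 0, .ofNat 0,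
  .ofNat 0, .ofNat 0, .ofNat 0, .ofNat 0, .negSucc 0, .ofNat 1, .ofNat 0, .ofNat 2, .ofNat 0, .ofNat 0,
  .ofNat 0, .ofNat 1, .ofNat 0, .ofNat 0, .ofNat 0, .negSucc 0, .ofNat 0, .ofNat 0, .ofNat 0, .ofNat 0,
  .ofNat 0, .ofNat 0, .ofNat 0, .ofNat 0, .negSucc 0, .negSucc 0, .ofNat 0, .ofNat 0, .ofNat 0, .ofNat 0,
  .ofNat 0, .ofNat 0, .negSucc 0, .ofNat 0, .ofNat 0, .ofNat 0, .ofNat 0, .negSucc 0, .ofNat 0, .ofNat 0,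
  .ofNat 2, .ofNat 1, .negSucc 0, .negSucc 0, .ofNat 0, .negSucc 0, .negSucc 0, .ofNat 2, .ofNat 1, .ofNat 1,
  .negSucc 0, .negSucc 0, .negSucc 0, .negSucc 0, .ofNat 2, .ofNat 1]

/-- the values at the type 156 -/
def cX156 : List ℤ :=
  [.negSucc 1, .ofNat 2, .ofNat 0, .ofNat 0, .ofNat 0, .ofNat 0, .ofNat 2, .ofNat 0, .ofNat 2, .ofNat 0,
  .ofNat 0, .ofNat 0, .ofNat 0, .ofNat 0, .ofNat 2, .negSucc 1, .ofNat 0, .negSucc 3, .ofNat 0, .ofNat 0,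
  .ofNat 0, .negSucc 1, .ofNat 0, .ofNat 0, .ofNat 0, .ofNat 2, .ofNat 0, .ofNat 0, .ofNat 0, .ofNat 0,
  .ofNat 0, .ofNat 0, .ofNat 0, .ofNat 0, .ofNat 2, .ofNat 2, .ofNat 0, .ofNat 0, .ofNat 0, .ofNat 0,
  .ofNat 0, .ofNat 0, .ofNat 2, .ofNat 0, .ofNat 0, .ofNat 0, .ofNat 0, .ofNat 2, .ofNat 0, .ofNat 0,
  .negSucc 3, .negSucc 1, .ofNat 2, .ofNat 2, .ofNat 0, .ofNat 2, .ofNat 2, .negSucc 3, .negSucc 1,
  .negSucc 1, .ofNat 2, .ofNat 2, .ofNat 2, .ofNat 2, .negSucc 3, .negSucc 1]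

/-- the values at the type 157 -/
def cX157 : List ℤ :=
  [.ofNat 2, .ofNat 2, .negSucc 1, .ofNat 0, .negSucc 1, .ofNat 2, .ofNat 2, .ofNat 2, .ofNat 0, .ofNat 0,
  .ofNat 2, .ofNat 0, .ofNat 0, .ofNat 0, .ofNat 0, .ofNat 0, .negSucc 1, .ofNat 0, .negSucc 1, .ofNat 0,
  .negSucc 1, .ofNat 0, .ofNat 0, .ofNat 0, .ofNat 0, .ofNat 0, .ofNat 0, .ofNat 2, .ofNat 2, .ofNat 0,
  .ofNat 0, .ofNat 0, .ofNat 0, .ofNat 0, .ofNat 0, .ofNat 0, .ofNat 0, .ofNat 2, .ofNat 0, .ofNat 0,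
  .ofNat 0, .ofNat 0, .ofNat 0, .ofNat 2, .ofNat 0, .ofNat 0, .ofNat 0, .ofNat 0, .ofNat 0, .ofNat 0,
  .ofNat 0, .ofNat 2, .negSucc 1, .negSucc 3, .ofNat 2, .ofNat 0, .negSucc 3, .ofNat 2, .ofNat 2, .ofNat 2,
  .negSucc 1, .negSucc 3, .negSucc 1, .negSucc 3, .ofNat 2, .ofNat 2]

/-- the values at the type 158 -/
def cX158 : List ℤ :=
  [.negSucc 0, .negSucc 0, .ofNat 1, .ofNat 0, .ofNat 1, .negSucc 0, .negSucc 0, .negSucc 0, .ofNat 0,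
  .ofNat 0, .negSucc 0, .ofNat 0, .ofNat 0, .ofNat 0, .ofNat 0, .ofNat 0, .ofNat 1, .ofNat 0, .ofNat 1,
  .ofNat 0, .ofNat 1, .ofNat 0, .ofNat 0, .ofNat 0, .ofNat 0, .ofNat 0, .ofNat 0, .negSucc 0, .negSucc 0,
  .ofNat 0, .ofNat 0, .ofNat 0, .ofNat 0, .ofNat 0, .ofNat 0, .ofNat 0, .ofNat 0, .negSucc 0, .ofNat 0,
  .ofNat 0, .ofNat 0, .ofNat 0, .ofNat 0, .negSucc 0, .ofNat 0, .ofNat 0, .ofNat 0, .ofNat 0, .ofNat 0,
  .ofNat 0, .ofNat 0, .negSucc 0, .ofNat 1, .ofNat 2, .negSucc 0, .ofNat 0, .ofNat 2, .negSucc 0, .negSucc 0,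
  .negSucc 0, .ofNat 1, .ofNat 2, .ofNat 1, .ofNat 2, .negSucc 0, .negSucc 0]

/-- the values at the type 159 -/
def cX159 : List ℤ :=
  [.ofNat 2, .ofNat 0, .ofNat 0, .negSucc 1, .negSucc 3, .ofNat 2, .ofNat 2, .negSucc 1, .ofNat 0, .ofNat 0,
  .negSucc 3, .ofNat 2, .ofNat 0, .ofNat 0, .ofNat 2, .ofNat 0, .ofNat 0, .ofNat 0, .ofNat 2, .ofNat 0,
  .negSucc 1, .negSucc 1, .negSucc 1, .ofNat 2, .negSucc 1, .negSucc 1, .ofNat 0, .negSucc 1, .ofNat 2,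
  .ofNat 2, .ofNat 2, .ofNat 0, .ofNat 0, .ofNat 0, .ofNat 0, .ofNat 0, .ofNat 0, .ofNat 0, .ofNat 0,
  .ofNat 0, .ofNat 0, .ofNat 0, .ofNat 0, .negSucc 3, .ofNat 0, .ofNat 0, .ofNat 0, .ofNat 0, .ofNat 0,
  .ofNat 2, .ofNat 0, .ofNat 8, .negSucc 3, .negSucc 3, .ofNat 4, .negSucc 5, .ofNat 2, .ofNat 2, .ofNat 0,
  .ofNat 2, .negSucc 1, .ofNat 2, .negSucc 3, .negSucc 1, .ofNat 2, .ofNat 2]

/-- the values at the type 160 -/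
def cX160 : List ℤ :=
  [.negSucc 0, .ofNat 0, .ofNat 0, .ofNat 1, .ofNat 2, .negSucc 0, .negSucc 0, .ofNat 1, .ofNat 0, .ofNat 0,
  .ofNat 2, .negSucc 0, .ofNat 0, .ofNat 0, .negSucc 0, .ofNat 0, .ofNat 0, .ofNat 0, .negSucc 0, .ofNat 0,
  .ofNat 1, .ofNat 1, .ofNat 1, .negSucc 0, .ofNat 1, .ofNat 1, .ofNat 0, .ofNat 1, .negSucc 0, .negSucc 0,
  .negSucc 0, .ofNat 0, .ofNat 0, .ofNat 0, .ofNat 0, .ofNat 0, .ofNat 0, .ofNat 0, .ofNat 0, .ofNat 0,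
  .ofNat 0, .ofNat 0, .ofNat 0, .ofNat 2, .ofNat 0, .ofNat 0, .ofNat 0, .ofNat 0, .ofNat 0, .negSucc 0,
  .ofNat 0, .negSucc 3, .ofNat 2, .ofNat 2, .negSucc 1, .ofNat 3, .negSucc 0, .negSucc 0, .ofNat 0,
  .negSucc 0, .ofNat 1, .negSucc 0, .ofNat 2, .ofNat 1, .negSucc 0, .negSucc 0]

/-- the columns -/
def colsX : List (List ℤ) :=
  [cX0, cX1, cX2, cX3, cX4, cX5, cX6, cX7, cX8, cX9, cX10, cX11, cX12, cX13, cX14, cX15, cX16, cX17, cX18,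
  cX19, cX20, cX21, cX22, cX23, cX24, cX25, cX26, cX27, cX28, cX29, cX30, cX31, cX32, cX33, cX34, cX35, cX36,
  cX37, cX38, cX39, cX40, cX41, cX42, cX43, cX44, cX45, cX46, cX47, cX48, cX49, cX50, cX51, cX52, cX53, cX54,
  cX55, cX56, cX57, cX58, cX59, cX60, cX61, cX62, cX63, cX64, cX65, cX66, cX67, cX68, cX69, cX70, cX71, cX72,
  cX73, cX74, cX75, cX76, cX77, cX78, cX79, cX80, cX81, cX82, cX83, cX84, cX85, cX86, cX87, cX88, cX89, cX90,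
  cX91, cX92, cX93, cX94, cX95, cX96, cX97, cX98, cX99, cX100, cX101, cX102, cX103, cX104, cX105, cX106,
  cX107, cX108, cX109, cX110, cX111, cX112, cX113, cX114, cX115, cX116, cX117, cX118, cX119, cX120, cX121,
  cX122, cX123, cX124, cX125, cX126, cX127, cX128, cX129, cX130, cX131, cX132, cX133, cX134, cX135, cX136,
  cX137, cX138, cX139, cX140, cX141, cX142, cX143, cX144, cX145, cX146, cX147, cX148, cX149, cX150, cX151,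
  cX152, cX153, cX154, cX155, cX156, cX157, cX158, cX159, cX160]

/-- the norms -/
def nmX : List ℕ :=
  [2, 2, 2, 2, 2, 2, 2, 2, 2, 2, 2, 2, 2, 2, 2, 2, 2, 2, 2, 2, 2, 2, 2, 2, 2, 2, 2, 2, 2, 2, 2, 2, 2, 2, 2,
  2, 2, 2, 2, 2, 2, 2, 4, 4, 4, 4, 4, 4, 4]

/-- the coefficients of the faithful part of the regular character -/
def regX : List ℤ :=
  [.ofNat 64584, .ofNat 306153, .ofNat 6724809, .ofNat 19034730, .ofNat 43779879, .ofNat 203843871,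
  .ofNat 1050717096, .ofNat 1553430879, .ofNat 1818548820, .ofNat 2400239520, .ofNat 4290428142,
  .ofNat 4620461076, .ofNat 9456453864, .ofNat 10726070355, .ofNat 12258366120, .ofNat 14507059905,
  .ofNat 15016498497, .ofNat 21014341920, .ofNat 21122107776, .ofNat 34128405675, .ofNat 41785039296,
  .ofNat 63831063582, .ofNat 78346948680, .ofNat 80256172032, .ofNat 80256172032, .ofNat 84057367680,
  .ofNat 103562058600, .ofNat 135605256192, .ofNat 135605256192, .ofNat 142169187069, .ofNat 150164984970,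
  .ofNat 154455413112, .ofNat 160255122300, .ofNat 178514751987, .ofNat 185161334400, .ofNat 203775436800,
  .ofNat 210555861318, .ofNat 215861428224, .ofNat 256966819200, .ofNat 259900935525, .ofNat 274910709213,
  .ofNat 405445459419, .ofNat 216154575, .ofNat 1152161010, .ofNat 1255560075, .ofNat 1349587008,
  .ofNat 8250621525, .ofNat 8993909925, .ofNat 151397207325, .ofNat 306153, .ofNat 25356672,
  .ofNat 195019461, .ofNat 195019461, .ofNat 330032934, .ofNat 2801912256, .ofNat 3264456195,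
  .ofNat 4416617205, .ofNat 21096751104, .ofNat 21842179632, .ofNat 34128405675, .ofNat 115511526900,
  .ofNat 120131987976, .ofNat 274587401088, .ofNat 295709508864, .ofNat 358644768768, .ofNat 375412462425]

theorem okLenX : DX.okLen := ⟨by decide +kernel, by decide +kernel, by decide +kernel⟩

theorem gramX : chkG DX (colsX.map (List.take nmX.length)) (nmX.map fun n => (n, 0)) 4 (3 ^ 56) = true := by
  decide +kernel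

theorem finX : okF DX colsX regX proj 3765617127571985163878400 1255205709190661721292800 = true := by
  decide +kernel

end Cfsg.Agent.TAB.F24
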